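import Mathlib

/-!
# Small quotient groups
-/

set_option autoImplicit false

namespace Cfsg.Agent.AutPOmega.Groups

/-- A homomorphism on a group of sources gives one on the image, with prescribed kernel. -/
theorem exists_quot_hom {G X H : Type*} [Group G] [Group X] [Group H] (f : G →* X) (ψ : G →* H)
    (hψ : Function.Surjective ψ) (hle : f.ker ≤ ψ.ker) (S : Subgroup X) (hS : ψ.ker.map f = S)
    (P : Subgroup X) (hP : P = f.range) :
    ∃ φ : P →* H, Function.Surjective φ ∧ φ.ker = S.subgroupOf P := by
  subst hP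
  have hs := f.rangeRestrict_surjective
  have hle' : f.rangeRestrict.ker ≤ ψ.ker := by rwa [f.ker_rangeRestrict]
  let φ := f.rangeRestrict.liftOfSurjective hs ⟨ψ, hle'⟩
  have hφ : ∀ g, φ (f.rangeRestrict g) = ψ g := fun g =>
    f.rangeRestrict.liftOfRightInverse_comp_apply _ _ ⟨ψ, hle'⟩ g
  refine ⟨φ, fun y => ?_, ?_⟩
  · obtain ⟨g, rfl⟩ := hψ y
    exact ⟨_, hφ g⟩
  · ext x
    obtain ⟨g, rfl⟩ := hs x
    rw [MonoidHom.mem_ker, hφ, Subgroup.mem_subgroupOf, ← hS]
    refine ⟨fun h => ⟨g, h, rfl⟩, fun ⟨g', hg', he⟩ => ?_⟩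
    have he' : f (g'⁻¹ * g) = 1 := by
      rw [map_mul, map_inv, he]
      exact inv_mul_cancel _
    have h1 := hle he'
    rw [MonoidHom.mem_ker, map_mul, map_inv, MonoidHom.mem_ker.1 hg', inv_one, one_mul] at h1
    exact h1

/-- Signs as bits. -/
def bit (p : ℤˣ) : ZMod 2 := if p = 1 then 0 else 1

/-- Pairs of signs as the four-group. -/
def signPair : ℤˣ × ℤˣ →* Multiplicative (ZMod 2 × ZMod 2) :=
  MonoidHom.mk' (fun p => Multiplicative.ofAdd (bit p.1, bit p.2)) (by decide)

theorem signPair_bijective : Function.Bijective signPair := by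
  constructor
  · intro a b
    revert a b
    decide
  · intro y
    revert y
    decide

/-- Signs as the group of order two. -/
def signOne : ℤˣ →* Multiplicative (ZMod 2) :=
  MonoidHom.mk' (fun p => Multiplicative.ofAdd (bit p)) (by decide)

theorem signOne_bijective : Function.Bijective signOne := by
  constructor
  · intro a b
    revert a b
    decide
  · intro y
    revert y
    decide

theorem klein_of_two {G : Type*} [Group G] (hG : Nat.card G = 4) {a b : G} (ha : a * a = 1)
    (hb : b * b = 1) (ha1 : a ≠ 1) (hb1 : b ≠ 1) (hab : a ≠ b) :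
    Nonempty (G ≃* Multiplicative (ZMod 2 × ZMod 2)) := by
  have : Finite G := Nat.finite_of_card_ne_zero (by omega)
  have hord : ∀ g : G, g * g = 1 := by
    intro g
    have h4 : orderOf g ∣ 4 := hG ▸ orderOf_dvd_natCard g
    by_contra hne
    have h : orderOf g = 4 := by
      have h2 : ¬ orderOf g ∣ 2 := fun h => hne (by rw [← sq]; exact orderOf_dvd_iff_pow_eq_one.1 h)
      have := Nat.le_of_dvd (by norm_num) h4
      generalize orderOf g = k at *
      interval_cases k <;> omega
    have hcyc : IsCyclic G := isCyclic_of_orderOf_eq_card g (h.trans hG.symm)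
    classical
    let _ := Fintype.ofFinite G
    have h5 := IsCyclic.card_pow_eq_one_le (α := G) (show 0 < 2 by norm_num)
    have h6 : ({1, a, b} : Finset G) ⊆ Finset.univ.filter fun x : G => x ^ 2 = 1 := by
      intro x hx
      simp only [Finset.mem_insert, Finset.mem_singleton] at hx
      refine Finset.mem_filter.2 ⟨Finset.mem_univ _, ?_⟩
      rcases hx with rfl | rfl | rfl
      · exact one_pow _
      · rw [sq, ha]
      · rw [sq, hb]
    have h7 : ({1, a, b} : Finset G).card = 3 := by
      simp [Ne.symm ha1, Ne.symm hb1, hab]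
    have h8 := Finset.card_le_card h6
    omega
  have h1 : IsKleinFour G := ⟨hG, by
    refine Nat.dvd_antisymm ((Monoid.exponent_dvd_iff_forall_pow_eq_one).2 fun g => by
      rw [sq, hord]) ?_
    rw [← orderOf_eq_prime (p := 2) (by rw [sq, ha]) ha1]
    exact Monoid.order_dvd_exponent a⟩
  have h2 : IsKleinFour (Multiplicative (ZMod 2 × ZMod 2)) := by
    refine ⟨by simp, ?_⟩
    refine Nat.dvd_antisymm ((Monoid.exponent_dvd_iff_forall_pow_eq_one).2 (by decide)) ?_
    have e := orderOf_eq_prime (p := 2) (x := Multiplicative.ofAdd ((1, 0) : ZMod 2 × ZMod 2))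
      (by decide) (by decide)
    have e' := Monoid.order_dvd_exponent (Multiplicative.ofAdd ((1, 0) : ZMod 2 × ZMod 2))
    rwa [e] at e'
  exact IsKleinFour.nonempty_mulEquiv

theorem cyclic_four {G : Type*} [Group G] (hG : Nat.card G = 4) {a : G} (ha : a * a ≠ 1) :
    Nonempty (G ≃* Multiplicative (ZMod 4)) := by
  have : Finite G := Nat.finite_of_card_ne_zero (by omega)
  have h4 : orderOf a ∣ 4 := hG ▸ orderOf_dvd_natCard a
  have h2 : ¬ orderOf a ∣ 2 := fun h => ha (by rw [← sq]; exact orderOf_dvd_iff_pow_eq_one.1 h)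
  have h : orderOf a = 4 := by
    have := Nat.le_of_dvd (by norm_num) h4
    generalize orderOf a = k at *
    interval_cases k <;> omega
  have : IsCyclic G := isCyclic_of_orderOf_eq_card a (h.trans hG.symm)
  exact ⟨mulEquivOfCyclicCardEq (by simp [hG])⟩

theorem pow_val_add {G : Type*} [Group G] {w : G} (hw : w ^ 4 = 1) (i j : ZMod 4) :
    w ^ (i + j).val = w ^ i.val * w ^ j.val := by
  rw [← pow_add, ZMod.val_add]
  conv_rhs => rw [← Nat.div_add_mod (i.val + j.val) 4, pow_add, pow_mul, hw, one_pow, one_mul]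

/-- A group of order eight with two non-commuting involutions is dihedral. -/
theorem dihedral_four {G : Type*} [Group G] (hG : Nat.card G = 8) {a b : G} (ha : a * a = 1)
    (hb : b * b = 1) (hab : a * b ≠ b * a) : Nonempty (G ≃* DihedralGroup 4) := by
  have : Finite G := Nat.finite_of_card_ne_zero (by omega)
  set w := a * b with hwdef
  have ha' : a⁻¹ = a := inv_eq_of_mul_eq_one_right ha
  have hb' : b⁻¹ = b := inv_eq_of_mul_eq_one_right hb
  have hw2 : w * w ≠ 1 := fun h => hab (by
    refine (inv_eq_of_mul_eq_one_right h).symm.trans ?_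
    rw [hwdef, _root_.mul_inv_rev, ha', hb'])
  have hord : orderOf w = 4 := by
    have h8 : orderOf w ∣ 8 := hG ▸ orderOf_dvd_natCard w
    have h2 : ¬ orderOf w ∣ 2 := fun h => hw2 (by rw [← sq]; exact orderOf_dvd_iff_pow_eq_one.1 h)
    have h8' : orderOf w ≠ 8 := fun h => by
      have : IsCyclic G := isCyclic_of_orderOf_eq_card w (h.trans hG.symm)
      let _ := IsCyclic.commGroup (α := G)
      exact hab (mul_comm a b)
    have := Nat.le_of_dvd (by norm_num) h8
    generalize orderOf w = k at *
    interval_cases k <;> omega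
  have hw4 : w ^ 4 = 1 := by rw [← hord, pow_orderOf_eq_one]
  have hbw : b * w = w⁻¹ * b := by
    rw [hwdef, _root_.mul_inv_rev, ha', hb', mul_assoc]
  have hbwn : ∀ n : ℕ, b * w ^ n = (w ^ n)⁻¹ * b := by
    intro n
    induction n with
    | zero => simp
    | succ n ih =>
      rw [pow_succ, ← mul_assoc, ih, mul_assoc, hbw, ← mul_assoc, ← _root_.mul_inv_rev,
        ← pow_succ', ← pow_succ]
  have hneg : ∀ i : ZMod 4, w ^ (-i).val = (w ^ i.val)⁻¹ := fun i =>
    eq_inv_of_mul_eq_one_left (by rw [← pow_val_add hw4, neg_add_cancel, ZMod.val_zero, pow_zero])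
  let F : DihedralGroup 4 → G := fun x => match x with
    | .r i => w ^ i.val
    | .sr i => b * w ^ i.val
  have hwb : ∀ i : ZMod 4, w ^ i.val * b = b * w ^ (-i).val := fun i => by
    rw [hneg]
    have h := hbwn i.val
    calc w ^ i.val * b = b * (b * w ^ i.val) * b := by rw [← mul_assoc b b, hb, one_mul]
      _ = b * (w ^ i.val)⁻¹ := by rw [h, mul_assoc, mul_assoc, hb, mul_one]
  let f : DihedralGroup 4 →* G := MonoidHom.mk' F (by
    rintro (i | i) (j | j)
    · exact pow_val_add hw4 i j
    · show b * w ^ (j - i).val = w ^ i.val * (b * w ^ j.val)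
      rw [← mul_assoc, hwb, mul_assoc, ← pow_val_add hw4, neg_add_eq_sub]
    · show b * w ^ (i + j).val = b * w ^ i.val * w ^ j.val
      rw [mul_assoc, ← pow_val_add hw4]
    · show w ^ (j - i).val = b * w ^ i.val * (b * w ^ j.val)
      rw [mul_assoc b, ← mul_assoc (w ^ i.val), hwb, mul_assoc b, ← mul_assoc b b, hb, one_mul,
        ← pow_val_add hw4, neg_add_eq_sub])
  have hinj : Function.Injective f := by
    rw [injective_iff_map_eq_one]
    rintro (i | i) h
    · have h1 : w ^ i.val = 1 := h
      have hd : 4 ∣ i.val := by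
        have h0 := orderOf_dvd_of_pow_eq_one h1
        rwa [hord] at h0
      have h2 := Nat.eq_zero_of_dvd_of_lt hd i.val_lt
      rw [(ZMod.val_eq_zero i).1 h2]
      rfl
    · have h1 : b * w ^ i.val = 1 := h
      exfalso
      have hc : Commute b w := by
        rw [eq_inv_of_mul_eq_one_left h1]
        exact ((Commute.refl w).pow_left _).inv_left
      apply hw2
      have h3 : w⁻¹ * b = w * b := by rw [← hbw, hc.eq]
      have h4 := mul_right_cancel h3
      rw [mul_eq_one_iff_eq_inv]
      exact h4.symm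
  have hbij : Function.Bijective f :=
    (Nat.bijective_iff_injective_and_card f).2 ⟨hinj, by rw [DihedralGroup.nat_card, hG]⟩
  exact ⟨(MulEquiv.ofBijective f hbij).symm⟩

end Cfsg.Agent.AutPOmega.Groups
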