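import Cfsg.Agent.Lib.Classical.QuadClass

/-!
# Extending the scalars of quadratic forms on `K^ι`
-/

set_option autoImplicit false
set_option linter.unusedSectionVars false

namespace Cfsg.Agent.AutPOmega.BaseChange

open Matrix Cfsg.Agent.Forms.PlusStd Cfsg.Agent.Classical.OrthForms

universe u v

variable {K : Type u} {F : Type v} [Field K] [Field F] (φ : K →+* F)
variable {ι κ : Type} [Fintype ι] [DecidableEq ι] [Fintype κ] [DecidableEq κ]

/-- Quadratic maps agreeing, with their polars, on the standard basis are equal. -/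
theorem quad_ext {P R : QuadraticForm F (ι → F)} (h1 : ∀ i, P (Pi.single i 1) = R (Pi.single i 1))
    (h2 : ∀ i j, QuadraticMap.polar P (Pi.single i 1) (Pi.single j 1) =
      QuadraticMap.polar R (Pi.single i 1) (Pi.single j 1)) : P = R := by
  have hB : QuadraticMap.polarBilin P = QuadraticMap.polarBilin R :=
    LinearMap.ext_basis (Pi.basisFun F ι) (Pi.basisFun F ι) fun i j => by
      simpa using h2 i j
  refine QuadraticMap.ext fun v => ?_
  have key : ∀ s : Finset ι, P (∑ i ∈ s, v i • Pi.single i (1 : F)) =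
      R (∑ i ∈ s, v i • Pi.single i (1 : F)) := fun s => by
    induction s using Finset.induction_on with
    | empty => simp
    | insert a s ha ih =>
      rw [Finset.sum_insert ha, QuadraticMap.map_add P, QuadraticMap.map_add R,
        QuadraticMap.map_smul, QuadraticMap.map_smul, h1, ih,
        ← QuadraticMap.polarBilin_apply_apply, ← QuadraticMap.polarBilin_apply_apply, hB]
  have h := key Finset.univ
  rwa [← pi_eq_sum_univ' v] at h

/-- The coordinatewise embedding. -/
def vmap (x : ι → K) : ι → F := fun i => φ (x i)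

theorem vmap_single (i : ι) : vmap φ (Pi.single i 1 : ι → K) = Pi.single i 1 := by
  funext j
  by_cases h : j = i <;> simp [vmap, h]

theorem vmap_injective : Function.Injective (vmap φ : (ι → K) → (ι → F)) := fun x y h =>
  funext fun i => φ.injective (congrFun h i)

theorem vmap_add (x y : ι → K) : vmap φ (x + y) = vmap φ x + vmap φ y :=
  funext fun i => map_add φ _ _

/-- `P'` extends `P`. -/
def Ext (P : QuadraticForm K (ι → K)) (P' : QuadraticForm F (ι → F)) : Prop :=
  ∀ x, P' (vmap φ x) = φ (P x)

variable {φ}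

theorem Ext.polar {P : QuadraticForm K (ι → K)} {P' : QuadraticForm F (ι → F)} (h : Ext φ P P')
    (x y : ι → K) :
    QuadraticMap.polar P' (vmap φ x) (vmap φ y) = φ (QuadraticMap.polar P x y) := by
  simp only [QuadraticMap.polar, ← vmap_add, h _, map_sub]

theorem Ext.unique {P : QuadraticForm K (ι → K)} {P' R' : QuadraticForm F (ι → F)}
    (h : Ext φ P P') (h' : Ext φ P R') : P' = R' := by
  refine quad_ext (fun i => ?_) (fun i j => ?_)
  · rw [← vmap_single φ i, h, h']
  · rw [← vmap_single φ i, ← vmap_single φ j, h.polar, h'.polar]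

variable (φ)

theorem ext_plusQ (m : ℕ) : Ext φ (plusQ K m) (plusQ F m) := fun x => by
  simp [plusQ_apply, Cfsg.quadFormPlus, vmap, map_sum]

theorem ext_minQ (k : ℕ) (a b : K) : Ext φ (minQ K k a b) (minQ F k (φ a) (φ b)) := fun x => by
  simp [minQ_apply, plusQ_apply, Cfsg.quadFormPlus, vmap, map_sum]

theorem ext_oddQ (m : ℕ) : Ext φ (oddQ K m) (oddQ F m) := fun x => by
  simp [oddQ_apply, plusQ_apply, Cfsg.quadFormPlus, vmap, map_sum]

/-- A linear map with the coefficients extended. -/
noncomputable def liftMap (e : (ι → K) →ₗ[K] (κ → K)) : (ι → F) →ₗ[F] (κ → F) :=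
  Matrix.toLin' ((LinearMap.toMatrix' e).map φ)

theorem liftMap_vmap (e : (ι → K) →ₗ[K] (κ → K)) (x : ι → K) :
    liftMap φ e (vmap φ x) = vmap φ (e x) := by
  funext i
  rw [liftMap, Matrix.toLin'_apply]
  show ((LinearMap.toMatrix' e).map φ *ᵥ vmap φ x) i = φ (e x i)
  rw [← LinearMap.toMatrix'_mulVec e x]
  exact (RingHom.map_mulVec φ _ x i).symm

theorem liftMap_comp {μ : Type} [Fintype μ] [DecidableEq μ] (e : (ι → K) →ₗ[K] (κ → K))
    (f : (κ → K) →ₗ[K] (μ → K)) : (liftMap φ f).comp (liftMap φ e) = liftMap φ (f.comp e) := by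
  rw [liftMap, liftMap, liftMap, ← Matrix.toLin'_mul, LinearMap.toMatrix'_comp, Matrix.map_mul]

theorem liftMap_id : liftMap φ (LinearMap.id : (ι → K) →ₗ[K] (ι → K)) = LinearMap.id := by
  rw [liftMap, LinearMap.toMatrix'_id, Matrix.map_one φ (map_zero φ) (map_one φ), Matrix.toLin'_one]

/-- A linear equivalence with the coefficients extended. -/
noncomputable def liftEquiv (e : (ι → K) ≃ₗ[K] (κ → K)) : (ι → F) ≃ₗ[F] (κ → F) :=
  LinearEquiv.ofLinear (liftMap φ e.toLinearMap) (liftMap φ e.symm.toLinearMap)
    (by rw [liftMap_comp, LinearEquiv.comp_coe, LinearEquiv.symm_trans_self]; exact liftMap_id φ)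
    (by rw [liftMap_comp, LinearEquiv.comp_coe, LinearEquiv.self_trans_symm]; exact liftMap_id φ)

theorem liftEquiv_vmap (e : (ι → K) ≃ₗ[K] (κ → K)) (x : ι → K) :
    liftEquiv φ e (vmap φ x) = vmap φ (e x) := liftMap_vmap φ _ x

variable {φ}

/-- Isometries over `K` extend. -/
theorem lift_isometry {P : QuadraticForm K (ι → K)} {P' : QuadraticForm F (ι → F)}
    {R : QuadraticForm K (κ → K)} {R' : QuadraticForm F (κ → F)} (hP : Ext φ P P')
    (hR : Ext φ R R') (e : (ι → K) ≃ₗ[K] (κ → K)) (he : ∀ x, R (e x) = P x) (v : ι → F) :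
    R' (liftEquiv φ e v) = P' v := by
  have h : R'.comp (liftEquiv φ e).toLinearMap = P' :=
    Ext.unique (fun x => by
      show R' (liftEquiv φ e (vmap φ x)) = _
      rw [liftEquiv_vmap, hR, he]) hP
  exact DFunLike.congr_fun h v

theorem Ext.smul {P : QuadraticForm K (ι → K)} {P' : QuadraticForm F (ι → F)} (h : Ext φ P P')
    (c : K) : Ext φ (c • P) (φ c • P') := fun x => by simp [h x]

theorem Ext.nondeg {P : QuadraticForm K (ι → K)} {P' : QuadraticForm F (ι → F)} (h : Ext φ P P')
    (hn : (QuadraticMap.polarBilin P').Nondegenerate) :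
    (QuadraticMap.polarBilin P).Nondegenerate := by
  have key : ∀ x, (∀ y, QuadraticMap.polar P x y = 0) → x = 0 := fun x hx => by
    have h0 : QuadraticMap.polarBilin P' (vmap φ x) = 0 := by
      refine (Pi.basisFun F ι).ext fun i => ?_
      rw [LinearMap.zero_apply, Pi.basisFun_apply, QuadraticMap.polarBilin_apply_apply,
        ← vmap_single φ i, h.polar, hx, map_zero]
    refine vmap_injective φ ((hn.1 _ fun y => ?_).trans (funext fun i => (map_zero φ).symm))
    rw [h0, LinearMap.zero_apply]
  refine ⟨fun x hx => key x hx, fun x hx => key x fun y => ?_⟩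
  rw [QuadraticMap.polar_comm]
  exact hx y

/-! ### Rational forms -/

section fixed

variable {σ : F ≃+* F}

/-- The fixed field. -/
abbrev Fix (σ : F ≃+* F) : Subfield F := RingHom.eqLocusField σ.toRingHom (RingHom.id F)

theorem fix_vec (x : ι → Fix σ) : (fun i => σ ((x i : F))) = fun i => (x i : F) :=
  funext fun i => (x i).2

/-- The restriction of a rational form to the fixed field. -/
def restr (P : QuadraticForm F (ι → F)) (hP : ∀ v, P (fun i => σ (v i)) = σ (P v)) :
    QuadraticForm (Fix σ) (ι → Fix σ) :=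
  QuadraticMap.ofPolar
    (fun x => ⟨P fun i => (x i : F), by
      show σ (P fun i => (x i : F)) = P fun i => (x i : F)
      rw [← hP, fix_vec]⟩)
    (fun a x => Subtype.ext (by
      show P (fun i => (((a • x) i : Fix σ) : F)) = (((a * a : Fix σ)) : F) * P _
      rw [show (fun i => (((a • x) i : Fix σ) : F)) = (a : F) • fun i => (x i : F) from rfl,
        QuadraticMap.map_smul]
      rfl))
    (fun x x' y => Subtype.ext (QuadraticMap.polar_add_left P (fun i => (x i : F))
      (fun i => (x' i : F)) fun i => (y i : F)))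
    (fun a x y => Subtype.ext (QuadraticMap.polar_smul_left P (a : F) (fun i => (x i : F))
      fun i => (y i : F)))

theorem ext_restr (P : QuadraticForm F (ι → F)) (hP : ∀ v, P (fun i => σ (v i)) = σ (P v)) :
    Ext (Fix σ).subtype (restr P hP) P := fun _ => rfl

/-- No new roots of a quadratic over a fixed field of an element of odd order. -/
theorem no_root {r : ℕ} (hr : Odd r) (hσ : σ ^ r = 1) {ζ : Fix σ}
    (h : ∀ t : Fix σ, t ^ 2 + t + ζ ≠ 0) (t : F) : t ^ 2 + t + (ζ : F) ≠ 0 := by
  intro ht
  have hst : σ t ^ 2 + σ t + (ζ : F) = 0 := by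
    have h1 := congrArg σ ht
    rwa [map_add, map_add, map_pow, map_zero, show σ (ζ : F) = ζ from ζ.2] at h1
  have h2 : (σ ^ 2) t = t := by
    rw [sq, RingAut.mul_apply]
    rcases mul_eq_zero.1 (show (σ t - t) * (σ t + t + 1) = 0 by linear_combination hst - ht) with
      e | e
    · rw [sub_eq_zero.1 e, sub_eq_zero.1 e]
    · have e' : σ t = -1 - t := by linear_combination e
      rw [e', map_sub, map_neg, map_one, e']
      ring
  have h3 : σ t = t := by
    obtain ⟨k, rfl⟩ := hr
    have hev : ∀ j, (σ ^ (2 * j)) t = t := fun j => by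
      induction j with
      | zero => rfl
      | succ j ih => rw [Nat.mul_succ, pow_add, RingAut.mul_apply, h2, ih]
    have h4 := DFunLike.congr_fun hσ t
    rw [pow_succ', RingAut.mul_apply, hev, RingAut.one_apply] at h4
    exact h4
  exact h ⟨t, h3⟩ (Subtype.ext ht)

end fixed

end Cfsg.Agent.AutPOmega.BaseChange
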