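import Cfsg.Prelude.Def_LieTypeDatum
import Cfsg.Agent.Lib.Classical.OrthSimple
import Cfsg.Agent.Lib.Classical.OmegaCrit

/-!
# Automorphisms of `PΩ(Q)` induced by similarities

`gAut g` is conjugation by a similarity; its kernel consists of the scalars and
`gAut g` is inner exactly when `g` is a scalar times an element of `Ω`.
-/

set_option autoImplicit false
set_option linter.unusedSectionVars false
set_option linter.unusedVariables false
set_option linter.unusedSimpArgs false

namespace Cfsg.Agent.AutPOmega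

open Matrix Cfsg.Agent.Forms Cfsg.Agent.Forms.QuadStd Cfsg.Agent.Forms.Reflections
open Cfsg.Agent.Classical Cfsg.Agent.Classical.Orth

universe u

variable {F : Type u} [Field F] {ι : Type} [Fintype ι] [DecidableEq ι]

/-- The similarity group of `Q`. -/
abbrev GO (Q : QuadraticForm F (ι → F)) : Subgroup (GL ι F) :=
  Cfsg.Geo.quadSimilarityGroup (F := F) ⇑Q

variable {Q : QuadraticForm F (ι → F)}

local notation "Vec" => (ι → F)
local notation "Iso" => Cfsg.isometryGroup F (DFunLike.coe Q)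
local notation "Ω" => Cfsg.Omega F (DFunLike.coe Q)

/-- The underlying matrix. -/
def mat (g : GO Q) : Matrix ι ι F := ((g : GL ι F) : Matrix ι ι F)

theorem mat_mul (g h : GO Q) : mat (g * h) = mat g * mat h := rfl

theorem mat_one : mat (1 : GO Q) = 1 := rfl

theorem mulVec_inv (g : GO Q) (v : Vec) : mat g *ᵥ mat g⁻¹ *ᵥ v = v := by
  rw [Matrix.mulVec_mulVec, ← mat_mul, mul_inv_cancel, mat_one, Matrix.one_mulVec]

theorem inv_mulVec' (g : GO Q) (v : Vec) : mat g⁻¹ *ᵥ mat g *ᵥ v = v := by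
  rw [Matrix.mulVec_mulVec, ← mat_mul, inv_mul_cancel, mat_one, Matrix.one_mulVec]

theorem go_ext {g h : GO Q} (H : ∀ v, mat g *ᵥ v = mat h *ᵥ v) : g = h :=
  Subtype.ext (Units.ext (Matrix.ext_iff_mulVec.2 H))

/-- The factor of a similarity. -/
noncomputable def muC (g : GO Q) : Fˣ := Classical.choose g.2

theorem muC_spec (g : GO Q) (v : Vec) : Q (mat g *ᵥ v) = (muC g : F) * Q v :=
  Classical.choose_spec g.2 v

theorem muC_eq {w : Vec} (hw : Q w ≠ 0) {g : GO Q} {c : F} (h : ∀ v, Q (mat g *ᵥ v) = c * Q v) :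
    (muC g : F) = c :=
  mul_right_cancel₀ hw ((muC_spec g w).symm.trans (h w))

theorem polar_mat (g : GO Q) (x y : Vec) :
    QuadraticMap.polar Q (mat g *ᵥ x) (mat g *ᵥ y) = (muC g : F) * QuadraticMap.polar Q x y := by
  simp only [QuadraticMap.polar, ← Matrix.mulVec_add, muC_spec]
  ring

variable (Q) in
/-- The scalar similarity. -/
def scal (a : Fˣ) : GO Q :=
  ⟨Units.map (Matrix.scalar ι).toMonoidHom a, a * a, fun v => by
    rw [show ((Units.map (Matrix.scalar ι).toMonoidHom a : GL ι F) : Matrix ι ι F) *ᵥ v = (a : F) • v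
      from funext fun i => by simp [Matrix.mulVec_diagonal]]
    rw [QuadraticMap.map_smul, Units.val_mul, smul_eq_mul]⟩

theorem scal_mulVec (a : Fˣ) (v : Vec) : mat (scal Q a) *ᵥ v = (a : F) • v :=
  funext fun i => by simp [mat, scal, Matrix.mulVec_diagonal]

theorem scal_mul (a b : Fˣ) : scal Q (a * b) = scal Q a * scal Q b :=
  go_ext fun v => by rw [mat_mul, ← Matrix.mulVec_mulVec, scal_mulVec, scal_mulVec, scal_mulVec,
    smul_smul, Units.val_mul]

theorem scal_one : scal Q 1 = 1 :=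
  go_ext fun v => by rw [scal_mulVec, mat_one, Matrix.one_mulVec, Units.val_one, one_smul]

theorem scal_comm (a : Fˣ) (g : GO Q) : scal Q a * g = g * scal Q a :=
  go_ext fun v => by rw [mat_mul, mat_mul, ← Matrix.mulVec_mulVec, ← Matrix.mulVec_mulVec,
    scal_mulVec, scal_mulVec, Matrix.mulVec_smul]

variable (Q) in
/-- An isometry as a similarity. -/
def ofIso : Cfsg.isometryGroup F ⇑Q →* GO Q where
  toFun h := ⟨(h : GL ι F), 1, fun v => by rw [Units.val_one, one_mul]; exact iso_mulVec h v⟩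
  map_one' := rfl
  map_mul' _ _ := rfl

theorem mat_ofIso (h : Iso) : mat (ofIso Q h) = ((h : GL ι F) : Matrix ι ι F) := rfl

theorem ofIso_mulVec (h : Iso) (v : Vec) : mat (ofIso Q h) *ᵥ v = act h v := (act_apply h v).symm

theorem ofIso_injective : Function.Injective (ofIso Q) := fun a b h =>
  Subtype.ext (congrArg (fun x : GO Q => (x : GL ι F)) h)

/-- A similarity of factor one as an isometry. -/
def toIso (g : GO Q) (h : ∀ v, Q (mat g *ᵥ v) = Q v) : Cfsg.isometryGroup F ⇑Q :=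
  ⟨(g : GL ι F), (mem_isometry_iff _ _).2 h⟩

theorem ofIso_toIso (g : GO Q) (h : ∀ v, Q (mat g *ᵥ v) = Q v) : ofIso Q (toIso g h) = g := rfl

theorem conj_mem (g : GO Q) (s : Iso) :
    (g : GL ι F) * (s : GL ι F) * (g : GL ι F)⁻¹ ∈ Iso := by
  refine (mem_isometry_iff _ _).2 fun v => ?_
  show Q ((mat g * ((s : GL ι F) : Matrix ι ι F) * mat g⁻¹) *ᵥ v) = Q v
  rw [← Matrix.mulVec_mulVec, ← Matrix.mulVec_mulVec, muC_spec, iso_mulVec s, ← muC_spec g,
    mulVec_inv]

variable (Q) in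
/-- Conjugation by a similarity, on the isometry group. -/
def conjIso : GO Q →* MulAut (Cfsg.isometryGroup F ⇑Q) where
  toFun g :=
    { toFun := fun s => ⟨_, conj_mem g s⟩
      invFun := fun s => ⟨_, conj_mem g⁻¹ s⟩
      left_inv := fun s => Subtype.ext (by
        simp only [Subgroup.coe_inv]; group)
      right_inv := fun s => Subtype.ext (by
        simp only [Subgroup.coe_inv]; group)
      map_mul' := fun a b => Subtype.ext (by
        simp only [Subgroup.coe_mul]; group) }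
  map_one' := by
    refine MulEquiv.ext fun s => Subtype.ext ?_
    simp
  map_mul' g h := by
    refine MulEquiv.ext fun s => Subtype.ext ?_
    simp only [MulAut.mul_apply, MulEquiv.coe_mk, Equiv.coe_fn_mk, Subgroup.coe_mul]
    group

theorem conjIso_coe (g : GO Q) (s : Iso) :
    ((conjIso Q g s : Iso) : GL ι F) = (g : GL ι F) * (s : GL ι F) * (g : GL ι F)⁻¹ := rfl

theorem ofIso_conjIso (g : GO Q) (s : Iso) : ofIso Q (conjIso Q g s) = g * ofIso Q s * g⁻¹ := rfl

/-- An automorphism on the commutator subgroup. -/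
def resComm {G : Type*} [Group G] : MulAut G →* MulAut ↥(commutator G) where
  toFun e :=
    { toFun := fun s => ⟨e s.1,
        Subgroup.characteristic_iff_map_le.1 inferInstance e (Subgroup.mem_map_of_mem _ s.2)⟩
      invFun := fun s => ⟨e.symm s.1,
        Subgroup.characteristic_iff_map_le.1 inferInstance e.symm (Subgroup.mem_map_of_mem _ s.2)⟩
      left_inv := fun s => Subtype.ext (e.symm_apply_apply _)
      right_inv := fun s => Subtype.ext (e.apply_symm_apply _)
      map_mul' := fun a b => Subtype.ext (map_mul e _ _) }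
  map_one' := rfl
  map_mul' _ _ := rfl

/-- An automorphism on the quotient by the centre. -/
def descC {H : Type*} [Group H] : MulAut H →* MulAut (H ⧸ Subgroup.center H) where
  toFun e := QuotientGroup.congr _ _ e (Subgroup.characteristic_iff_map_eq.1 inferInstance e)
  map_one' := by
    ext x
    induction x using QuotientGroup.induction_on
    rfl
  map_mul' e e' := by
    ext x
    induction x using QuotientGroup.induction_on
    rfl

variable (Q) in
/-- Conjugation by a similarity, on `Ω`. -/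
def conjOm : GO Q →* MulAut (Cfsg.Omega F ⇑Q) := resComm.comp (conjIso Q)

variable (Q) in
/-- Conjugation by a similarity, on `PΩ`. -/
def gAut : GO Q →* MulAut (Cfsg.POmega F ⇑Q) := descC.comp (conjOm Q)

theorem gAut_mk (g : GO Q) (s : Ω) :
    gAut Q g (QuotientGroup.mk s) = QuotientGroup.mk (conjOm Q g s) := rfl

theorem isInduced_iff (g : GO Q) (β : MulAut (Cfsg.POmega F ⇑Q)) :
    Cfsg.IsInducedBySemilinearPOmega ⇑Q (g : GL ι F) (RingEquiv.refl F) β ↔ β = gAut Q g := by
  have hmap : ∀ A : Matrix ι ι F, A.map (RingEquiv.refl F) = A := fun A => by ext; rfl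
  constructor
  · intro h
    refine MulEquiv.ext fun x => ?_
    induction x using QuotientGroup.induction_on with | H s => ?_
    exact h s (conjOm Q g s) (by rw [hmap]; rfl)
  · rintro rfl s s' h
    rw [hmap] at h
    exact congrArg QuotientGroup.mk
      (Subtype.ext (Subtype.ext (Units.ext h.symm)) : conjOm Q g s = s')

theorem pgoAut_eq : Cfsg.pgoAut F ⇑Q = (gAut Q).range := by
  refine le_antisymm ((Subgroup.closure_le _).2 ?_) ?_
  · rintro β ⟨g, hg, h⟩
    exact ⟨⟨g, hg⟩, ((isInduced_iff ⟨g, hg⟩ β).1 h).symm⟩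
  · rintro _ ⟨g, rfl⟩
    exact Subgroup.subset_closure ⟨g, g.2, (isInduced_iff g _).2 rfl⟩

theorem autSub_eq_map (P : Subgroup (GO Q)) (R : GL ι F → Prop) (hR : ∀ g : GO Q, R g ↔ g ∈ P) :
    Cfsg.autSubgroupOf (fun β : Cfsg.POmega F ⇑Q ≃* Cfsg.POmega F ⇑Q =>
      ∃ g : GL ι F, g ∈ GO Q ∧ R g ∧
        Cfsg.IsInducedBySemilinearPOmega ⇑Q g (RingEquiv.refl F) β) = P.map (gAut Q) := by
  refine le_antisymm ((Subgroup.closure_le _).2 ?_) ?_
  · rintro β ⟨g, hg, hr, h⟩
    exact ⟨⟨g, hg⟩, (hR ⟨g, hg⟩).1 hr, ((isInduced_iff ⟨g, hg⟩ β).1 h).symm⟩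
  · rintro _ ⟨g, hg, rfl⟩
    exact Subgroup.subset_closure ⟨g, g.2, (hR g).2 hg, (isInduced_iff g _).2 rfl⟩

theorem poAut_eq : Cfsg.poAut F ⇑Q = (ofIso Q).range.map (gAut Q) := by
  refine le_antisymm ((Subgroup.closure_le _).2 ?_) ?_
  · rintro β ⟨g, hg, h⟩
    exact ⟨ofIso Q ⟨g, hg⟩, ⟨_, rfl⟩, ((isInduced_iff (ofIso Q ⟨g, hg⟩) β).1 h).symm⟩
  · rintro _ ⟨_, ⟨h, rfl⟩, rfl⟩
    exact Subgroup.subset_closure ⟨h, h.2, (isInduced_iff (ofIso Q h) _).2 rfl⟩

variable (Q) in
/-- The special orthogonal group as a subgroup of the similarities. -/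
def soGO : Subgroup (GO Q) := (Cfsg.specialIsometryGroup F ⇑Q).map (ofIso Q)

theorem psoAut_eq : Cfsg.psoAut F ⇑Q = (soGO Q).map (gAut Q) := by
  refine le_antisymm ((Subgroup.closure_le _).2 ?_) ?_
  · rintro β ⟨g, ⟨hg, hd⟩, h⟩
    exact ⟨ofIso Q ⟨g, hg⟩, ⟨⟨g, hg⟩, hd, rfl⟩, ((isInduced_iff (ofIso Q ⟨g, hg⟩) β).1 h).symm⟩
  · rintro _ ⟨_, ⟨h, hd, rfl⟩, rfl⟩
    exact Subgroup.subset_closure ⟨h, ⟨h.2, hd⟩, (isInduced_iff (ofIso Q h) _).2 rfl⟩

theorem conj_mk_eq (s : Ω) :
    MulAut.conj (QuotientGroup.mk s : Cfsg.POmega F ⇑Q) = gAut Q (ofIso Q s.1) := by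
  refine MulEquiv.ext fun x => ?_
  induction x using QuotientGroup.induction_on with | H t => ?_
  exact congrArg QuotientGroup.mk (Subtype.ext (Subtype.ext rfl))

theorem gAut_scal (a : Fˣ) : gAut Q (scal Q a) = 1 := by
  refine MulEquiv.ext fun x => ?_
  induction x using QuotientGroup.induction_on with | H t => ?_
  refine congrArg QuotientGroup.mk (Subtype.ext (ofIso_injective ?_) : conjOm Q (scal Q a) t = t)
  show ofIso Q (conjIso Q (scal Q a) t.1) = _
  rw [ofIso_conjIso, scal_comm, mul_inv_cancel_right]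

/-! ### The kernel -/

variable [Fintype F] (hQ : (QuadraticMap.polarBilin Q).Nondegenerate) (f : Frame Q)
  (hn : 5 ≤ Fintype.card ι)

include hQ f hn

/-- A point is not fixed by all elements of `Ω` fixing another point. -/
theorem exists_moving {p p' : SPt Q} (hne : p ≠ p') : ∃ h : Ω, h • p = p ∧ h • p' ≠ p' := by
  obtain ⟨a, ha, hqa, rfl⟩ := exists_spt p
  obtain ⟨b, hb, hqb, rfl⟩ := exists_spt p'
  obtain ⟨k, hk, s, t, hs, ht, hka, hkb⟩ := std_move hQ f ha hb hqa hqb (ind_of_ne hne)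
  have key : ∀ (w y : Vec) (huw : QuadraticMap.polar Q f.u w = 0), act k b = t • y →
      (∀ c : F, c • y ≠ act (eich f.u w f.p.hu huw) y) →
      ∃ h : Ω, h • spt a ha hqa = spt a ha hqa ∧ h • spt b hb hqb ≠ spt b hb hqb := by
    intro w y huw hy hmove
    refine ⟨⟨k⁻¹ * eich f.u w f.p.hu huw * k, eGroup_mem_omega hQ f hn
      (mul_mem (mul_mem (inv_mem hk) (eich_mem _ _ trivial trivial)) hk)⟩, ?_, fun he => ?_⟩
    · rw [smul_spt]
      refine spt_eq.2 ⟨1, Orth.act_injective k ?_⟩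
      simp only [one_smul, act_mul, act_cancel_inv, hka, map_smul, act_eich_self]
    · rw [smul_spt] at he
      obtain ⟨c, hc⟩ := spt_eq.1 he
      apply hmove c
      have h2 := congrArg (act k) hc
      simp only [map_smul, act_mul, act_cancel_inv, hy] at h2
      refine smul_right_injective _ ht ?_
      show t • c • y = t • _
      rw [smul_comm, h2]
  rcases hkb with ⟨-, h⟩ | ⟨-, h⟩
  · refine key f.u' f.v f.uu' h fun c hc => ?_
    rw [act_eich, f.vu', f.p'.hu, f.p.hvu] at hc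
    have h1 := congrArg (fun x => QuadraticMap.polar Q x f.v') hc
    simp [QuadraticMap.polar_smul_left, QuadraticMap.polar_add_left,
      QuadraticMap.polar_sub_left, f.vv', f.p'.huv] at h1
  · refine key f.v' f.u' f.uv' h fun c hc => ?_
    rw [act_eich, QuadraticMap.polar_comm _ f.u' f.u, f.uu', f.p'.huv, f.p'.hv] at hc
    have h1 := congrArg (fun x => QuadraticMap.polar Q x f.v) hc
    simp [QuadraticMap.polar_smul_left, QuadraticMap.polar_add_left,
      QuadraticMap.polar_sub_left, QuadraticMap.polar_comm _ f.u' f.v, f.vu', f.p.huv] at h1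

/-- A similarity commuting with `Ω` fixes every singular line. -/
theorem fixes_of_commute (g : GO Q) (hg : ∀ s : Ω, g * ofIso Q s.1 = ofIso Q s.1 * g) {a : Vec}
    (ha : a ≠ 0) (hqa : Q a = 0) : ∃ c : F, mat g *ᵥ a = c • a := by
  have hga : mat g *ᵥ a ≠ 0 := fun h => ha (by rw [← inv_mulVec' g a, h, Matrix.mulVec_zero])
  have hqg : Q (mat g *ᵥ a) = 0 := by rw [muC_spec, hqa, mul_zero]
  by_contra hne
  push Not at hne
  have hne' : spt a ha hqa ≠ spt (mat g *ᵥ a) hga hqg := fun h => by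
    obtain ⟨c, hc⟩ := spt_eq.1 h.symm
    exact hne c hc.symm
  obtain ⟨k, hk1, hk2⟩ := exists_moving hQ f hn hne'
  apply hk2
  rw [smul_spt] at hk1 ⊢
  obtain ⟨c, hc⟩ := spt_eq.1 hk1
  refine spt_eq.2 ⟨c, ?_⟩
  rw [← ofIso_mulVec (k : Iso), Matrix.mulVec_mulVec, ← mat_mul, ← hg k, mat_mul,
    ← Matrix.mulVec_mulVec, ofIso_mulVec, ← hc, Matrix.mulVec_smul]

omit hn in
/-- A similarity fixing every singular line is a scalar. -/
theorem scalar_of_fixes' (g : GO Q)
    (hfix : ∀ a : Vec, a ≠ 0 → Q a = 0 → ∃ c : F, mat g *ᵥ a = c • a) :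
    ∃ a : Fˣ, g = scal Q a := by
  have hmu : (muC g : F) ≠ 0 := (muC g).ne_zero
  obtain ⟨l, hl⟩ := hfix f.u f.p.ne_zero.1 f.p.hu
  have hl0 : l ≠ 0 := fun h0 => f.p.ne_zero.1 (by
    rw [← inv_mulVec' g f.u, hl, h0, zero_smul, Matrix.mulVec_zero])
  have hsing : ∀ a : Vec, Q a = 0 → mat g *ᵥ a = l • a := by
    intro a hqa
    by_cases ha : a = 0
    · simp [ha]
    obtain ⟨m, hm⟩ := hfix a ha hqa
    by_cases hind : ∀ c : F, a ≠ c • f.u
    · obtain ⟨z, hqz, h1, h2⟩ := exists_common_nonorth hQ f f.p.ne_zero.1 ha f.p.hu hqa hind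
      obtain ⟨n, hn'⟩ := hfix z (fun h0 => h1 (by rw [h0]; simp [QuadraticMap.polar])) hqz
      have e1 := polar_mat g f.u z
      have e2 := polar_mat g a z
      rw [hl, hn', QuadraticMap.polar_smul_left, QuadraticMap.polar_smul_right, smul_eq_mul,
        smul_eq_mul, ← mul_assoc] at e1
      rw [hm, hn', QuadraticMap.polar_smul_left, QuadraticMap.polar_smul_right, smul_eq_mul,
        smul_eq_mul, ← mul_assoc] at e2
      have e1' := mul_right_cancel₀ h1 e1
      have e2' := mul_right_cancel₀ h2 e2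
      have hn0 : n ≠ 0 := fun h0 => hmu (by rw [← e1', h0, mul_zero])
      rw [hm, mul_right_cancel₀ hn0 (e2'.trans e1'.symm)]
    · push Not at hind
      obtain ⟨c, rfl⟩ := hind
      rw [Matrix.mulVec_smul, hl, smul_comm]
  have hW : ∀ w, QuadraticMap.polar Q f.u w = 0 → QuadraticMap.polar Q f.v w = 0 →
      mat g *ᵥ w = l • w := by
    intro w hu hv
    have hs := hsing (f.u + w + (-Q w) • f.v) (by
      simp only [map_add', Orth.map_smul', QuadraticMap.polar_add_left, QuadraticMap.polar_smul_right,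
        smul_eq_mul, f.p.hu, f.p.hv, hu, f.p.huv, QuadraticMap.polar_comm _ w f.v, hv]
      ring)
    rw [Matrix.mulVec_add, Matrix.mulVec_add, Matrix.mulVec_smul, hl, hsing f.v f.p.hv] at hs
    linear_combination (norm := module) hs
  refine ⟨Units.mk0 l hl0, go_ext fun x => ?_⟩
  rw [scal_mulVec, Units.val_mk0, proj_add (Q := Q) f.u f.v x, Matrix.mulVec_add, Matrix.mulVec_add,
    Matrix.mulVec_smul, Matrix.mulVec_smul, hl, hsing f.v f.p.hv,
    hW _ (by rw [QuadraticMap.polar_comm]; exact (proj_perp f.p x).1)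
      (by rw [QuadraticMap.polar_comm]; exact (proj_perp f.p x).2)]
  module

/-- The kernel of `gAut` consists of the scalars. -/
theorem gAut_eq_one_iff (g : GO Q) : gAut Q g = 1 ↔ ∃ a : Fˣ, g = scal Q a := by
  refine ⟨fun h => ?_, fun ⟨a, ha⟩ => ha ▸ gAut_scal a⟩
  have hz : ∀ s : Ω, s⁻¹ * conjOm Q g s ∈ Subgroup.center Ω := fun s => by
    have h1 := DFunLike.congr_fun h (QuotientGroup.mk s)
    rw [MulAut.one_apply, gAut_mk] at h1
    exact QuotientGroup.eq.1 h1.symm
  let z : Ω →* Subgroup.center Ω := MonoidHom.mk' (fun s => ⟨_, hz s⟩) fun s t => Subtype.ext (by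
    show (s * t)⁻¹ * conjOm Q g (s * t) = s⁻¹ * conjOm Q g s * (t⁻¹ * conjOm Q g t)
    rw [← mul_assoc (s⁻¹ * conjOm Q g s), ← Subgroup.mem_center_iff.1 (hz s) t⁻¹, map_mul]
    group)
  have hfix : ∀ s : Ω, conjOm Q g s = s := fun s => by
    have h1 : s ∈ z.ker := by
      have : commutator Ω ≤ z.ker := by
        rw [commutator_def, Subgroup.commutator_le]
        intro x _ y _
        rw [MonoidHom.mem_ker, map_commutatorElement, commutatorElement_eq_one_iff_mul_comm]
        exact Subtype.ext (Subgroup.mem_center_iff.1 (z y).2 _)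
      rw [commutator_omega_eq_top hQ f hn] at this
      exact this trivial
    exact (inv_mul_eq_one.1 (congrArg Subtype.val h1)).symm
  refine scalar_of_fixes' hQ f g fun a ha hqa => fixes_of_commute hQ f hn g (fun s => ?_) ha hqa
  have h2 : ofIso Q (conjIso Q g s.1) = ofIso Q s.1 :=
    congrArg (fun t : Ω => ofIso Q t.1) (hfix s)
  rw [ofIso_conjIso, mul_inv_eq_iff_eq_mul] at h2
  exact h2

theorem gAut_mem_inn_iff (g : GO Q) :
    gAut Q g ∈ Cfsg.Inn (Cfsg.POmega F ⇑Q) ↔
      ∃ (a : Fˣ) (s : Iso), s ∈ Cfsg.Omega F ⇑Q ∧ g = scal Q a * ofIso Q s := by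
  constructor
  · rintro ⟨x, hx⟩
    induction x using QuotientGroup.induction_on with | H s => ?_
    rw [conj_mk_eq] at hx
    obtain ⟨a, ha⟩ := (gAut_eq_one_iff hQ f hn ((ofIso Q s.1)⁻¹ * g)).1 (by
      rw [map_mul, map_inv, hx, inv_mul_cancel])
    exact ⟨a, s.1, s.2, by rw [scal_comm, ← ha, mul_inv_cancel_left]⟩
  · rintro ⟨a, s, hs, rfl⟩
    exact ⟨QuotientGroup.mk ⟨s, hs⟩, by rw [conj_mk_eq, map_mul, gAut_scal, one_mul]⟩

end Cfsg.Agent.AutPOmega
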