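import Cfsg.Prelude.Def_LieTypeDatum
import Cfsg.Agent.Lib.Classical.OmegaScale
import Cfsg.Agent.Lib.Forms.Witt

/-!
# The two classes of maximal totally singular subspaces under similarities
-/

set_option autoImplicit false
set_option linter.unusedSectionVars false

namespace Cfsg.Agent.AutPOmega.Classes

open Matrix Module Cfsg.Agent.Forms Cfsg.Agent.Forms.QuadStd Cfsg.Agent.Forms.Reflections
open Cfsg.Agent.Classical Cfsg.Agent.Classical.OmegaCrit

variable {F : Type*} [Field F] [Fintype F] {ι : Type} [Fintype ι] [DecidableEq ι]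
variable {Q : QuadraticForm F (ι → F)}

/-- Every totally singular subspace lies in the image of a given one of half the dimension. -/
theorem exists_le_image (hQ : (QuadraticMap.polarBilin Q).Nondegenerate) {M : ℕ}
    (hM : Fintype.card ι = 2 * M) {U0 : Submodule F (ι → F)} (hU0 : ∀ u ∈ U0, Q u = 0)
    (hU0d : finrank F U0 = M) {W : Submodule F (ι → F)} (hW : ∀ w ∈ W, Q w = 0) :
    ∃ k : Cfsg.isometryGroup F ⇑Q, W ≤ U0.map (act k) := by
  have hd : finrank F W ≤ M := by
    have hle : W ≤ (polB Q).orthogonal W := fun x hx => mem_orth.2 fun y hy => by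
      simp [QuadraticMap.polar, hW _ hx, hW _ hy, hW _ (add_mem hy hx)]
    have h1 := Submodule.finrank_mono hle
    rw [LinearMap.BilinForm.finrank_orthogonal (show (polB Q).Nondegenerate from hQ),
      Module.finrank_pi] at h1
    omega
  obtain ⟨f, hf⟩ : ∃ f : W →ₗ[F] U0, Function.Injective f := by
    refine ⟨(Module.finBasis F W).constr F fun i => Module.finBasis F U0
      (Fin.castLE (hd.trans hU0d.ge) i), ?_⟩
    rw [← LinearMap.ker_eq_bot]
    refine LinearMap.ker_eq_bot'.2 fun w hw => ?_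
    rw [Module.Basis.constr_apply_fintype] at hw
    have h0 := Fintype.linearIndependent_iff.1
      ((Module.finBasis F U0).linearIndependent.comp _ (Fin.castLE_injective _)) _ hw
    exact (Module.finBasis F W).equivFun.map_eq_zero_iff.1 (funext h0)
  obtain ⟨g, hg, hgx⟩ := Witt.witt_quad Q hQ W (U0.subtype.comp f)
    (U0.injective_subtype.comp hf) fun x => by
      rw [hW _ x.2]
      exact hU0 _ (f x).2
  refine ⟨(isoOfEquiv ⇑Q g hg)⁻¹, fun w hw => ⟨(f ⟨w, hw⟩ : ι → F), (f ⟨w, hw⟩).2, ?_⟩⟩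
  have e : act (isoOfEquiv ⇑Q g hg) w = (f ⟨w, hw⟩ : ι → F) := by
    rw [act_apply, isoOfEquiv_mulVec]
    exact hgx ⟨w, hw⟩
  rw [← e, Spinor.act_inv_cancel]

theorem finrank_image (k : Cfsg.isometryGroup F ⇑Q) (U : Submodule F (ι → F)) :
    finrank F ↥(U.map (act k)) = finrank F U :=
  (Submodule.equivMapOfInjective _ (OmegaScale.act_injective k) U).finrank_eq.symm

theorem image_singular (k : Cfsg.isometryGroup F ⇑Q) {U : Submodule F (ι → F)}
    (hU : ∀ u ∈ U, Q u = 0) : ∀ u ∈ U.map (act k), Q u = 0 := by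
  rintro _ ⟨u, hu, rfl⟩
  rw [act_map]
  exact hU u hu

theorem imageSubmodule_mul (A B : Matrix ι ι F) (U : Submodule F (ι → F)) :
    Cfsg.imageSubmodule (A * B) U = Cfsg.imageSubmodule A (Cfsg.imageSubmodule B U) := by
  rw [Cfsg.imageSubmodule, Cfsg.imageSubmodule, Cfsg.imageSubmodule, Matrix.toLin'_mul,
    Submodule.map_comp]

/-- A similarity preserves the classes exactly when its determinant is `c ^ M`. -/
theorem preserves_iff (h2 : (2 : F) ≠ 0) (hQ : (QuadraticMap.polarBilin Q).Nondegenerate) {M : ℕ}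
    (hM : Fintype.card ι = 2 * M) (h : Fintype.card F ≠ 2 ∨ Fintype.card ι ≠ 4)
    {U0 : Submodule F (ι → F)} (hU0 : ∀ u ∈ U0, Q u = 0) (hU0d : finrank F U0 = M)
    {c : F} (hc : c ≠ 0) (g d : GL ι F) (hg : ∀ v, Q ((g : Matrix ι ι F) *ᵥ v) = c * Q v)
    (hd : ∀ v, Q ((d : Matrix ι ι F) *ᵥ v) = c * Q v)
    (hdd : (d : Matrix ι ι F).det = c ^ M)
    (hdU : Cfsg.imageSubmodule (d : Matrix ι ι F) U0 = U0) :
    Cfsg.PreservesSingularClasses ⇑Q (g : Matrix ι ι F) ↔ (g : Matrix ι ι F).det = c ^ M := by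
  have hcM : c ^ M ≠ 0 := pow_ne_zero _ hc
  have key : ∀ k : Cfsg.isometryGroup F ⇑Q,
      Cfsg.SameParityClass (U0.map (act k)) (Cfsg.imageSubmodule (g : Matrix ι ι F) (U0.map (act k)))
        ↔ (g : Matrix ι ι F).det = c ^ M := by
    intro k
    set U := U0.map (act k)
    set dU : GL ι F := (k : GL ι F) * d * (k : GL ι F)⁻¹
    have hkv : ∀ v, Q (((k : GL ι F) : Matrix ι ι F) *ᵥ v) = Q v := fun v => iso_mulVec k v
    have hkv' : ∀ v, Q ((((k : GL ι F)⁻¹ : GL ι F) : Matrix ι ι F) *ᵥ v) = Q v := fun v =>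
      iso_mulVec k⁻¹ v
    have hdUv : ∀ v, Q ((dU : Matrix ι ι F) *ᵥ v) = c * Q v := fun v => by
      rw [Units.val_mul, Units.val_mul, ← mulVec_mulVec, ← mulVec_mulVec, hkv, hd, hkv']
    have hemem : g * dU⁻¹ ∈ Cfsg.isometryGroup F ⇑Q := (mem_isometry_iff _ _).2 fun v => by
      rw [Units.val_mul, ← mulVec_mulVec, hg, ← hdUv, mulVec_mulVec, ← Units.val_mul,
        mul_inv_cancel, Units.val_one, one_mulVec]
    set e : Cfsg.isometryGroup F ⇑Q := ⟨g * dU⁻¹, hemem⟩
    have himg : U = Cfsg.imageSubmodule ((k : GL ι F) : Matrix ι ι F) U0 := rfl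
    have hfix : Cfsg.imageSubmodule (dU : Matrix ι ι F) U = U := by
      rw [himg, ← imageSubmodule_mul, ← Units.val_mul]
      rw [show dU * (k : GL ι F) = (k : GL ι F) * d by simp [dU], Units.val_mul, imageSubmodule_mul,
        hdU]
    have heU : Cfsg.imageSubmodule (g : Matrix ι ι F) U = U.map (act e) := by
      conv_rhs => rw [← hfix]
      show _ = Cfsg.imageSubmodule ((e : GL ι F) : Matrix ι ι F) _
      rw [← imageSubmodule_mul, ← Units.val_mul]
      simp [e]
    have hdet : (g : Matrix ι ι F).det = (((par e : ℤˣ) : ℤ) : F) * c ^ M := by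
      have he : g = (e : GL ι F) * dU := by simp [e]
      have hdUd : (dU : Matrix ι ι F).det = c ^ M := by
        rw [Units.val_mul, Units.val_mul, det_mul_right_comm, ← Units.val_mul, mul_inv_cancel,
          Units.val_one, one_mul, hdd]
      rw [he, Units.val_mul, det_mul, hdUd, det_eq_par hQ h]
    have hUd : finrank F U = M := (finrank_image k U0).trans hU0d
    rw [OmegaScale.par_eq_neg_one_pow hQ h hM (image_singular k hU0) hUd e] at hdet
    rw [Cfsg.SameParityClass, heU, hUd]
    rcases Nat.even_or_odd (M - finrank F ↥(U ⊓ U.map (act e))) with hev | hodd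
    · rw [hev.neg_one_pow, Units.val_one, Int.cast_one, one_mul] at hdet
      exact iff_of_true hev hdet
    · rw [hodd.neg_one_pow] at hdet
      push_cast at hdet
      refine iff_of_false (Nat.not_even_iff_odd.2 hodd) fun h0 => ?_
      rw [h0] at hdet
      exact h2 ((mul_eq_zero.1 (show (2 : F) * c ^ M = 0 by linear_combination hdet)).resolve_right hcM)
  constructor
  · intro hp
    obtain ⟨k, hk⟩ := exists_le_image hQ hM hU0 hU0d hU0
    refine (key k).1 (hp _ ⟨image_singular k hU0, fun W hW hle => ?_⟩)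
    obtain ⟨k', hk'⟩ := exists_le_image hQ hM hU0 hU0d hW
    refine (Submodule.eq_of_le_of_finrank_le hle ?_).symm
    rw [finrank_image k U0]
    exact (Submodule.finrank_mono hk').trans (finrank_image k' U0).le
  · intro hg' U hU
    obtain ⟨k, hk⟩ := exists_le_image hQ hM hU0 hU0d hU.1
    rw [← hU.2 _ (image_singular k hU0) hk]
    exact (key k).2 hg'

end Cfsg.Agent.AutPOmega.Classes
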