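import Cfsg.Agent.Lib.AutPOmega.Pos
import Cfsg.Agent.Lib.AutPOmega.BaseChange
import Cfsg.Agent.Lib.AutPSL.Speiser

/-!
# Conjugacy of semilinear automorphisms of `PΩ` of prime order

An element `gAut A * fAut σ` of the same order as `σ` yields, by Speiser's theorem, a form over the
fixed field of `σ`; two such elements are conjugate when these forms are isometric up to a scalar.
-/

set_option autoImplicit false
set_option linter.unusedSectionVars false
set_option linter.unusedVariables false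

namespace Cfsg.Agent.AutPOmega

open Matrix Cfsg.Agent.Forms Cfsg.Agent.Forms.QuadStd Cfsg.Agent.Forms.Reflections
open Cfsg.Agent.Forms.PlusStd Cfsg.Agent.Classical Cfsg.Agent.Classical.Orth
open Cfsg.Agent.Classical.OrthCount Cfsg.Agent.Classical.OrthForms
open Cfsg.Agent.AutPOmega.BaseChange

universe u

variable {F : Type u} [Field F] {ι : Type} [Fintype ι] [DecidableEq ι]
variable {Q : QuadraticForm F (ι → F)} {σ : F ≃+* F}

theorem fld_mul (σ τ : F ≃+* F) (g : GL ι F) : fld (σ * τ) g = fld σ (fld τ g) :=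
  Units.ext (Matrix.ext fun _ _ => rfl)

theorem fld_one (g : GL ι F) : fld 1 g = g := Units.ext (Matrix.ext fun _ _ => rfl)

theorem fGO_mul {τ : F ≃+* F} (hσ : Rat Q σ) (hτ : Rat Q τ) (A : GO Q) :
    fGO (σ * τ) (hσ.mul hτ) A = fGO σ hσ (fGO τ hτ A) :=
  Subtype.ext (by rw [fGO_coe, fGO_coe, fGO_coe, fld_mul])

theorem fGO_scal (hσ : Rat Q σ) (a : Fˣ) :
    fGO σ hσ (scal Q a) = scal Q (Units.map σ.toRingHom.toMonoidHom a) := semGO_scal _ a

theorem tw_succ' (hσ : Rat Q σ) (A : GO Q) :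
    ∀ i, tw σ hσ A (i + 1) = tw σ hσ A i * fGO (σ ^ i) (hσ.pow i) A
  | 0 => by
    have e : fGO (σ ^ 0) (hσ.pow 0) A = A :=
      Subtype.ext (by rw [fGO_coe, pow_zero, fld_one])
    rw [e]; simp [tw]
  | i + 1 => by
    show A * fGO σ hσ (tw σ hσ A (i + 1)) =
      A * fGO σ hσ (tw σ hσ A i) * fGO (σ ^ (i + 1)) (hσ.pow (i + 1)) A
    rw [tw_succ' hσ A i, map_mul, mul_assoc]
    congr 2
    exact Subtype.ext (by rw [fGO_coe, fGO_coe, fGO_coe, pow_succ', fld_mul])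

theorem tw_scal_mul (hσ : Rat Q σ) (a : Fˣ) (A : GO Q) :
    ∀ i, ∃ b : Fˣ, tw σ hσ (scal Q a * A) i = scal Q b * tw σ hσ A i ∧
      (b : F) = ∏ j ∈ Finset.range i, (σ ^ j) (a : F)
  | 0 => ⟨1, by rw [tw, tw, scal_one, one_mul], by simp⟩
  | i + 1 => by
    obtain ⟨b, h1, h2⟩ := tw_scal_mul hσ a A i
    refine ⟨a * Units.map σ.toRingHom.toMonoidHom b, ?_, ?_⟩
    · rw [tw, tw, h1, map_mul (fGO σ hσ), fGO_scal, scal_mul]
      simp only [mul_assoc]
      rw [← mul_assoc A, ← scal_comm _ A, mul_assoc]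
    · rw [Finset.prod_range_succ', Units.val_mul, mul_comm, pow_zero]
      change σ (b : F) * _ = _
      rw [h2, map_prod]
      congr 1
      exact Finset.prod_congr rfl fun j _ => by rw [pow_succ']; rfl

/-- Descent data attached to `A`: the form `P = w⁻¹ Q ∘ B` is rational. -/
structure Tw (hσ : Rat Q σ) (A : GO Q) where
  B : GL ι F
  w : Fˣ
  l : Fˣ
  P : QuadraticForm F (ι → F)
  hP : ∀ v, Q ((B : Matrix ι ι F) *ᵥ v) = (w : F) * P v
  rat : ∀ v : ι → F, P (fun i => σ (v i)) = σ (P v)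
  eq : ((scal Q l * A : GO Q) : GL ι F) * fld σ B = B

/-- The trivial descent data. -/
def Tw.one (hσ : Rat Q σ) : Tw hσ (1 : GO Q) where
  B := 1
  w := 1
  l := 1
  P := Q
  hP v := by rw [Units.val_one, Matrix.one_mulVec, Units.val_one, one_mul]
  rat := hσ
  eq := by rw [scal_one, one_mul, map_one, mul_one]; rfl

/-- The form over the fixed field. -/
def Tw.form {hσ : Rat Q σ} {A : GO Q} (T : Tw hσ A) :
    QuadraticForm (Fix σ) (ι → Fix σ) := restr T.P T.rat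

theorem Tw.form_ext {hσ : Rat Q σ} {A : GO Q} (T : Tw hσ A) :
    Ext (Fix σ).subtype T.form T.P := ext_restr T.P T.rat

theorem Tw.nondeg {hσ : Rat Q σ} {A : GO Q} (hQ : (QuadraticMap.polarBilin Q).Nondegenerate)
    (T : Tw hσ A) : (QuadraticMap.polarBilin T.P).Nondegenerate := by
  have hpol : ∀ u v, (T.w : F) * QuadraticMap.polar T.P u v =
      QuadraticMap.polar Q ((T.B : Matrix ι ι F) *ᵥ u) ((T.B : Matrix ι ι F) *ᵥ v) := fun u v => by
    simp only [QuadraticMap.polar, ← Matrix.mulVec_add, T.hP]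
    ring
  have key : ∀ x, (∀ y, QuadraticMap.polar T.P x y = 0) → x = 0 := fun x hx => by
    have h0 : (T.B : Matrix ι ι F) *ᵥ x = 0 := hQ.1 _ fun y => by
      show QuadraticMap.polar Q _ y = 0
      obtain ⟨z, rfl⟩ : ∃ z, (T.B : Matrix ι ι F) *ᵥ z = y :=
        ⟨((T.B⁻¹ : GL ι F) : Matrix ι ι F) *ᵥ y, by
          rw [Matrix.mulVec_mulVec, ← Units.val_mul, mul_inv_cancel, Units.val_one,
            Matrix.one_mulVec]⟩
      rw [← hpol, hx, mul_zero]
    simpa [Matrix.mulVec_mulVec, ← Units.val_mul] using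
      congrArg (((T.B⁻¹ : GL ι F) : Matrix ι ι F) *ᵥ ·) h0
  refine ⟨fun x hx => key x hx, fun x hx => key x fun y => ?_⟩
  rw [QuadraticMap.polar_comm]
  exact hx y

variable [Fintype F]

/-- Speiser's theorem for the similarity group. -/
theorem speiser_GO (hσ : Rat Q σ) (A : GO Q) (hA : tw σ hσ A (orderOf σ) = 1) :
    ∃ B : GL ι F, (A : GL ι F) * fld σ B = B := by
  classical
  let e := Fintype.equivFin ι
  let Φ : GL ι F ≃* GL (Fin (Fintype.card ι)) F :=
    Units.mapEquiv (Matrix.reindexAlgEquiv F F e).toMulEquiv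
  have hΦ : ∀ g : GL ι F, AutPSL.Main.fieldGL σ (Φ g) = Φ (fld σ g) := fun g =>
    Units.ext (Matrix.ext fun _ _ => rfl)
  have htw : ∀ i, AutPSL.Speiser.twist σ (Φ A) i = Φ (tw σ hσ A i) := fun i => by
    induction i with
    | zero => exact (map_one Φ).symm
    | succ i ih =>
      rw [AutPSL.Speiser.twist, tw, ih, hΦ, Subgroup.coe_mul, fGO_coe, map_mul]
  obtain ⟨B', hB'⟩ := AutPSL.Speiser.speiser σ (Φ A) (by rw [htw, hA, Subgroup.coe_one, map_one])
  refine ⟨Φ.symm B', Φ.injective ?_⟩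
  rw [map_mul, ← hΦ, Φ.apply_symm_apply]
  exact eq_mul_inv_iff_mul_eq.1 hB'

section exists_tw

variable (hQ : (QuadraticMap.polarBilin Q).Nondegenerate) (f : Frame Q)
  (hn : 5 ≤ Fintype.card ι)

include hQ f hn

/-- The twisted product is a scalar fixed by `σ`. -/
theorem tw_eq_scal (hσ : Rat Q σ) {r : ℕ} (hr : orderOf σ = r) (A : GO Q)
    (h : (gAut Q A * fAut σ hσ) ^ r = 1) :
    ∃ a : Fˣ, tw σ hσ A r = scal Q a ∧ σ (a : F) = a := by
  rw [pow_gAut_fAut, fAut_pow] at h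
  obtain ⟨-, a, ha⟩ := gAut_mul_fAut_eq_one hQ f hn (hσ.pow r) h
  refine ⟨a, ha, ?_⟩
  have h1 := tw_succ' hσ A r
  have e : fGO (σ ^ r) (hσ.pow r) A = A :=
    Subtype.ext (by rw [fGO_coe, ← hr, pow_orderOf_eq_one, fld_one])
  rw [tw, ha, e, fGO_scal, scal_comm a A] at h1
  have h2 := congrArg (fun g : GO Q => mat g *ᵥ f.u) (mul_left_cancel h1)
  simp only [scal_mulVec] at h2
  have h3 := sub_eq_zero.2 h2
  rw [← sub_smul, smul_eq_zero] at h3
  exact sub_eq_zero.1 (h3.resolve_right f.p.ne_zero.1)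

theorem exists_tw (hσ : Rat Q σ) {r : ℕ} (hr : orderOf σ = r) (A : GO Q)
    (h : (gAut Q A * fAut σ hσ) ^ r = 1) : Nonempty (Tw hσ A) := by
  obtain ⟨a, ha, hfix⟩ := tw_eq_scal hQ f hn hσ hr A h
  obtain ⟨l, hl⟩ := AutPSL.Speiser.nrm_surjective σ a hfix
  obtain ⟨b, hb1, hb2⟩ := tw_scal_mul hσ l⁻¹ A r
  have hb : b = a⁻¹ := by
    refine Units.ext ?_
    rw [hb2, Units.val_inv_eq_inv_val a, ← hl, AutPSL.Speiser.nrm, hr, ← Finset.prod_inv_distrib]
    exact Finset.prod_congr rfl fun j _ => by simp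
  set A' := scal Q l⁻¹ * A with hA'
  obtain ⟨B, hB⟩ := speiser_GO hσ A'
    (by rw [hr, hb1, hb, ha, ← scal_mul, inv_mul_cancel, scal_one])
  -- the pulled back form
  let P₀ : QuadraticForm F (ι → F) := Q.comp (Matrix.toLin' (B : Matrix ι ι F))
  have hP₀ : ∀ v, P₀ v = Q ((B : Matrix ι ι F) *ᵥ v) := fun v => rfl
  have hrel : ∀ v : ι → F, P₀ (fun i => σ (v i)) = (muC A' : F) * σ (P₀ v) := fun v => by
    rw [hP₀, hP₀]
    conv_lhs => rw [← hB]
    rw [Units.val_mul, ← Matrix.mulVec_mulVec, fld_coe, map_mulVec',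
      show ((A' : GL ι F) : Matrix ι ι F) = mat A' from rfl, muC_spec, hσ]
  have hpol : ∀ u v : ι → F, QuadraticMap.polar P₀ (fun i => σ (u i)) (fun i => σ (v i)) =
      (muC A' : F) * σ (QuadraticMap.polar P₀ u v) := fun u v => by
    simp only [QuadraticMap.polar]
    rw [show ((fun i => σ (u i)) + fun i => σ (v i)) = fun i => σ ((u + v) i) from
      funext fun i => (map_add σ (u i) (v i)).symm, hrel, hrel, hrel, map_sub, map_sub]
    ring
  obtain ⟨w, hw0, hw⟩ : ∃ w : F, w ≠ 0 ∧ w = (muC A' : F) * σ w := by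
    by_contra hall
    push Not at hall
    have hs : ∀ k : ι, (fun i => σ ((Pi.single k 1 : ι → F) i)) = Pi.single k 1 := fun k =>
      funext fun i => by by_cases hi : i = k <;> simp [hi]
    have h0 : ∀ k l : ι, QuadraticMap.polar P₀ (Pi.single k 1) (Pi.single l 1) = 0 := fun k l => by
      by_contra hne
      have h1 := hpol (Pi.single k 1) (Pi.single l 1)
      rw [hs, hs] at h1
      exact hall _ hne h1
    have hb0 : QuadraticMap.polarBilin P₀ = 0 :=
      LinearMap.ext_basis (Pi.basisFun F ι) (Pi.basisFun F ι) fun k l => by simpa using h0 k l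
    have h1 := congrArg (fun L : LinearMap.BilinForm F (ι → F) =>
      L (((B⁻¹ : GL ι F) : Matrix ι ι F) *ᵥ f.u) (((B⁻¹ : GL ι F) : Matrix ι ι F) *ᵥ f.v)) hb0
    simp only [QuadraticMap.polarBilin_apply_apply, LinearMap.zero_apply, QuadraticMap.polar, hP₀,
      ← Matrix.mulVec_add, Matrix.mulVec_mulVec, ← Units.val_mul, mul_inv_cancel, Units.val_one,
      Matrix.one_mulVec] at h1
    exact one_ne_zero (f.p.huv.symm.trans h1)
  refine ⟨⟨B, Units.mk0 w hw0, l⁻¹, w⁻¹ • P₀, fun v => ?_, fun v => ?_, hB⟩⟩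
  · rw [_root_.QuadraticMap.smul_apply, Units.val_mk0, smul_eq_mul, hP₀, mul_inv_cancel_left₀ hw0]
  · rw [_root_.QuadraticMap.smul_apply, _root_.QuadraticMap.smul_apply, smul_eq_mul, smul_eq_mul,
      map_mul, map_inv₀, hrel]
    conv_lhs => rw [hw]
    have hμ : (muC A' : F) ≠ 0 := (muC A').ne_zero
    field_simp

end exists_tw

omit [Fintype F] in
/-- Forms isometric up to a scalar give conjugate automorphisms. -/
theorem conj_of_iso {hσ : Rat Q σ} {A A₀ : GO Q} (T : Tw hσ A) (T₀ : Tw hσ A₀) {c : Fix σ}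
    (hc : c ≠ 0) (e : (ι → Fix σ) ≃ₗ[Fix σ] (ι → Fix σ))
    (he : ∀ x, T.form (e x) = c * T₀.form x) :
    ∃ (a : Fˣ) (M : GO Q), A = scal Q a * (M * A₀ * (fGO σ hσ M)⁻¹) := by
  set E := liftEquiv (Fix σ).subtype e
  have hE : ∀ v, T.P (E v) = (c : F) * T₀.P v := fun v =>
    lift_isometry (T₀.form_ext.smul c) T.form_ext e (fun x => he x) v
  set C : GL ι F := glOfEquiv E with hCdef
  have hC : fld σ C = C := by
    refine Units.ext (Matrix.ext fun i j => ?_)
    rw [fld_coe, Matrix.map_apply]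
    show σ (LinearMap.toMatrix' E.toLinearMap i j) = LinearMap.toMatrix' E.toLinearMap i j
    rw [show E.toLinearMap = liftMap (Fix σ).subtype e.toLinearMap from rfl, liftMap,
      LinearMap.toMatrix'_toLin', Matrix.map_apply]
    exact (LinearMap.toMatrix' e.toLinearMap i j).2
  have hc' : (c : F) ≠ 0 := fun h => hc (Subtype.ext h)
  have hM : T.B * C * T₀.B⁻¹ ∈ GO Q := by
    refine ⟨T.w * Units.mk0 (c : F) hc' * T₀.w⁻¹, fun v => ?_⟩
    obtain ⟨y, rfl⟩ : ∃ y, (T₀.B : Matrix ι ι F) *ᵥ y = v :=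
      ⟨((T₀.B⁻¹ : GL ι F) : Matrix ι ι F) *ᵥ v, by
        rw [Matrix.mulVec_mulVec, ← Units.val_mul, mul_inv_cancel, Units.val_one, Matrix.one_mulVec]⟩
    rw [Matrix.mulVec_mulVec, ← Units.val_mul, inv_mul_cancel_right, Units.val_mul,
      ← Matrix.mulVec_mulVec, T.hP, hCdef, glOfEquiv_mulVec, hE, T₀.hP, Units.val_mul,
      Units.val_mul, Units.val_mk0, Units.val_inv_eq_inv_val]
    have := T₀.w.ne_zero
    field_simp
  refine ⟨T.l⁻¹ * T₀.l, ⟨_, hM⟩, ?_⟩
  have h1 := T.eq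
  have h2 := T₀.eq
  set M : GO Q := ⟨_, hM⟩
  have key : scal Q T.l * A = M * (scal Q T₀.l * A₀) * (fGO σ hσ M)⁻¹ := by
    refine Subtype.ext ?_
    show ((scal Q T.l * A : GO Q) : GL ι F) = (M : GL ι F) * ((scal Q T₀.l * A₀ : GO Q) : GL ι F) *
      ((fGO σ hσ M : GO Q) : GL ι F)⁻¹
    rw [fGO_coe, show ((M : GO Q) : GL ι F) = T.B * C * T₀.B⁻¹ from rfl, map_mul (fld σ),
      map_mul (fld σ), map_inv, hC]
    rw [eq_mul_inv_iff_mul_eq.2 h2, eq_mul_inv_iff_mul_eq.2 h1]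
    group
  rw [scal_mul, mul_assoc (scal Q T.l⁻¹), show scal Q T₀.l * (M * A₀ * (fGO σ hσ M)⁻¹) =
    scal Q T.l * A by
      rw [key, ← mul_assoc, ← mul_assoc, scal_comm, mul_assoc M]]
  rw [← mul_assoc, ← scal_mul, inv_mul_cancel, scal_one, one_mul]

omit [Fintype F] in
theorem conj_eq {hσ : Rat Q σ} {A A₀ M : GO Q} {a : Fˣ}
    (h : A = scal Q a * (M * A₀ * (fGO σ hσ M)⁻¹)) :
    gAut Q A * fAut σ hσ = gAut Q M * (gAut Q A₀ * fAut σ hσ) * (gAut Q M)⁻¹ := by
  rw [h, map_mul, gAut_scal, one_mul, map_mul, map_mul, map_inv]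
  have e : (gAut Q (fGO σ hσ M))⁻¹ * fAut σ hσ = fAut σ hσ * (gAut Q M)⁻¹ := by
    rw [inv_mul_eq_iff_eq_mul, ← mul_assoc, ← fAut_mul_gAut, mul_inv_cancel_right]
  rw [mul_assoc _ _ (fAut σ hσ), e]
  group

end Cfsg.Agent.AutPOmega
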