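import Cfsg.Agent.Lib.AutPOmega.Plus
import Cfsg.Agent.Lib.Classical.OmegaSum

/-!
# The minus type
-/

set_option autoImplicit false
set_option linter.unusedSectionVars false

namespace Cfsg.Agent.AutPOmega.Minus

open Matrix Module Cfsg.Agent.Forms Cfsg.Agent.Forms.QuadStd Cfsg.Agent.Forms.Reflections
open Cfsg.Agent.Forms.PlusStd
open Cfsg.Agent.Classical Cfsg.Agent.Classical.OrthForms Cfsg.Agent.Classical.OmegaCrit

universe u

section general

variable {F : Type u} [Field F] {k : ℕ} {a b : F}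

local notation "I" => (Fin k ⊕ Fin k) ⊕ Fin 2

theorem nondeg_of_disc (hd : 4 * b - a ^ 2 ≠ 0) :
    (QuadraticMap.polarBilin (minQ F k a b)).Nondegenerate := by
  have h : ∀ x, (∀ y, QuadraticMap.polar (minQ F k a b) x y = 0) → x = 0 := by
    intro x hx
    have hz : ∀ y, QuadraticMap.polar (plusQ F k) y 0 = 0 := fun y => by simp [QuadraticMap.polar]
    have h1 : x ∘ Sum.inl = 0 := (plusQ_nondeg F k).1 _ fun z => by
      have := hx (Sum.elim z (0 : Fin 2 → F))
      simpa [minQ_polar, Sum.elim_comp_inl] using this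
    have e0 := hx (Sum.elim 0 ![1, 0])
    have e1 := hx (Sum.elim 0 ![0, 1])
    simp [minQ_polar, Sum.elim_comp_inl, hz] at e0 e1
    have h3 : x (.inr 1) = 0 := by
      refine (mul_eq_zero.1 ?_).resolve_left hd
      linear_combination (2 : F) * e1 - a * e0
    have h2 : x (.inr 0) = 0 := by
      refine (mul_eq_zero.1 ?_).resolve_left hd
      linear_combination (2 * b) * e0 - a * e1
    funext i
    rcases i with i | i
    · exact congrFun h1 i
    · fin_cases i <;> assumption
  exact ⟨fun x hx => h x hx, fun x hx => h x fun y => (QuadraticMap.polar_comm _ x y).trans (hx y)⟩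

variable (k) in
/-- `diag (c, 1)` on the hyperbolic part, multiplication by `x + θ y` on the binary part. -/
def dilMat (a b c x y : F) : Matrix I I F :=
  fromBlocks (Matrix.diagonal (Plus.dvec k c)) 0 0 !![x, -(b * y); y, x + a * y]

theorem dilMat_mulVec (c x y : F) (v : I → F) :
    dilMat k a b c x y *ᵥ v = Sum.elim (fun z => Plus.dvec k c z * v (Sum.inl z))
      ![x * v (.inr 0) - b * y * v (.inr 1), y * v (.inr 0) + (x + a * y) * v (.inr 1)] := by
  rw [dilMat, fromBlocks_mulVec]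
  funext z
  rcases z with z | z
  · simp [mulVec_diagonal]
  · fin_cases z <;> simp [Matrix.mulVec, dotProduct, Fin.sum_univ_two] <;> ring

theorem dilMat_value {c x y : F} (h : x ^ 2 + a * x * y + b * y ^ 2 = c) (v : I → F) :
    minQ F k a b (dilMat k a b c x y *ᵥ v) = c * minQ F k a b v := by
  rw [minQ_apply, minQ_apply, dilMat_mulVec, plusQ_apply, plusQ_apply, Cfsg.quadFormPlus,
    Cfsg.quadFormPlus]
  simp only [Function.comp_apply, Sum.elim_inl, Sum.elim_inr, Matrix.cons_val_zero,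
    Matrix.cons_val_one, mul_add, Finset.mul_sum]
  congr 1
  · exact Finset.sum_congr rfl fun i _ => by simp [Plus.dvec, mul_assoc]
  · subst h; ring

theorem det_dilMat {c x y : F} (h : x ^ 2 + a * x * y + b * y ^ 2 = c) :
    (dilMat k a b c x y).det = c ^ (k + 1) := by
  rw [dilMat, det_fromBlocks_zero₂₁, det_fin_two, det_diagonal, Fintype.prod_sum_type]
  simp [Plus.dvec, pow_succ]
  exact Or.inl (by subst h; ring)

variable (k) in
/-- The maximal totally singular subspace attached to a root `r` of `X² + a X + b`. -/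
noncomputable def lagMap (r : F) : (Fin k → F) × F →ₗ[F] (I → F) where
  toFun p := Sum.elim (Sum.elim p.1 0) ![p.2 * r, p.2]
  map_add' p q := by
    funext z
    rcases z with (z | z) | z
    · simp
    · simp
    · fin_cases z <;> simp [add_mul]
  map_smul' s p := by
    funext z
    rcases z with (z | z) | z
    · simp
    · simp
    · fin_cases z <;> simp [mul_assoc]

theorem lag_singular {r : F} (hr : r ^ 2 + a * r + b = 0) :
    ∀ u ∈ LinearMap.range (lagMap k r), minQ F k a b u = 0 := by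
  rintro _ ⟨p, rfl⟩
  rw [minQ_apply, plusQ_apply, Cfsg.quadFormPlus]
  simp [lagMap]
  linear_combination p.2 ^ 2 * hr

theorem finrank_lag (r : F) : finrank F ↥(LinearMap.range (lagMap k r)) = k + 1 := by
  rw [LinearMap.finrank_range_of_inj, Module.finrank_prod, Module.finrank_pi, Module.finrank_self,
    Fintype.card_fin]
  intro p q h
  have h1 := fun i => congrFun h (Sum.inl (Sum.inl i))
  have h2 := congrFun h (Sum.inr 1)
  simp [lagMap] at h1 h2
  exact Prod.ext (funext h1) h2

theorem dilMat_lag {c x y r : F} (hr : r ^ 2 + a * r + b = 0) (hc : c ≠ 0)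
    (h : x ^ 2 + a * x * y + b * y ^ 2 = c) :
    Cfsg.imageSubmodule (dilMat k a b c x y) (LinearMap.range (lagMap k r)) =
      LinearMap.range (lagMap k r) := by
  have e : ∀ p : (Fin k → F) × F, dilMat k a b c x y *ᵥ lagMap k r p =
      lagMap k r (c • p.1, (x + a * y + r * y) * p.2) := fun p => by
    rw [dilMat_mulVec]
    funext z
    rcases z with (z | z) | z
    · simp [lagMap, Plus.dvec]
    · simp [lagMap, Plus.dvec]
    · fin_cases z
      · simp [lagMap]; linear_combination (-(y * p.2)) * hr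
      · simp [lagMap]; ring
  have hs : x + a * y + r * y ≠ 0 := fun h0 => hc (by
    rw [← h]; linear_combination (x - r * y) * h0 + y ^ 2 * hr)
  refine le_antisymm ?_ ?_
  · rintro _ ⟨_, ⟨p, rfl⟩, rfl⟩
    exact ⟨_, (e p).symm⟩
  · rintro _ ⟨p, rfl⟩
    refine ⟨_, ⟨(c⁻¹ • p.1, (x + a * y + r * y)⁻¹ * p.2), rfl⟩, ?_⟩
    rw [toLin'_apply, e, smul_smul, mul_inv_cancel₀ hc, one_smul, ← mul_assoc,
      mul_inv_cancel₀ hs, one_mul]

end general

section finite

variable {F : Type u} [Field F] [Fintype F] {k : ℕ} {a b : F}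

local notation "I" => (Fin k ⊕ Fin k) ⊕ Fin 2

theorem exists_norm (hodd : Odd (Fintype.card F)) (hd : 4 * b - a ^ 2 ≠ 0) (c : F) :
    ∃ x y : F, x ^ 2 + a * x * y + b * y ^ 2 = c := by
  have h2 : (2 : F) ≠ 0 := Plus.two_ne hodd
  have h4 : (4 : F) ≠ 0 := by
    rw [show (4 : F) = 2 * 2 by norm_num]; exact mul_ne_zero h2 h2
  set D : F := (4 * b - a ^ 2) / 4
  have hD : D ≠ 0 := div_ne_zero hd h4
  obtain ⟨u, v, huv⟩ := FiniteField.exists_root_sum_quadratic
    (f := (Polynomial.X ^ 2 : Polynomial F)) (g := Polynomial.C D * Polynomial.X ^ 2 - Polynomial.C c)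
    (Polynomial.degree_X_pow 2) (by
      rw [Polynomial.degree_sub_C] <;> rw [Polynomial.degree_C_mul_X_pow 2 hD]
      · rfl
      · exact WithBot.coe_lt_coe.2 (by norm_num)) (Nat.odd_iff.1 hodd)
  simp at huv
  refine ⟨u - a * v / 2, v, ?_⟩
  rw [← sub_eq_zero, ← huv]
  simp only [D]
  field_simp
  ring

variable (hodd : Odd (Fintype.card F))
  (hab : ∀ z₁ z₂ : F, z₁ ^ 2 + a * z₁ * z₂ + b * z₂ ^ 2 = 0 → z₁ = 0 ∧ z₂ = 0)

include hodd hab

theorem exists_dil (hk : 2 ≤ k) (c : Fˣ) : ∃ (x y : F) (d : GO (minQ F k a b)),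
    x ^ 2 + a * x * y + b * y ^ 2 = (c : F) ∧ mat d = dilMat k a b (c : F) x y ∧ muC d = c := by
  obtain ⟨x, y, h⟩ := exists_norm hodd (disc_ne_zero hab) (c : F)
  have hdet : (dilMat k a b (c : F) x y).det ≠ 0 := by
    rw [det_dilMat h]; exact pow_ne_zero _ c.ne_zero
  let d : GO (minQ F k a b) :=
    ⟨GeneralLinearGroup.mkOfDetNeZero _ hdet, c, fun v => dilMat_value h v⟩
  exact ⟨x, y, d, h, rfl,
    Units.ext (muC_eq (minFrame F hk a b).hx fun v => dilMat_value h v)⟩

theorem setup (hk : 3 ≤ k) : Nonempty (Setup (minQ F k a b) (k + 1)) :=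
  ⟨{ h2 := Plus.two_ne hodd, hQ := minQ_nondeg k hab, fr := minFrame F (by omega) a b,
     hn := by simp; omega, hM := by simp; omega,
     hD := fun c => by
       obtain ⟨x, y, d, h, hd, hm⟩ := exists_dil (k := k) hodd hab (by omega) c
       exact ⟨d, hm, by rw [hd, det_dilMat h]⟩ }⟩

theorem preserves_over (hk : 3 ≤ k) (g : GO (minQ F k a b)) (K : Type u) [Field K] [Algebra F K]
    (hK : Module.finrank F K = 2) :
    Cfsg.PreservesSingularClasses (Cfsg.quadFormMinus k K (algebraMap F K a) (algebraMap F K b))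
        ((mat g).map (algebraMap F K)) ↔ (mat g).det = (muC g : F) ^ (k + 1) := by
  classical
  have hKf : Module.Finite F K := Module.finite_of_finrank_eq_succ hK
  have : Finite K := Module.finite_of_finite F
  let _ := Fintype.ofFinite K
  set φ := algebraMap F K
  have hφ : Function.Injective φ := φ.injective
  have h2F : (2 : F) ≠ 0 := Plus.two_ne hodd
  have h2 : (2 : K) ≠ 0 := by
    rw [← map_ofNat φ 2]; exact (map_ne_zero φ).2 h2F
  have hd : 4 * φ b - φ a ^ 2 ≠ 0 := by
    rw [← map_ofNat φ 4, ← map_mul, ← map_pow, ← map_sub]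
    exact (map_ne_zero φ).2 (disc_ne_zero hab)
  have hsq : ∀ z : F, IsSquare (φ z) := by
    intro z
    by_cases hz : z = 0
    · rw [hz, map_zero]; exact IsSquare.zero
    have hKc : ringChar K ≠ 2 := fun h => h2 (by
      have : CharP K 2 := h ▸ ringChar.charP K
      exact CharTwo.two_eq_zero)
    rw [FiniteField.isSquare_iff hKc ((map_ne_zero φ).2 hz)]
    have hcard : Fintype.card K = Fintype.card F ^ 2 := by
      rw [Module.card_eq_pow_finrank (K := F), hK]
    obtain ⟨l, hl⟩ := hodd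
    have hexp : Fintype.card K / 2 = (Fintype.card F - 1) * (l + 1) := by
      rw [hcard, hl]
      have : (2 * l + 1) ^ 2 = 2 * ((2 * l + 1 - 1) * (l + 1)) + 1 := by
        rw [Nat.add_sub_cancel]; ring
      rw [this]
      omega
    rw [← map_pow, hexp, pow_mul, FiniteField.pow_card_sub_one_eq_one z hz, one_pow, map_one]
  obtain ⟨s, hs⟩ := hsq (a ^ 2 - 4 * b)
  rw [map_sub, map_mul, map_pow, map_ofNat] at hs
  have hr : ((-φ a + s) / 2) ^ 2 + φ a * ((-φ a + s) / 2) + φ b = 0 := by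
    field_simp
    linear_combination -hs
  obtain ⟨x, y, hxy⟩ := exists_norm hodd (disc_ne_zero hab) (muC g : F)
  have hxy' : φ x ^ 2 + φ a * φ x * φ y + φ b * φ y ^ 2 = φ (muC g : F) := by
    rw [← hxy]; simp
  have hc : φ (muC g : F) ≠ 0 := (map_ne_zero φ).2 (muC g).ne_zero
  have hgK : ∀ v : I → K, minQ K k (φ a) (φ b) ((mat g).map φ *ᵥ v) =
      φ (muC g : F) * minQ K k (φ a) (φ b) v := by
    have hQ' := nondeg_of_disc (k := k) hd
    have hbas : ∀ i j : I, QuadraticMap.polar (minQ K k (φ a) (φ b))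
        ((mat g).map φ *ᵥ Pi.single i 1) ((mat g).map φ *ᵥ Pi.single j 1) =
        φ (muC g : F) * QuadraticMap.polar (minQ K k (φ a) (φ b)) (Pi.single i 1) (Pi.single j 1) := by
      intro i j
      have hcast : ∀ u : I → F, ∀ w : I → F, QuadraticMap.polar (minQ K k (φ a) (φ b))
          (fun z => φ (u z)) (fun z => φ (w z)) = φ (QuadraticMap.polar (minQ F k a b) u w) := by
        intro u w
        simp [minQ_polar, plusQ_polar, map_sum, map_ofNat]
      have hcol : ∀ i : I, (mat g).map φ *ᵥ Pi.single i 1 =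
          fun z => φ ((mat g *ᵥ Pi.single i 1) z) := fun i => by
        funext z; simp [Matrix.mulVec_single]
      have hone : ∀ i : I, (Pi.single i 1 : I → K) = fun z => φ ((Pi.single i 1 : I → F) z) :=
        fun i => by funext z; simp [Pi.single_apply, apply_ite φ]
      rw [hcol, hcol, hone i, hone j, hcast, hcast, polar_mat, map_mul]
    intro v
    have hB : ∀ u w : I → K, QuadraticMap.polar (minQ K k (φ a) (φ b)) ((mat g).map φ *ᵥ u)
        ((mat g).map φ *ᵥ w) = φ (muC g : F) * QuadraticMap.polar (minQ K k (φ a) (φ b)) u w := by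
      intro u w
      have e := LinearMap.ext_basis (Pi.basisFun K I) (Pi.basisFun K I)
        (B := ((polB (minQ K k (φ a) (φ b))).compl₁₂ (Matrix.toLin' ((mat g).map φ))
          (Matrix.toLin' ((mat g).map φ))))
        (B' := φ (muC g : F) • polB (minQ K k (φ a) (φ b))) (fun i j => by
          simp only [Pi.basisFun_apply, LinearMap.compl₁₂_apply, toLin'_apply, polB_apply,
            LinearMap.smul_apply, smul_eq_mul]
          exact hbas i j)
      have e1 := congrArg (fun B => B u w) e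
      simpa [polB_apply] using e1
    have hv := hB v v
    rw [QuadraticMap.polar_self, QuadraticMap.polar_self, two_nsmul, two_nsmul] at hv
    exact mul_left_cancel₀ h2 (by linear_combination hv)
  have hdet : ((mat g).map φ).det = φ (mat g).det := (RingHom.map_det φ (mat g)).symm
  have hgd : ((mat g).map φ).det ≠ 0 := by
    rw [hdet]
    exact (map_ne_zero φ).2 (Matrix.isUnit_iff_isUnit_det _ |>.1 (g : GL I F).isUnit).ne_zero
  have hdd : (dilMat k (φ a) (φ b) (φ (muC g : F)) (φ x) (φ y)).det ≠ 0 := by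
    rw [det_dilMat hxy']; exact pow_ne_zero _ hc
  rw [← minQ_eq]
  refine (Classes.preserves_iff h2 (nondeg_of_disc hd) (M := k + 1) (by simp; omega)
    (Or.inr (by simp; omega)) (lag_singular hr) (finrank_lag _) hc
    (GeneralLinearGroup.mkOfDetNeZero _ hgd) (GeneralLinearGroup.mkOfDetNeZero _ hdd) hgK
    (dilMat_value hxy') (det_dilMat hxy') (dilMat_lag hr hc hxy')).trans ?_
  show ((mat g).map φ).det = _ ↔ _
  rw [hdet, ← map_pow]
  exact hφ.eq_iff

theorem preserves_iff (hk : 3 ≤ k) (g : GO (minQ F k a b)) :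
    Cfsg.PreservesSingularClassesMinus k a b (mat g) ↔ (mat g).det = (muC g : F) ^ (k + 1) := by
  constructor
  · rintro ⟨K, iK, iA, hK, h⟩
    exact (preserves_over hodd hab hk g K hK).1 h
  · intro h
    haveI : Fact (∀ r : F, r ^ 2 ≠ -b + a * r) := ⟨fun r hr => one_ne_zero
      (hab (-r) 1 (by linear_combination hr)).2⟩
    exact ⟨QuadraticAlgebra F (-b) a, inferInstance, inferInstance,
      QuadraticAlgebra.finrank_eq_two _ _,
      (preserves_over hodd hab hk g (QuadraticAlgebra F (-b) a)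
        (QuadraticAlgebra.finrank_eq_two _ _)).2 h⟩

theorem inndiag_eq (hk : 3 ≤ k) (S : Setup (minQ F k a b) (k + 1)) :
    Plus.inndiagOf ⇑(minQ F k a b) (Cfsg.PreservesSingularClassesMinus k a b) =
      S.dsgH.ker.map (gAut (minQ F k a b)) :=
  autSub_eq_map S.dsgH.ker _ fun g => by
    rw [MonoidHom.mem_ker, S.dsgH_eq_one_iff]
    exact preserves_iff hodd hab hk g

theorem negMem_iff (hk : 3 ≤ k) :
    NegMem (minQ F k a b) ↔ (Even k ∧ Fintype.card F % 4 = 3) := by
  classical
  refine (SpecialOrth.neg_one_mem_omega_iff (minQ_nondeg k hab) (Plus.two_ne hodd) (by simp)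
    ⟨k + 1, by simp; ring⟩).trans ?_
  have h2 : (2 : F) ≠ 0 := Plus.two_ne hodd
  have hD : ¬ IsSquare (a ^ 2 - 4 * b) := by
    rintro ⟨s, hs⟩
    exact one_ne_zero (α := F) (hab ((-a + s) / 2) 1 (by field_simp; linear_combination -hs)).2
  have hg : Disc.gram (polB (minQ F k a b)) (Pi.basisFun F I) = Matrix.fromBlocks
        (Matrix.fromBlocks 0 1 1 0) 0 0 !![2, a; a, 2 * b] := by
    ext ((i | i) | i) ((j | j) | j)
    all_goals simp [Disc.gram, polB_apply, minQ_polar, plusQ_polar, Pi.single_apply,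
      Matrix.one_apply, eq_comm]
    fin_cases i <;> fin_cases j <;> simp <;> ring
  rw [hg, Matrix.det_fromBlocks_zero₂₁, Disc.det_swap_blocks, Matrix.det_fin_two]
  rw [show ((-1 : F) ^ k * (!![2, a; a, 2 * b] 0 0 * !![2, a; a, 2 * b] 1 1 -
      !![2, a; a, 2 * b] 0 1 * !![2, a; a, 2 * b] 1 0)) = (-1) ^ (k + 1) * (a ^ 2 - 4 * b) by
    simp [pow_succ]; ring]
  rcases Nat.even_or_odd k with he | ho
  · rw [(Even.add_one he).neg_one_pow]
    by_cases hs : IsSquare (-1 : F)
    · refine iff_of_false (fun hh => hD ?_) fun h => FiniteField.isSquare_neg_one_iff.1 hs h.2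
      obtain ⟨r, hr⟩ := hh
      obtain ⟨i, hi⟩ := hs
      exact ⟨i * r, by linear_combination (-1 : F) * hr + (r * r) * hi⟩
    · refine iff_of_true (Bases.isSquare_mul_of_not hs hD) ⟨he, ?_⟩
      by_contra hne
      exact hs (FiniteField.isSquare_neg_one_iff.2 hne)
  · rw [(Odd.add_one ho).neg_one_pow, one_mul]
    exact iff_of_false hD fun h => Nat.not_even_iff_odd.2 ho h.1

omit hodd hab in
/-- `O(plus part)` inside `O` of the minus form. -/
noncomputable def upHom (k : ℕ) (a b : F) :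
    Cfsg.isometryGroup F ⇑(plusQ F k) →* Cfsg.isometryGroup F ⇑(minQ F k a b) :=
  MonoidHom.codRestrict (OmegaSum.blockUnits.comp
    (((Cfsg.isometryGroup F ⇑(plusQ F k)).subtype).prod 1)) _ fun g => by
    refine (mem_isometry_iff _ _).2 fun v => ?_
    show minQ F k a b (fromBlocks ((g : GL (Fin k ⊕ Fin k) F) : Matrix (Fin k ⊕ Fin k) (Fin k ⊕ Fin k) F) 0 0
      (1 : Matrix (Fin 2) (Fin 2) F) *ᵥ v) = _
    rw [fromBlocks_mulVec, minQ_apply, minQ_apply]
    simp [iso_mulVec]

omit hodd hab in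
theorem act_upHom (g : Cfsg.isometryGroup F ⇑(plusQ F k)) (v : I → F) :
    act (upHom k a b g) v = Sum.elim (act g (v ∘ Sum.inl)) (v ∘ Sum.inr) := by
  rw [act_apply]
  show fromBlocks ((g : GL (Fin k ⊕ Fin k) F) : Matrix (Fin k ⊕ Fin k) (Fin k ⊕ Fin k) F) 0 0
    (1 : Matrix (Fin 2) (Fin 2) F) *ᵥ v = _
  rw [fromBlocks_mulVec, act_apply]
  simp

/-- The square of the standard similarity. -/
theorem dil_sq (hk : 3 ≤ k) (c : Fˣ) : ∃ (d : GO (minQ F k a b))
    (t : Cfsg.isometryGroup F ⇑(minQ F k a b)),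
    muC d = c ∧ (mat d).det = (c : F) ^ (k + 1) ∧
    d * d = scal (minQ F k a b) (muC d) * ofIso (minQ F k a b) t ∧
      theta (minQ_nondeg k hab) (Or.inr (by simp; omega)) t = (1, chi ((c : F) ^ (k + 1))) := by
  obtain ⟨x, y, d, h, hd, hm⟩ := exists_dil (k := k) hodd hab (by omega) c
  have hc0 : (c : F) ≠ 0 := c.ne_zero
  have hh : Fintype.card F ≠ 2 ∨ Fintype.card I ≠ 4 := Or.inr (by simp; omega)
  have hh' : Fintype.card F ≠ 2 ∨ Fintype.card (Fin k ⊕ Fin k) ≠ 4 := Or.inr (by simp; omega)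
  let A : GL (Fin k) F := Units.map (Matrix.scalar (Fin k)).toMonoidHom c
  have hA : (A : Matrix (Fin k) (Fin k) F) = Matrix.diagonal fun _ => (c : F) := rfl
  have hAi : ((A : Matrix (Fin k) (Fin k) F)⁻¹)ᵀ = Matrix.diagonal fun _ => (c : F)⁻¹ := by
    rw [hA, Matrix.inv_eq_right_inv (B := Matrix.diagonal fun _ => (c : F)⁻¹)
      (by simp [diagonal_mul_diagonal, hc0]), diagonal_transpose]
  set e1 : I → F := Sum.elim 0 ![1, 0]
  set ez : I → F := Sum.elim 0 ![x, y]
  have hz : plusQ F k 0 = 0 := QuadraticMap.map_zero _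
  have hp0 : ∀ w, QuadraticMap.polar (plusQ F k) 0 w = 0 := fun w => by
    rw [QuadraticMap.polar_zero_left]
  have he1 : minQ F k a b e1 = 1 := by simp [e1, minQ_apply, Sum.elim_comp_inl, hz]
  have hez : minQ F k a b ez = c := by
    simp [ez, minQ_apply, Sum.elim_comp_inl, hz]; linear_combination h
  set L := upHom k a b (OmegaPlus.leviIso A)
  refine ⟨d, L * (reflect (minQ F k a b) ez * reflect (minQ F k a b) e1), hm,
    by rw [hd, det_dilMat h], go_ext fun v => ?_, ?_⟩
  · rw [mat_mul, mat_mul, ← mulVec_mulVec, ← mulVec_mulVec, hm, scal_mulVec, ofIso_mulVec,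
      act_mul, act_mul, act_upHom, OmegaPlus.act_levi, hAi, hA, hd, act_reflect, act_reflect, he1,
      hez, dilMat_mulVec, dilMat_mulVec]
    funext z
    rcases z with (z | z) | z
    · simp [e1, ez, Plus.dvec, mulVec_diagonal, minQ_polar, Sum.elim_comp_inl, hp0]
    · simp [e1, ez, Plus.dvec, mulVec_diagonal, minQ_polar, Sum.elim_comp_inl, hp0, hc0]
    · fin_cases z
      · simp [e1, ez, minQ_polar, Sum.elim_comp_inl, hp0]
        field_simp
        linear_combination (-(v (Sum.inr 0)) - a * v (Sum.inr 1)) * h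
      · simp [e1, ez, minQ_polar, Sum.elim_comp_inl, hp0]
        field_simp
        linear_combination (v (Sum.inr 1)) * h
  · have hL : theta (minQ_nondeg k hab) hh L = (1, chi ((c : F) ^ k)) := by
      rw [theta_map (plusQ_nondeg F k) hh' (minQ_nondeg k hab) hh (upHom k a b)
        (fun u => Sum.elim u 0) (fun u => minQ_inl k a b u) (fun u hu => ?_) (OmegaPlus.leviIso A),
        OmegaPlus.theta_levi hh', hA, det_diagonal]
      · simp
      · refine Orth.act_ext fun w => ?_
        rw [act_upHom, act_reflect, act_reflect, minQ_inl, minQ_polar, Sum.elim_comp_inl]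
        funext z
        rcases z with z | z <;> simp
    rw [map_mul, map_mul, hL, theta_reflect _ hh (by rw [hez]; exact hc0),
      theta_reflect _ hh (by rw [he1]; exact one_ne_zero), hez, he1, chi_one]
    refine Prod.ext rfl ?_
    show chi ((c : F) ^ k) * (chi (c : F) * 1) = chi ((c : F) ^ (k + 1))
    rw [mul_one, pow_succ, chi_mul (pow_ne_zero _ hc0) hc0]

/-! ### The results, for any presentation of the form -/

variable (hk : 3 ≤ k) (Q' : (((Fin k ⊕ Fin k) ⊕ Fin 2) → F) → F) (hQ' : Q' = ⇑(minQ F k a b))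

include hk hQ'

theorem pgo_mod_pso : ∃ φ : ↥(Cfsg.pgoAut F Q') →* Multiplicative (ZMod 2 × ZMod 2),
    Function.Surjective φ ∧ φ.ker = (Cfsg.psoAut F Q').subgroupOf (Cfsg.pgoAut F Q') := by
  subst hQ'
  obtain ⟨S⟩ := setup hodd hab hk
  exact S.pgo_mod_pso

theorem pso_relIndex :
    ((Even k ∧ Fintype.card F % 4 = 3) →
      (Cfsg.Inn (Cfsg.POmega F Q')).relIndex (Cfsg.psoAut F Q') = 2) ∧
    (¬ (Even k ∧ Fintype.card F % 4 = 3) →
      (Cfsg.Inn (Cfsg.POmega F Q')).relIndex (Cfsg.psoAut F Q') = 1) := by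
  subst hQ'
  obtain ⟨S⟩ := setup hodd hab hk
  exact ⟨fun h => S.relIndex_pso.trans (S.relIndex_two ((negMem_iff hodd hab hk).2 h)),
    fun h => S.relIndex_pso.trans (S.relIndex_one fun hn => h ((negMem_iff hodd hab hk).1 hn))⟩

theorem pgo_mod_inn :
    ((Even k ∧ Fintype.card F % 4 = 3) →
      ∃ φ : ↥(Cfsg.pgoAut F Q') →* DihedralGroup 4, Function.Surjective φ ∧
        φ.ker = (Cfsg.Inn (Cfsg.POmega F Q')).subgroupOf (Cfsg.pgoAut F Q')) ∧
    (¬ (Even k ∧ Fintype.card F % 4 = 3) →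
      ∃ φ : ↥(Cfsg.pgoAut F Q') →* Multiplicative (ZMod 2 × ZMod 2), Function.Surjective φ ∧
        φ.ker = (Cfsg.Inn (Cfsg.POmega F Q')).subgroupOf (Cfsg.pgoAut F Q')) := by
  subst hQ'
  obtain ⟨S⟩ := setup hodd hab hk
  exact ⟨fun h => S.pgo_mod_inn_dihedral ((negMem_iff hodd hab hk).2 h),
    fun h => S.pgo_mod_inn_klein fun hn => h ((negMem_iff hodd hab hk).1 hn)⟩

omit hQ' in
set_option maxHeartbeats 1600000 in
theorem inndiag_mod_inn_aux (S : Setup (minQ F k a b) (k + 1))
    (P : Subgroup (MulAut (Cfsg.POmega F ⇑(minQ F k a b))))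
    (hP : P = S.dsgH.ker.map (gAut (minQ F k a b))) :
    ((Even k ∧ Fintype.card F % 4 = 3) →
      ∃ φ : ↥P →* Multiplicative (ZMod 4), Function.Surjective φ ∧
        φ.ker = (Cfsg.Inn (Cfsg.POmega F ⇑(minQ F k a b))).subgroupOf P) ∧
    (¬ (Even k ∧ Fintype.card F % 4 = 3) →
      ∃ φ : ↥P →* Multiplicative (ZMod 2), Function.Surjective φ ∧
        φ.ker = (Cfsg.Inn (Cfsg.POmega F ⇑(minQ F k a b))).subgroupOf P) := by
  subst hP
  refine ⟨fun h => ?_, fun h => S.inndiag_two fun hn => h ((negMem_iff hodd hab hk).1 hn)⟩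
  obtain ⟨c, hc⟩ := S.exists_nonsq
  obtain ⟨d, t, hmu, hdet, ht, htθ⟩ := dil_sq hodd hab hk c
  refine S.inndiag_four_cyclic ((negMem_iff hodd hab hk).2 h) (by rw [hmu]; exact hdet) ht ?_
  rw [htθ]
  obtain ⟨l, hl⟩ := h.1
  intro h0
  have h1 : chi ((c : F) ^ (k + 1)) = 1 := congrArg Prod.snd h0
  have h2 : chi ((c : F) ^ (l + l)) = 1 := chi_eq_one_iff.2 ⟨(c : F) ^ l, pow_add _ _ _⟩
  rw [hl, pow_succ, chi_mul (pow_ne_zero _ c.ne_zero) c.ne_zero, hc, h2, one_mul] at h1
  exact absurd h1 (by decide)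

theorem inndiag_mod_inn :
    ((Even k ∧ Fintype.card F % 4 = 3) →
      ∃ φ : ↥(Plus.inndiagOf Q' (Cfsg.PreservesSingularClassesMinus k a b)) →*
          Multiplicative (ZMod 4), Function.Surjective φ ∧
        φ.ker = (Cfsg.Inn (Cfsg.POmega F Q')).subgroupOf
          (Plus.inndiagOf Q' (Cfsg.PreservesSingularClassesMinus k a b))) ∧
    (¬ (Even k ∧ Fintype.card F % 4 = 3) →
      ∃ φ : ↥(Plus.inndiagOf Q' (Cfsg.PreservesSingularClassesMinus k a b)) →*
          Multiplicative (ZMod 2), Function.Surjective φ ∧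
        φ.ker = (Cfsg.Inn (Cfsg.POmega F Q')).subgroupOf
          (Plus.inndiagOf Q' (Cfsg.PreservesSingularClassesMinus k a b))) := by
  subst hQ'
  obtain ⟨S⟩ := setup hodd hab hk
  exact inndiag_mod_inn_aux hodd hab hk S _ (inndiag_eq hodd hab hk S)

end finite

end Cfsg.Agent.AutPOmega.Minus
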