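import Cfsg.Agent.Lib.AutPOmega.Out
import Cfsg.Agent.Lib.AutPOmega.Classes
import Cfsg.Agent.Lib.Classical.OmegaPlus
import Cfsg.Agent.Lib.Classical.OrthForms

/-!
# The plus type
-/

set_option autoImplicit false
set_option linter.unusedSectionVars false

namespace Cfsg.Agent.AutPOmega.Plus

open Matrix Module Cfsg.Agent.Forms Cfsg.Agent.Forms.QuadStd Cfsg.Agent.Forms.Reflections
open Cfsg.Agent.Forms.PlusStd
open Cfsg.Agent.Classical Cfsg.Agent.Classical.OrthForms Cfsg.Agent.Classical.OmegaCrit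

universe u

variable {F : Type u} [Field F] [Fintype F] {m : ℕ}

/-- The diagonal entries `(c, …, c, 1, …, 1)`. -/
def dvec (m : ℕ) (c : F) : Fin m ⊕ Fin m → F := Sum.elim (fun _ => c) fun _ => 1

/-- The similarity `diag (c, 1)`. -/
def dil (m : ℕ) (c : Fˣ) : GO (plusQ F m) :=
  ⟨⟨Matrix.diagonal (dvec m (c : F)), Matrix.diagonal (dvec m ((c⁻¹ : Fˣ) : F)),
    by
      rw [diagonal_mul_diagonal, ← diagonal_one]; congr 1; funext i; rcases i with i | i <;> simp [dvec],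
    by
      rw [diagonal_mul_diagonal, ← diagonal_one]; congr 1; funext i; rcases i with i | i <;> simp [dvec]⟩,
    c, fun v => by
      rw [plusQ_apply, plusQ_apply, Cfsg.quadFormPlus, Cfsg.quadFormPlus, Finset.mul_sum]
      refine Finset.sum_congr rfl fun i _ => ?_
      simp [mulVec_diagonal, dvec, mul_assoc]⟩

theorem dil_mulVec (c : Fˣ) (v : Fin m ⊕ Fin m → F) (z : Fin m ⊕ Fin m) :
    (mat (dil m c) *ᵥ v) z = dvec m (c : F) z * v z := mulVec_diagonal _ _ _

theorem det_dil (c : Fˣ) : (mat (dil m c)).det = (c : F) ^ m := by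
  show (Matrix.diagonal (dvec m (c : F))).det = _
  rw [det_diagonal, Fintype.prod_sum_type]
  simp [dvec]

theorem dil_value (c : Fˣ) (v : Fin m ⊕ Fin m → F) :
    plusQ F m (mat (dil m c) *ᵥ v) = (c : F) * plusQ F m v := by
  rw [plusQ_apply, plusQ_apply, Cfsg.quadFormPlus, Cfsg.quadFormPlus, Finset.mul_sum]
  exact Finset.sum_congr rfl fun i _ => by rw [dil_mulVec, dil_mulVec]; simp [dvec, mul_assoc]

theorem muC_dil (hm : 3 ≤ m) (c : Fˣ) : muC (dil (F := F) m c) = c :=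
  Units.ext (muC_eq (plusFrame F hm).hx (dil_value c))

theorem two_ne (hodd : Odd (Fintype.card F)) : (2 : F) ≠ 0 := two_ne_zero_of_odd hodd

/-- The standing data for the plus type. -/
theorem setup (hodd : Odd (Fintype.card F)) (hm : 4 ≤ m) :
    Nonempty (Setup (plusQ F m) m) :=
  ⟨{ h2 := two_ne hodd, hQ := plusQ_nondeg F m, fr := plusFrame F (by omega),
     hn := by simp; omega, hM := by simp; omega,
     hD := fun c => ⟨dil m c, muC_dil (by omega) c, by rw [det_dil]⟩ }⟩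

theorem card_hyp (hm : 4 ≤ m) :
    Fintype.card F ≠ 2 ∨ Fintype.card (Fin m ⊕ Fin m) ≠ 4 := Or.inr (by simp; omega)

theorem image_U0 (c : Fˣ) :
    Cfsg.imageSubmodule (mat (dil m c)) (OmegaPlus.U0 : Submodule F (Fin m ⊕ Fin m → F)) =
      OmegaPlus.U0 := by
  refine le_antisymm ?_ fun v hv => ⟨mat (dil m c⁻¹) *ᵥ v, ?_, ?_⟩
  · rintro _ ⟨v, hv, rfl⟩
    refine OmegaPlus.mem_U0.2 fun i => ?_
    rw [toLin'_apply, dil_mulVec, OmegaPlus.mem_U0.1 hv i, mul_zero]
  · exact OmegaPlus.mem_U0.2 fun i => by rw [dil_mulVec, OmegaPlus.mem_U0.1 hv i, mul_zero]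
  · funext z
    rw [toLin'_apply, dil_mulVec, dil_mulVec]
    rcases z with z | z <;> simp [dvec]

theorem preserves_iff (hodd : Odd (Fintype.card F)) (hm : 4 ≤ m) (g : GO (plusQ F m)) :
    Cfsg.PreservesSingularClasses ⇑(plusQ F m) (mat g) ↔ (mat g).det = (muC g : F) ^ m :=
  Classes.preserves_iff (two_ne hodd) (plusQ_nondeg F m) (by simp; omega) (card_hyp hm)
    OmegaPlus.U0_singular OmegaPlus.finrank_U0 (muC g).ne_zero (g : GL (Fin m ⊕ Fin m) F)
    (dil m (muC g) : GL (Fin m ⊕ Fin m) F) (muC_spec g) (dil_value (muC g)) (det_dil _)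
    (image_U0 _)

/-- The group generated by the automorphisms induced by class-preserving similarities of `Q'`. -/
def inndiagOf {ι : Type} [Fintype ι] [DecidableEq ι] (Q' : (ι → F) → F)
    (R : Matrix ι ι F → Prop) : Subgroup (MulAut (Cfsg.POmega F Q')) :=
  Cfsg.autSubgroupOf fun β => ∃ g : GL ι F, g ∈ Cfsg.Geo.quadSimilarityGroup (F := F) Q' ∧
    R (g : Matrix ι ι F) ∧ Cfsg.IsInducedBySemilinearPOmega Q' g (RingEquiv.refl F) β

theorem inndiag_eq (hodd : Odd (Fintype.card F)) (hm : 4 ≤ m) (S : Setup (plusQ F m) m) :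
    inndiagOf ⇑(plusQ F m) (Cfsg.PreservesSingularClasses ⇑(plusQ F m)) =
      S.dsgH.ker.map (gAut (plusQ F m)) :=
  autSub_eq_map S.dsgH.ker _ fun g => by
    rw [MonoidHom.mem_ker, S.dsgH_eq_one_iff]
    exact preserves_iff hodd hm g

theorem negMem_iff (hodd : Odd (Fintype.card F)) (hm : 4 ≤ m) :
    NegMem (plusQ F m) ↔ ¬ (Odd m ∧ Fintype.card F % 4 = 3) := by
  classical
  refine (SpecialOrth.neg_one_mem_omega_iff (plusQ_nondeg F m) (two_ne hodd) (by simp; omega)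
    ⟨m, by simp⟩).trans ?_
  have hg : Disc.gram (polB (plusQ F m)) (Pi.basisFun F (Fin m ⊕ Fin m)) =
      Matrix.fromBlocks 0 1 1 0 := by
    ext (i | i) (j | j) <;>
      simp [Disc.gram, polB_apply, plusQ_polar, Pi.single_apply, Matrix.one_apply, eq_comm]
  rw [hg, Disc.det_swap_blocks]
  rcases Nat.even_or_odd m with he | ho
  · rw [he.neg_one_pow]
    exact iff_of_true IsSquare.one fun h => Nat.not_odd_iff_even.2 he h.1
  · rw [ho.neg_one_pow, FiniteField.isSquare_neg_one_iff]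
    exact ⟨fun h h' => h h'.2, fun h h' => h ⟨ho, h'⟩⟩

/-- The square of the standard similarity. -/
theorem dil_sq (hm : 4 ≤ m) (c : Fˣ) : ∃ t : Cfsg.isometryGroup F ⇑(plusQ F m),
    dil m c * dil m c = scal (plusQ F m) (muC (dil m c)) * ofIso (plusQ F m) t ∧
      theta (plusQ_nondeg F m) (card_hyp hm) t = (1, chi ((c : F) ^ m)) := by
  let A : GL (Fin m) F := Units.map (Matrix.scalar (Fin m)).toMonoidHom c
  have hA : (A : Matrix (Fin m) (Fin m) F) = Matrix.diagonal fun _ => (c : F) := rfl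
  refine ⟨OmegaPlus.leviIso A, go_ext fun v => ?_, ?_⟩
  · have hAi : ((A : Matrix (Fin m) (Fin m) F)⁻¹)ᵀ = Matrix.diagonal fun _ => (c : F)⁻¹ := by
      rw [hA, Matrix.inv_eq_right_inv (B := Matrix.diagonal fun _ => (c : F)⁻¹)
        (by simp [diagonal_mul_diagonal]), diagonal_transpose]
    rw [mat_mul, mat_mul, ← mulVec_mulVec, ← mulVec_mulVec, muC_dil (by omega), scal_mulVec,
      ofIso_mulVec, OmegaPlus.act_levi, hAi, hA]
    funext z
    rw [dil_mulVec, dil_mulVec]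
    rcases z with z | z <;> simp [dvec, mulVec_diagonal, mul_comm, mul_left_comm]
  · rw [OmegaPlus.theta_levi (card_hyp hm), hA, det_diagonal]
    simp

/-! ### The results, for any presentation of the form -/

variable (hodd : Odd (Fintype.card F)) (hm : 4 ≤ m) (Q' : (Fin m ⊕ Fin m → F) → F)
  (hQ' : Q' = ⇑(plusQ F m))

include hodd hm hQ'

theorem pgo_mod_pso : ∃ φ : ↥(Cfsg.pgoAut F Q') →* Multiplicative (ZMod 2 × ZMod 2),
    Function.Surjective φ ∧ φ.ker = (Cfsg.psoAut F Q').subgroupOf (Cfsg.pgoAut F Q') := by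
  subst hQ'
  obtain ⟨S⟩ := setup hodd hm
  exact S.pgo_mod_pso

theorem pso_relIndex :
    ((Odd m ∧ Fintype.card F % 4 = 3) →
      (Cfsg.Inn (Cfsg.POmega F Q')).relIndex (Cfsg.psoAut F Q') = 1) ∧
    (¬ (Odd m ∧ Fintype.card F % 4 = 3) →
      (Cfsg.Inn (Cfsg.POmega F Q')).relIndex (Cfsg.psoAut F Q') = 2) := by
  subst hQ'
  obtain ⟨S⟩ := setup hodd hm
  exact ⟨fun h => S.relIndex_pso.trans (S.relIndex_one fun hn => (negMem_iff hodd hm).1 hn h),
    fun h => S.relIndex_pso.trans (S.relIndex_two ((negMem_iff hodd hm).2 h))⟩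

theorem pgo_mod_inn :
    ((Odd m ∧ Fintype.card F % 4 = 3) →
      ∃ φ : ↥(Cfsg.pgoAut F Q') →* Multiplicative (ZMod 2 × ZMod 2), Function.Surjective φ ∧
        φ.ker = (Cfsg.Inn (Cfsg.POmega F Q')).subgroupOf (Cfsg.pgoAut F Q')) ∧
    (¬ (Odd m ∧ Fintype.card F % 4 = 3) →
      ∃ φ : ↥(Cfsg.pgoAut F Q') →* DihedralGroup 4, Function.Surjective φ ∧
        φ.ker = (Cfsg.Inn (Cfsg.POmega F Q')).subgroupOf (Cfsg.pgoAut F Q')) := by
  subst hQ'
  obtain ⟨S⟩ := setup hodd hm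
  exact ⟨fun h => S.pgo_mod_inn_klein fun hn => (negMem_iff hodd hm).1 hn h,
    fun h => S.pgo_mod_inn_dihedral ((negMem_iff hodd hm).2 h)⟩

omit hQ' in
set_option maxHeartbeats 1600000 in
theorem inndiag_mod_inn_aux (S : Setup (plusQ F m) m)
    (P : Subgroup (MulAut (Cfsg.POmega F ⇑(plusQ F m))))
    (hP : P = S.dsgH.ker.map (gAut (plusQ F m))) :
    ((Odd m ∧ Fintype.card F % 4 = 3) →
      ∃ φ : ↥P →* Multiplicative (ZMod 2),
        Function.Surjective φ ∧ φ.ker = (Cfsg.Inn (Cfsg.POmega F ⇑(plusQ F m))).subgroupOf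
          P) ∧
    ((Odd m ∧ Fintype.card F % 4 = 1) →
      ∃ φ : ↥P →* Multiplicative (ZMod 4),
        Function.Surjective φ ∧ φ.ker = (Cfsg.Inn (Cfsg.POmega F ⇑(plusQ F m))).subgroupOf
          P) ∧
    (Even m →
      ∃ φ : ↥P →* Multiplicative (ZMod 2 × ZMod 2),
        Function.Surjective φ ∧ φ.ker = (Cfsg.Inn (Cfsg.POmega F ⇑(plusQ F m))).subgroupOf
          P) := by
  subst hP
  obtain ⟨c, hc⟩ := S.exists_nonsq
  obtain ⟨t, ht, htθ⟩ := dil_sq hm c
  have hmu : muC (dil (F := F) m c) = c := muC_dil (by omega) c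
  have hdet : (mat (dil (F := F) m c)).det = (muC (dil (F := F) m c) : F) ^ m := by
    rw [hmu, det_dil]
  refine ⟨fun h => S.inndiag_two fun hn => (negMem_iff hodd hm).1 hn h,
    fun h => S.inndiag_four_cyclic ((negMem_iff hodd hm).2 fun h' => by omega) hdet ht ?_,
    fun h => S.inndiag_four_klein ((negMem_iff hodd hm).2 fun h' => Nat.not_odd_iff_even.2 h h'.1)
      hdet (by rw [hmu, hc]) ht ?_⟩
  · rw [htθ]
    obtain ⟨l, hl⟩ := h.1
    intro h0
    have h1 : chi ((c : F) ^ m) = 1 := congrArg Prod.snd h0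
    have h2 : chi ((c : F) ^ (2 * l)) = 1 := chi_eq_one_iff.2 ⟨(c : F) ^ l, by ring⟩
    rw [hl, pow_succ, chi_mul (pow_ne_zero _ c.ne_zero) c.ne_zero, hc, h2, one_mul] at h1
    exact absurd h1 (by decide)
  · rw [htθ]
    obtain ⟨l, rfl⟩ := h
    have h2 : chi ((c : F) ^ (l + l)) = 1 := chi_eq_one_iff.2 ⟨(c : F) ^ l, pow_add _ _ _⟩
    rw [h2]
    rfl

theorem inndiag_mod_inn :
    ((Odd m ∧ Fintype.card F % 4 = 3) →
      ∃ φ : ↥(inndiagOf Q' (Cfsg.PreservesSingularClasses Q')) →* Multiplicative (ZMod 2),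
        Function.Surjective φ ∧ φ.ker = (Cfsg.Inn (Cfsg.POmega F Q')).subgroupOf
          (inndiagOf Q' (Cfsg.PreservesSingularClasses Q'))) ∧
    ((Odd m ∧ Fintype.card F % 4 = 1) →
      ∃ φ : ↥(inndiagOf Q' (Cfsg.PreservesSingularClasses Q')) →* Multiplicative (ZMod 4),
        Function.Surjective φ ∧ φ.ker = (Cfsg.Inn (Cfsg.POmega F Q')).subgroupOf
          (inndiagOf Q' (Cfsg.PreservesSingularClasses Q'))) ∧
    (Even m →
      ∃ φ : ↥(inndiagOf Q' (Cfsg.PreservesSingularClasses Q')) →* Multiplicative (ZMod 2 × ZMod 2),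
        Function.Surjective φ ∧ φ.ker = (Cfsg.Inn (Cfsg.POmega F Q')).subgroupOf
          (inndiagOf Q' (Cfsg.PreservesSingularClasses Q'))) := by
  subst hQ'
  obtain ⟨S⟩ := setup hodd hm
  exact inndiag_mod_inn_aux hodd hm S _ (inndiag_eq hodd hm S)

end Cfsg.Agent.AutPOmega.Plus
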