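import Cfsg.Agent.Lib.AutPOmega.Fundamental
import Cfsg.Agent.Lib.Classical.OrthForms
import Cfsg.Agent.Lib.AutPOmega.Plus

/-!
# `Aut (PΩ) = PΓO` for the standard forms
-/

set_option autoImplicit false
set_option linter.unusedSectionVars false

namespace Cfsg.Agent.AutPOmega.Standard

open Matrix Module Cfsg.Agent.Forms Cfsg.Agent.Forms.QuadStd Cfsg.Agent.Forms.Reflections
open Cfsg.Agent.Forms.PlusStd
open Cfsg.Agent.Classical Cfsg.Agent.Classical.Orth Cfsg.Agent.Classical.OrthForms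
open Cfsg.Agent.AutPOmega.PointStab Cfsg.Agent.AutPOmega.Fundamental

universe u

variable {F : Type u} [Field F] [Fintype F]

theorem top_of {ι : Type} [Fintype ι] [DecidableEq ι] {Q : QuadraticForm F (ι → F)} (S : Big3 Q)
    (Q' : (ι → F) → F) (h : Q' = ⇑Q) : Cfsg.gammaPOmega F Q' = ⊤ := by
  subst h
  obtain ⟨p, hp⟩ := CharP.exists F
  haveI := hp
  haveI : Fact p.Prime := ⟨CharP.char_is_prime F p⟩
  exact gammaPOmega_eq_top S p

/-- The data for the plus form. -/
noncomputable def plusBig {m : ℕ} (hm : 5 ≤ m) : Big3 (plusQ F m) where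
  hQ := plusQ_nondeg F m
  fr := plusFrame F (by omega)
  hn := by simp; omega
  htri h := by simp at h; omega
  a3 := Pi.single (Sum.inl ⟨2, by omega⟩) 1
  b3 := Pi.single (Sum.inr ⟨2, by omega⟩) 1
  p3 := plusQ_pair _
  ua := plusQ_orth (fun i => by simp [Fin.ext_iff] <;> omega) (fun i => by simp [Fin.ext_iff] <;> omega)
  va := plusQ_orth (fun i => by simp [Fin.ext_iff] <;> omega) (fun i => by simp [Fin.ext_iff] <;> omega)
  u'a := plusQ_orth (fun i => by simp [Fin.ext_iff] <;> omega) (fun i => by simp [Fin.ext_iff] <;> omega)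
  v'a := plusQ_orth (fun i => by simp [Fin.ext_iff] <;> omega) (fun i => by simp [Fin.ext_iff] <;> omega)
  ub := plusQ_orth (fun i => by simp [Fin.ext_iff] <;> omega) (fun i => by simp [Fin.ext_iff] <;> omega)
  vb := plusQ_orth (fun i => by simp [Fin.ext_iff] <;> omega) (fun i => by simp [Fin.ext_iff] <;> omega)
  u'b := plusQ_orth (fun i => by simp [Fin.ext_iff] <;> omega) (fun i => by simp [Fin.ext_iff] <;> omega)
  v'b := plusQ_orth (fun i => by simp [Fin.ext_iff] <;> omega) (fun i => by simp [Fin.ext_iff] <;> omega)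

/-- The data for the odd form. -/
noncomputable def oddBig (h2 : (2 : F) ≠ 0) {m : ℕ} (hm : 3 ≤ m) : Big3 (oddQ F m) where
  hQ := oddQ_nondeg h2 m
  fr := oddFrame F (by omega)
  hn := by simp; omega
  htri h := by simp at h; omega
  a3 := Sum.elim 0 (Pi.single (Sum.inl ⟨2, by omega⟩) 1)
  b3 := Sum.elim 0 (Pi.single (Sum.inr ⟨2, by omega⟩) 1)
  p3 := by
    have h := plusQ_pair (F := F) (⟨2, by omega⟩ : Fin m)
    exact ⟨by rw [oddQ_inr, h.hu], by rw [oddQ_inr, h.hv], by rw [oddQ_polar_inr, h.huv]⟩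
  ua := (oddQ_polar_inr m _ _).trans (plusQ_orth (fun i => by simp [Fin.ext_iff] <;> omega) (fun i => by simp [Fin.ext_iff] <;> omega))
  va := (oddQ_polar_inr m _ _).trans (plusQ_orth (fun i => by simp [Fin.ext_iff] <;> omega) (fun i => by simp [Fin.ext_iff] <;> omega))
  u'a := (oddQ_polar_inr m _ _).trans (plusQ_orth (fun i => by simp [Fin.ext_iff] <;> omega) (fun i => by simp [Fin.ext_iff] <;> omega))
  v'a := (oddQ_polar_inr m _ _).trans (plusQ_orth (fun i => by simp [Fin.ext_iff] <;> omega) (fun i => by simp [Fin.ext_iff] <;> omega))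
  ub := (oddQ_polar_inr m _ _).trans (plusQ_orth (fun i => by simp [Fin.ext_iff] <;> omega) (fun i => by simp [Fin.ext_iff] <;> omega))
  vb := (oddQ_polar_inr m _ _).trans (plusQ_orth (fun i => by simp [Fin.ext_iff] <;> omega) (fun i => by simp [Fin.ext_iff] <;> omega))
  u'b := (oddQ_polar_inr m _ _).trans (plusQ_orth (fun i => by simp [Fin.ext_iff] <;> omega) (fun i => by simp [Fin.ext_iff] <;> omega))
  v'b := (oddQ_polar_inr m _ _).trans (plusQ_orth (fun i => by simp [Fin.ext_iff] <;> omega) (fun i => by simp [Fin.ext_iff] <;> omega))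

/-- A totally singular subspace of the minus form has dimension at most `k`. -/
theorem minQ_singular_le {k : ℕ} {a b : F}
    (hab : ∀ z₁ z₂ : F, z₁ ^ 2 + a * z₁ * z₂ + b * z₂ ^ 2 = 0 → z₁ = 0 ∧ z₂ = 0)
    (R : Submodule F ((Fin k ⊕ Fin k) ⊕ Fin 2 → F)) (hR : ∀ r ∈ R, minQ F k a b r = 0) :
    finrank F R ≤ k := by
  classical
  let fx : ↥R →ₗ[F] (Fin k → F) :=
    (LinearMap.funLeft F F (fun i : Fin k => (Sum.inl (Sum.inl i) : (Fin k ⊕ Fin k) ⊕ Fin 2))).comp R.subtype
  let fy : ↥R →ₗ[F] (Fin k → F) :=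
    (LinearMap.funLeft F F (fun i : Fin k => (Sum.inl (Sum.inr i) : (Fin k ⊕ Fin k) ⊕ Fin 2))).comp R.subtype
  let gy : ↥(LinearMap.ker fx) →ₗ[F] (Fin k → F) := fy.comp (LinearMap.ker fx).subtype
  have hzero : ∀ r : ↥(LinearMap.ker fx), r.1.1 (.inr 0) = 0 ∧ r.1.1 (.inr 1) = 0 := fun r => by
    have h1 := hR r.1.1 r.1.2
    have h2 : ∀ i, r.1.1 (.inl (.inl i)) = 0 := fun i => congrFun (LinearMap.mem_ker.1 r.2) i
    rw [minQ_apply, plusQ_apply] at h1
    refine hab _ _ ?_
    simpa [Cfsg.quadFormPlus, h2] using h1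
  have hgy : Function.Injective gy := by
    refine fun r s hrs => Subtype.ext (Subtype.ext (funext fun z => ?_))
    rcases z with (z | z) | z
    · exact (congrFun (LinearMap.mem_ker.1 r.2) z).trans (congrFun (LinearMap.mem_ker.1 s.2) z).symm
    · exact congrFun hrs z
    · fin_cases z
      · exact (hzero r).1.trans (hzero s).1.symm
      · exact (hzero r).2.trans (hzero s).2.symm
  let D : (Fin k → F) ≃ₗ[F] Module.Dual F (Fin k → F) := dotProductEquiv F (Fin k)
  have hle : (LinearMap.range fx).map (D : (Fin k → F) →ₗ[F] Module.Dual F (Fin k → F)) ≤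
      (LinearMap.range gy).dualAnnihilator := by
    rintro _ ⟨_, ⟨r, rfl⟩, rfl⟩
    rw [Submodule.mem_dualAnnihilator]
    rintro _ ⟨s, rfl⟩
    have h1 : QuadraticMap.polar (minQ F k a b) r.1 s.1.1 = 0 := by
      rw [QuadraticMap.polar, hR _ (R.add_mem r.2 s.1.2), hR _ r.2, hR _ s.1.2]; simp
    have h2 : ∀ i, s.1.1 (.inl (.inl i)) = 0 := fun i => congrFun (LinearMap.mem_ker.1 s.2) i
    rw [minQ_polar, plusQ_polar] at h1
    show dotProduct (fx r) (gy s) = 0
    show ∑ i, r.1 (.inl (.inl i)) * s.1.1 (.inl (.inr i)) = 0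
    simpa [h2, (hzero s).1, (hzero s).2] using h1
  have h1 := Submodule.finrank_mono hle
  rw [LinearEquiv.finrank_map_eq] at h1
  have h2 := Subspace.finrank_add_finrank_dualAnnihilator_eq (LinearMap.range gy)
  have h3 := LinearMap.finrank_range_of_inj hgy
  have h4 := LinearMap.finrank_range_add_finrank_ker fx
  rw [Module.finrank_fin_fun] at h2
  omega

/-- The data for the minus form. -/
noncomputable def minBig {k : ℕ} (hk : 3 ≤ k) {a b : F}
    (hab : ∀ z₁ z₂ : F, z₁ ^ 2 + a * z₁ * z₂ + b * z₂ ^ 2 = 0 → z₁ = 0 ∧ z₂ = 0) :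
    Big3 (minQ F k a b) where
  hQ := minQ_nondeg k hab
  fr := minFrame F (by omega) a b
  hn := by simp; omega
  htri h R hR := by
    have := minQ_singular_le hab R hR
    simp at h
    omega
  a3 := Sum.elim (Pi.single (Sum.inl ⟨2, by omega⟩) 1) 0
  b3 := Sum.elim (Pi.single (Sum.inr ⟨2, by omega⟩) 1) 0
  p3 := by
    have h := plusQ_pair (F := F) (⟨2, by omega⟩ : Fin k)
    exact ⟨by rw [minQ_inl, h.hu], by rw [minQ_inl, h.hv], by rw [minQ_polar_inl, h.huv]⟩
  ua := (minQ_polar_inl k a b _ _).trans (plusQ_orth (fun i => by simp [Fin.ext_iff] <;> omega) (fun i => by simp [Fin.ext_iff] <;> omega))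
  va := (minQ_polar_inl k a b _ _).trans (plusQ_orth (fun i => by simp [Fin.ext_iff] <;> omega) (fun i => by simp [Fin.ext_iff] <;> omega))
  u'a := (minQ_polar_inl k a b _ _).trans (plusQ_orth (fun i => by simp [Fin.ext_iff] <;> omega) (fun i => by simp [Fin.ext_iff] <;> omega))
  v'a := (minQ_polar_inl k a b _ _).trans (plusQ_orth (fun i => by simp [Fin.ext_iff] <;> omega) (fun i => by simp [Fin.ext_iff] <;> omega))
  ub := (minQ_polar_inl k a b _ _).trans (plusQ_orth (fun i => by simp [Fin.ext_iff] <;> omega) (fun i => by simp [Fin.ext_iff] <;> omega))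
  vb := (minQ_polar_inl k a b _ _).trans (plusQ_orth (fun i => by simp [Fin.ext_iff] <;> omega) (fun i => by simp [Fin.ext_iff] <;> omega))
  u'b := (minQ_polar_inl k a b _ _).trans (plusQ_orth (fun i => by simp [Fin.ext_iff] <;> omega) (fun i => by simp [Fin.ext_iff] <;> omega))
  v'b := (minQ_polar_inl k a b _ _).trans (plusQ_orth (fun i => by simp [Fin.ext_iff] <;> omega) (fun i => by simp [Fin.ext_iff] <;> omega))

end Cfsg.Agent.AutPOmega.Standard
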