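import Cfsg.Agent.Lib.AutPOmega.Pos
import Cfsg.Agent.Lib.AutPOmega.BaseChange
import Cfsg.Agent.Lib.AutPOmega.Plus
import Cfsg.Agent.Lib.AutPOmega.Minus
import Cfsg.Agent.Lib.AutPOmega.Standard

/-!
# `Inndiag` as the image of the class preserving similarities, any characteristic
-/

set_option autoImplicit false
set_option linter.unusedSectionVars false
set_option linter.unusedVariables false

namespace Cfsg.Agent.AutPOmega

open Matrix Module Cfsg.Agent.Forms Cfsg.Agent.Forms.QuadStd Cfsg.Agent.Forms.Reflections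
open Cfsg.Agent.Forms.PlusStd Cfsg.Agent.Classical Cfsg.Agent.Classical.Orth
open Cfsg.Agent.Classical.OrthForms Cfsg.Agent.Classical.OmegaCrit
open Cfsg.Agent.AutPOmega.BaseChange

universe u

variable {F : Type u} [Field F] [Fintype F]

theorem odd_card_of_two_ne (h2 : (2 : F) ≠ 0) : Odd (Fintype.card F) := by
  refine Nat.odd_iff.2 (FiniteField.odd_card_of_char_ne_two fun h => h2 ?_)
  have : CharP F 2 := h ▸ ringChar.charP F
  exact CharTwo.two_eq_zero

section general

variable {ι : Type} [Fintype ι] [DecidableEq ι] {Q : QuadraticForm F (ι → F)} {M : ℕ}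

theorem imageSubmodule_scal_mul (a : Fˣ) (h : Cfsg.isometryGroup F ⇑Q)
    (U : Submodule F (ι → F)) :
    Cfsg.imageSubmodule (mat (scal Q a * ofIso Q h)) U = U.map (act h) := by
  have e : ∀ v, mat (scal Q a * ofIso Q h) *ᵥ v = (a : F) • act h v := fun v => by
    rw [mat_mul, ← Matrix.mulVec_mulVec, scal_mulVec, ofIso_mulVec]
  refine le_antisymm ?_ ?_
  · rintro _ ⟨v, hv, rfl⟩
    rw [Matrix.toLin'_apply, e]
    exact Submodule.smul_mem _ _ ⟨v, hv, rfl⟩
  · rintro _ ⟨v, hv, rfl⟩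
    refine ⟨(a : F)⁻¹ • v, U.smul_mem _ hv, ?_⟩
    rw [Matrix.toLin'_apply, e, map_smul, smul_smul, mul_inv_cancel₀ a.ne_zero, one_smul]

/-- In characteristic two the classes are preserved exactly by the even isometries. -/
theorem preserves_two (E : EvenSetup Q M) (h2 : (2 : F) = 0) {U0 : Submodule F (ι → F)}
    (hU0 : ∀ u ∈ U0, Q u = 0) (hU0d : finrank F U0 = M) (a : Fˣ)
    (h : Cfsg.isometryGroup F ⇑Q) :
    Cfsg.PreservesSingularClasses ⇑Q (mat (scal Q a * ofIso Q h)) ↔ par h = 1 := by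
  have key : ∀ k : Cfsg.isometryGroup F ⇑Q, Cfsg.SameParityClass (U0.map (act k))
      (Cfsg.imageSubmodule (mat (scal Q a * ofIso Q h)) (U0.map (act k))) ↔ par h = 1 := fun k => by
    rw [Cfsg.SameParityClass, imageSubmodule_scal_mul, Classes.finrank_image, hU0d,
      OmegaScale.par_eq_neg_one_pow E.hQ E.hq E.hM (Classes.image_singular k hU0)
        ((Classes.finrank_image k U0).trans hU0d) h]
    exact (neg_one_pow_eq_one_iff_even (by decide)).symm
  constructor
  · intro hp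
    obtain ⟨k, hk⟩ := Classes.exists_le_image E.hQ E.hM hU0 hU0d hU0
    refine (key k).1 (hp _ ⟨Classes.image_singular k hU0, fun W hW hle => ?_⟩)
    obtain ⟨k', hk'⟩ := Classes.exists_le_image E.hQ E.hM hU0 hU0d hW
    refine (Submodule.eq_of_le_of_finrank_le hle ?_).symm
    rw [Classes.finrank_image k U0]
    exact (Submodule.finrank_mono hk').trans (Classes.finrank_image k' U0).le
  · intro hp U hU
    obtain ⟨k, hk⟩ := Classes.exists_le_image E.hQ E.hM hU0 hU0d hU.1
    rw [← hU.2 _ (Classes.image_singular k hU0) hk]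
    exact (key k).2 hp

/-- `autSubgroupOf` of the class condition is the image of the kernel of the class character. -/
theorem inndiag_eq_map (E : EvenSetup Q M) (R : Matrix ι ι F → Prop)
    (hR : ∀ g : GO Q, R (mat g) ↔ E.cls g = 1) :
    Plus.inndiagOf ⇑Q R = E.cls.ker.map (gAut Q) :=
  autSub_eq_map E.cls.ker _ fun g => (hR g).trans MonoidHom.mem_ker.symm

end general

/-! ### Odd dimension -/

theorem inndiag_odd (m : ℕ) :
    Cfsg.autSubgroupOf (fun β : Cfsg.POmega F ⇑(oddQ F m) ≃* Cfsg.POmega F ⇑(oddQ F m) =>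
      Cfsg.IsSimilarityInducedAutPOmega ⇑(oddQ F m) β) = (gAut (oddQ F m)).range := by
  refine le_antisymm ((Subgroup.closure_le _).2 ?_) ?_
  · rintro β ⟨g, hg, h⟩
    exact ⟨⟨g, hg⟩, ((isInduced_iff ⟨g, hg⟩ β).1 h).symm⟩
  · rintro _ ⟨g, rfl⟩
    exact Subgroup.subset_closure ⟨g, g.2, (isInduced_iff g _).2 rfl⟩

/-! ### Plus type -/

/-- The data for the plus form. -/
theorem plusEven {m : ℕ} (hm : 4 ≤ m) : Nonempty (EvenSetup (plusQ F m) m) :=
  ⟨{ hQ := plusQ_nondeg F m, fr := plusFrame F (by omega), hn := by simp; omega,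
     hM := by simp; omega,
     hD := fun _ c => ⟨Plus.dil m c, Plus.muC_dil (by omega) c, Plus.det_dil c⟩ }⟩

theorem preserves_plus {m : ℕ} (hm : 4 ≤ m) (E : EvenSetup (plusQ F m) m) (g : GO (plusQ F m)) :
    Cfsg.PreservesSingularClasses ⇑(plusQ F m) (mat g) ↔ E.cls g = 1 := by
  by_cases h2 : (2 : F) = 0
  · obtain ⟨a, h, rfl⟩ := E.exists_decomp h2 g
    rw [E.cls_apply, E.clsF_decomp h2]
    exact preserves_two E h2 OmegaPlus.U0_singular OmegaPlus.finrank_U0 a h
  · rw [E.cls_apply, E.clsF_odd h2, (E.toSetup h2).dsgH_eq_one_iff]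
    exact Plus.preserves_iff (odd_card_of_two_ne h2) hm g

theorem inndiag_plus {m : ℕ} (hm : 4 ≤ m) (E : EvenSetup (plusQ F m) m) :
    Plus.inndiagOf ⇑(plusQ F m) (Cfsg.PreservesSingularClasses ⇑(plusQ F m)) =
      E.cls.ker.map (gAut (plusQ F m)) :=
  inndiag_eq_map E _ (preserves_plus hm E)

/-! ### Minus type -/

section minus

variable {k : ℕ} {a b : F}
  (hab : ∀ z₁ z₂ : F, z₁ ^ 2 + a * z₁ * z₂ + b * z₂ ^ 2 = 0 → z₁ = 0 ∧ z₂ = 0)

include hab

/-- The data for the minus form. -/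
theorem minusEven (hk : 3 ≤ k) : Nonempty (EvenSetup (minQ F k a b) (k + 1)) :=
  ⟨{ hQ := minQ_nondeg k hab, fr := minFrame F (by omega) a b, hn := by simp; omega,
     hM := by simp; omega,
     hD := fun h2 => by
      obtain ⟨S⟩ := Minus.setup (odd_card_of_two_ne h2) hab hk
      exact S.hD }⟩

theorem coeff_ne_zero (h2 : (2 : F) = 0) : a ≠ 0 := fun ha => by
  have : CharP F 2 := CharTwo.of_one_ne_zero_of_two_eq_zero one_ne_zero h2
  obtain ⟨t, ht⟩ := FiniteField.isSquare_of_char_two (ringChar.eq F 2) b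
  have h := hab t 1 (by rw [ha, ht]; linear_combination t * t * h2)
  exact one_ne_zero h.2

omit hab in
/-- Extension of the isometries of the minus form. -/
noncomputable def upK {K : Type u} [Field K] (φ : F →+* K) :
    Cfsg.isometryGroup F ⇑(minQ F k a b) →*
      Cfsg.isometryGroup K ⇑(minQ K k (φ a) (φ b)) :=
  ((Units.map (RingHom.mapMatrix φ).toMonoidHom).comp (Subgroup.subtype _)).codRestrict _
    fun h => by
      refine (mem_isometry_iff _ _).2 fun v => ?_
      have e := (ext_minQ φ k a b).unique (R' := (minQ K k (φ a) (φ b)).comp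
          (Matrix.toLin' (((h : GL ((Fin k ⊕ Fin k) ⊕ Fin 2) F) : Matrix ((Fin k ⊕ Fin k) ⊕ Fin 2) ((Fin k ⊕ Fin k) ⊕ Fin 2) F).map φ))) fun x => by
        show minQ K k (φ a) (φ b) (((h : GL ((Fin k ⊕ Fin k) ⊕ Fin 2) F) : Matrix ((Fin k ⊕ Fin k) ⊕ Fin 2) ((Fin k ⊕ Fin k) ⊕ Fin 2) F).map φ *ᵥ vmap φ x) = _
        rw [show ((h : GL ((Fin k ⊕ Fin k) ⊕ Fin 2) F) : Matrix ((Fin k ⊕ Fin k) ⊕ Fin 2) ((Fin k ⊕ Fin k) ⊕ Fin 2) F).map φ *ᵥ vmap φ x =
            vmap φ (((h : GL ((Fin k ⊕ Fin k) ⊕ Fin 2) F) : Matrix ((Fin k ⊕ Fin k) ⊕ Fin 2) ((Fin k ⊕ Fin k) ⊕ Fin 2) F) *ᵥ x) from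
              funext fun i => (RingHom.map_mulVec φ _ x i).symm, ext_minQ φ k a b, iso_mulVec h]
      exact (DFunLike.congr_fun e v).symm

theorem par_upK (hk : 3 ≤ k) {K : Type u} [Field K] [Fintype K] (φ : F →+* K)
    (hQ' : (QuadraticMap.polarBilin (minQ K k (φ a) (φ b))).Nondegenerate)
    (h : Cfsg.isometryGroup F ⇑(minQ F k a b)) : par (upK φ h) = par h := by
  have hn : Fintype.card K ≠ 2 ∨ Fintype.card ((Fin k ⊕ Fin k) ⊕ Fin 2) ≠ 4 :=
    Or.inr (by simp; omega)
  have hn' : Fintype.card F ≠ 2 ∨ Fintype.card ((Fin k ⊕ Fin k) ⊕ Fin 2) ≠ 4 :=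
    Or.inr (by simp; omega)
  have hQ := minQ_nondeg k hab
  have href : ∀ v : (Fin k ⊕ Fin k) ⊕ Fin 2 → F, minQ F k a b v ≠ 0 →
      upK φ (reflect (minQ F k a b) v) = reflect (minQ K k (φ a) (φ b)) (vmap φ v) := by
    intro v hv
    refine Subtype.ext (Units.ext (Matrix.ext fun i j => ?_))
    show φ (((reflect (minQ F k a b) v : GL ((Fin k ⊕ Fin k) ⊕ Fin 2) F) : Matrix ((Fin k ⊕ Fin k) ⊕ Fin 2) ((Fin k ⊕ Fin k) ⊕ Fin 2) F) i j) = _
    have e1 := congrFun (act_reflect (Q := minQ F k a b) v (Pi.single j 1)) i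
    have e2 := congrFun (act_reflect (Q := minQ K k (φ a) (φ b)) (vmap φ v) (Pi.single j 1)) i
    rw [act_apply, Matrix.mulVec_single_one] at e1 e2
    rw [show ((reflect (minQ F k a b) v : GL ((Fin k ⊕ Fin k) ⊕ Fin 2) F) : Matrix ((Fin k ⊕ Fin k) ⊕ Fin 2) ((Fin k ⊕ Fin k) ⊕ Fin 2) F) i j = _ from e1,
      show ((reflect (minQ K k (φ a) (φ b)) (vmap φ v) : GL ((Fin k ⊕ Fin k) ⊕ Fin 2) K) : Matrix ((Fin k ⊕ Fin k) ⊕ Fin 2) ((Fin k ⊕ Fin k) ⊕ Fin 2) K) i j = _ from e2,
      ← vmap_single φ j, ext_minQ φ k a b, (ext_minQ φ k a b).polar]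
    simp only [Pi.sub_apply, Pi.smul_apply, smul_eq_mul, map_sub, map_mul, map_inv₀, vmap]
  have hmem : h ∈ refGroup (minQ F k a b) := by rw [refGroup_eq_top hQ hn']; trivial
  induction hmem using Subgroup.closure_induction with
  | mem x hx =>
    obtain ⟨v, hv, rfl⟩ := hx
    have hv' : minQ K k (φ a) (φ b) (vmap φ v) ≠ 0 := by
      rw [ext_minQ φ k a b]; exact (map_ne_zero φ).2 hv
    have e1 := par_reflect_mul hQ hv (1 : Cfsg.isometryGroup F ⇑(minQ F k a b))
    have e2 := par_reflect_mul hQ' hv' (1 : Cfsg.isometryGroup K ⇑(minQ K k (φ a) (φ b)))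
    rw [mul_one, par_one] at e1 e2
    rw [href v hv, e1, e2]
  | one => rw [map_one, par_one, par_one]
  | mul x y _ _ hx hy => rw [map_mul, par_mul_all hQ' hn, par_mul_all hQ hn', hx, hy]
  | inv x _ hx =>
    have e1 := par_mul_all hQ' hn (upK φ x⁻¹) (upK φ x)
    have e2 := par_mul_all hQ hn' x⁻¹ x
    rw [← map_mul, inv_mul_cancel, map_one, par_one, hx] at e1
    rw [inv_mul_cancel, par_one] at e2
    exact mul_right_cancel (e1.symm.trans e2)

theorem preserves_over_two (hk : 3 ≤ k) (h2 : (2 : F) = 0) (t : Fˣ)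
    (h : Cfsg.isometryGroup F ⇑(minQ F k a b)) (K : Type u) [Field K] [Algebra F K] [Finite K]
    {r : K} (hr : r ^ 2 + algebraMap F K a * r + algebraMap F K b = 0) :
    Cfsg.PreservesSingularClasses
        (Cfsg.quadFormMinus k K (algebraMap F K a) (algebraMap F K b))
        ((mat (scal (minQ F k a b) t * ofIso _ h)).map (algebraMap F K)) ↔ par h = 1 := by
  let _ : Fintype K := Fintype.ofFinite K
  set φ := algebraMap F K
  have h2' : (2 : K) = 0 := by rw [← map_ofNat φ 2, h2, map_zero]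
  have hd : 4 * φ b - φ a ^ 2 ≠ 0 := fun h0 => coeff_ne_zero hab h2 (φ.injective (by
    rw [map_zero]
    exact eq_zero_of_pow_eq_zero (n := 2) (by linear_combination -h0 + (2 * φ b) * h2')))
  have hQ' := Minus.nondeg_of_disc (k := k) hd
  let E : EvenSetup (minQ K k (φ a) (φ b)) (k + 1) :=
    { hQ := hQ', fr := minFrame K (by omega) _ _, hn := by simp; omega, hM := by simp; omega,
      hD := fun h2n => absurd h2' h2n }
  have hg : (mat (scal (minQ F k a b) t * ofIso _ h)).map φ =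
      mat (scal (minQ K k (φ a) (φ b)) (Units.map φ.toMonoidHom t) * ofIso _ (upK φ h)) := by
    rw [mat_mul, mat_mul, Matrix.map_mul]
    congr 1
    show ((Matrix.scalar _ (t : F))).map φ = Matrix.scalar _ (φ (t : F))
    rw [Matrix.scalar_apply, Matrix.scalar_apply, Matrix.diagonal_map (map_zero φ)]
  rw [hg, ← minQ_eq]
  rw [preserves_two E h2' (Minus.lag_singular hr) (Minus.finrank_lag r), par_upK hab hk φ hQ']

theorem preserves_minus (hk : 3 ≤ k) (E : EvenSetup (minQ F k a b) (k + 1))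
    (g : GO (minQ F k a b)) :
    Cfsg.PreservesSingularClassesMinus k a b (mat g) ↔ E.cls g = 1 := by
  by_cases h2 : (2 : F) = 0
  · obtain ⟨t, h, rfl⟩ := E.exists_decomp h2 g
    rw [E.cls_apply, E.clsF_decomp h2]
    haveI : Fact (∀ r : F, r ^ 2 ≠ -b + a * r) := ⟨fun r hr => one_ne_zero
      (hab (-r) 1 (by linear_combination hr)).2⟩
    haveI : Module.Finite F (QuadraticAlgebra F (-b) a) :=
      Module.finite_of_finrank_eq_succ (QuadraticAlgebra.finrank_eq_two _ _)
    haveI : Finite (QuadraticAlgebra F (-b) a) := Module.finite_of_finite F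
    have hroot : ∃ r : QuadraticAlgebra F (-b) a, r ^ 2 +
        algebraMap F _ a * r + algebraMap F _ b = 0 := by
      refine ⟨-QuadraticAlgebra.omega, ?_⟩
      rw [sq]
      ext <;> simp
    constructor
    · rintro ⟨K, iK, iA, hK, hp⟩
      haveI : Module.Finite F K := Module.finite_of_finrank_eq_succ hK
      haveI : Finite K := Module.finite_of_finite F
      obtain ⟨f⟩ := FiniteField.nonempty_algHom_of_finrank_dvd (F := F)
        (K := QuadraticAlgebra F (-b) a) (L := K) (by rw [hK, QuadraticAlgebra.finrank_eq_two])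
      obtain ⟨r, hr⟩ := hroot
      refine (preserves_over_two hab hk h2 t h K (r := f r) ?_).1 hp
      have := congrArg f hr
      simpa using this
    · intro hp
      obtain ⟨r, hr⟩ := hroot
      exact ⟨QuadraticAlgebra F (-b) a, inferInstance, inferInstance,
        QuadraticAlgebra.finrank_eq_two _ _, (preserves_over_two hab hk h2 t h _ hr).2 hp⟩
  · rw [E.cls_apply, E.clsF_odd h2, (E.toSetup h2).dsgH_eq_one_iff]
    exact Minus.preserves_iff (odd_card_of_two_ne h2) hab hk g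

theorem inndiag_minus (hk : 3 ≤ k) (E : EvenSetup (minQ F k a b) (k + 1)) :
    Plus.inndiagOf ⇑(minQ F k a b) (Cfsg.PreservesSingularClassesMinus k a b) =
      E.cls.ker.map (gAut (minQ F k a b)) :=
  inndiag_eq_map E _ (preserves_minus hab hk E)

end minus

/-- Every automorphism is induced by a semisimilarity. -/
theorem exists_semi {ι : Type} [Fintype ι] [DecidableEq ι] {Q : QuadraticForm F (ι → F)}
    (S : Fundamental.Big3 Q) (β : MulAut (Cfsg.POmega F ⇑Q)) :
    ∃ Φ : Semi Q Q, β = semP Φ := by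
  obtain ⟨p, hp⟩ := CharP.exists F
  haveI := hp
  haveI : Fact p.Prime := ⟨CharP.char_is_prime F p⟩
  obtain ⟨g, σ, ⟨c, hc⟩, hind⟩ := Fundamental.exists_semisimilarity S p β
  exact ⟨⟨g, σ, c, hc⟩, eq_semP ⟨g, σ, c, hc⟩ β hind⟩

end Cfsg.Agent.AutPOmega
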