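import Cfsg.Agent.Lib.AutPOmega.D4Out
import Cfsg.Agent.Lib.AutPOmega.InnDiag

/-!
# Diagonal automorphisms of type `D4` are class preserving similarities
-/

set_option autoImplicit false
set_option linter.unusedSectionVars false

namespace Cfsg.Agent.AutPOmega.D4Natural

open Matrix Cfsg.Lie Cfsg.Agent.Chevalley.AutThm Cfsg.Agent.Chevalley.Group
open Cfsg.Agent.Chevalley Cfsg.Agent.Chevalley.Natural
open Cfsg.Agent.Forms Cfsg.Agent.Forms.PlusStd Cfsg.Agent.Forms.Reflections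
open Cfsg.Agent.Classical Cfsg.Agent.Classical.Orth Cfsg.Agent.Classical.OrthForms
open Cfsg.Agent.AutPOmega.OutGamma

universe u

variable {F : Type u} [Field F]

local notation "IX" => (Fin 4 ⊕ Fin 4)
local notation "Nd" => Fin chevD4.rank
local notation "Q8" => plusQ F 4
local notation "Tr" => Cfsg.Agent.Chevalley.Natural.TypeD4.data

/-- A simple quotient of two central covers of the same group, with the compatibility. -/
theorem iso_compat {G H S : Type*} [Group G] [Group H] [Group S] [IsSimpleGroup S]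
    (θ : G →* S) (hθ : Function.Surjective θ) (hker : θ.ker ≤ Subgroup.center G)
    (φ : G →* H) (hφ : Function.Surjective φ) (hnc : ∃ x y : H, x * y ≠ y * x) :
    ∃ e : S ≃* H ⧸ Subgroup.center H, ∀ g, e (θ g) = QuotientGroup.mk (φ g) := by
  obtain ⟨ψ, hψ⟩ : ∃ ψ, ψ = (QuotientGroup.mk' (Subgroup.center H)).comp φ := ⟨_, rfl⟩
  have hψs : Function.Surjective ψ := by
    rw [hψ, MonoidHom.coe_comp]; exact (QuotientGroup.mk'_surjective _).comp hφ
  have hle : θ.ker ≤ ψ.ker := by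
    intro z hz
    rw [MonoidHom.mem_ker, hψ, MonoidHom.comp_apply]
    refine (QuotientGroup.eq_one_iff _).2 (Subgroup.mem_center_iff.2 fun y => ?_)
    obtain ⟨w, rfl⟩ := hφ y
    rw [← map_mul, ← map_mul, Subgroup.mem_center_iff.1 (hker hz) w]
  let χ : S →* H ⧸ Subgroup.center H := θ.liftOfSurjective hθ ⟨ψ, hle⟩
  have hχ : ∀ g, χ (θ g) = ψ g := fun g => θ.liftOfRightInverse_comp_apply _ _ ⟨ψ, hle⟩ g
  have hχs : Function.Surjective χ := fun y => by
    obtain ⟨g, rfl⟩ := hψs y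
    exact ⟨θ g, hχ g⟩
  have hχi : Function.Injective χ := by
    rw [← MonoidHom.ker_eq_bot_iff]
    rcases (inferInstance : χ.ker.Normal).eq_bot_or_eq_top with hb | ht
    · exact hb
    exfalso
    obtain ⟨x, y, hxy⟩ := hnc
    obtain ⟨g, rfl⟩ := hφ x
    apply hxy
    have hg : ψ g = 1 := by rw [← hχ, ← MonoidHom.mem_ker, ht]; trivial
    rw [hψ, MonoidHom.comp_apply] at hg
    exact (Subgroup.mem_center_iff.1 ((QuotientGroup.eq_one_iff _).1 hg) y).symm
  exact ⟨MulEquiv.ofBijective χ ⟨hχi, hχs⟩, fun g => by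
    show χ (θ g) = _
    rw [hχ, hψ]
    rfl⟩

theorem hlt : ∀ r < chevD4.nroots, ∀ s < chevD4.nroots, ∀ c ∈ chevD4.commTerms r s, c.1 < chevD4.nroots :=
  fun r hr s hs => Relations.commTerms_lt Types.D4.certified hr hs

variable [Fintype F]

theorem omega_eq : Cfsg.Omega F ⇑Q8 = rootGroup (TypeD4.split F) := by
  have h := TypeD4.split F
  refine le_antisymm ?_ (rootGroup_le_of_single h TypeD4.certs hlt TypeD4.single_ok)
  have ha : Cfsg.Agent.Chevalley.Natural.TypeD4.data.q (Sum.inl 0) = 0 := rfl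
  refine h.commutator_le TypeD4.good_ok (h.mono_swp ha one_ne_zero)
    (Cfsg.Agent.Forms.Reflections.reflect_sq _) (fun g hg => ?_) fun b t hb ht => ?_
  · rw [TypeD4.rest_ok] at hg
    exact h.base_plane ha (fun k hk => by simp [TypeD4.data] at hk) hg
  · exact h.swp_dia_commutator ha
      (fun u hu => dia_sq_mem h TypeD4.certs hlt ha (r := 23) (s := 18) (by decide) (by decide)
        TypeD4.sq_ok hu)
      b t hb ht

/-- The natural isomorphism on root elements. -/
theorem exists_psi : ∃ ψ : chevD4.group F ≃* Cfsg.POmega F ⇑Q8,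
    ∀ r, r < chevD4.nroots → ∀ t : F, ∃ hm : xr (R := Tr) (TypeD4.split F) r t ∈ Cfsg.Omega F ⇑Q8,
      ψ (gx setupD4.cert r t) = QuotientGroup.mk ⟨_, hm⟩ := by
  have h := TypeD4.split F
  have hC := Types.D4.certified
  have hT : StKernel.HasCerts Cfsg.Agent.Chevalley.Data.D4.tab :=
    ⟨⟨_, Types.CoefD4.coef_ok⟩, ⟨_, Types.StCerts.conj_D4⟩⟩
  obtain ⟨S, hS⟩ : ∃ S, S = StSteinberg.stSys hC (StSteinberg.stHom hC)
      (StSteinberg.stHom_gen (F := F) hC) := ⟨_, rfl⟩
  have hθr : (StSteinberg.stHom (F := F) hC).range = chevD4.group F := by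
    have := StKernel.th_range S
    rw [hS] at this
    exact this
  let θ : chevD4.SteinbergGroup F →* chevD4.group F :=
    (StSteinberg.stHom hC).codRestrict _ fun x => hθr ▸ ⟨x, rfl⟩
  have hθs : Function.Surjective θ := by
    rintro ⟨y, hy⟩
    rw [← hθr] at hy
    obtain ⟨x, rfl⟩ := hy
    exact ⟨x, rfl⟩
  have hker : θ.ker ≤ Subgroup.center (chevD4.SteinbergGroup F) := by
    have := StSteinberg.center_eq_ker S hT
    rw [hS] at this
    intro z hz
    rw [← this, MonoidHom.mem_ker]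
    exact congrArg Subtype.val (MonoidHom.mem_ker.1 hz)
  have hrg : (natHom h TypeD4.certs hlt).range = Cfsg.Omega F ⇑Q8 := by
    rw [range_eq h TypeD4.certs hlt, omega_eq]
  let φ : chevD4.SteinbergGroup F →* Cfsg.Omega F ⇑Q8 :=
    (natHom h TypeD4.certs hlt).codRestrict _ fun x => hrg ▸ ⟨x, rfl⟩
  have hφs : Function.Surjective φ := by
    rintro ⟨y, hy⟩
    rw [← hrg] at hy
    obtain ⟨x, rfl⟩ := hy
    exact ⟨x, rfl⟩
  have : IsSimpleGroup (chevD4.group F) := (Types.SimpleD4.simple_group F).1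
  obtain ⟨ψ, hψ⟩ := iso_compat θ hθs hker φ hφs
    ⟨φ (chevD4.stGen F 18 1), φ (chevD4.stGen F 14 1), fun e => by
      apply xr_noncomm h TypeD4.certs hlt (r := 18) (s := 14) (by decide) (by decide) TypeD4.nc_ok
      have e' := congrArg Subtype.val e
      simp only [Subgroup.coe_mul] at e'
      change natHom h TypeD4.certs hlt _ * natHom h TypeD4.certs hlt _ =
        natHom h TypeD4.certs hlt _ * natHom h TypeD4.certs hlt _ at e'
      rwa [natHom_gen h TypeD4.certs hlt (by decide), natHom_gen h TypeD4.certs hlt (by decide)] at e'⟩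
  refine ⟨ψ, fun r hr t => ?_⟩
  have e1 : θ (chevD4.stGen F r t) = gx setupD4.cert r t := Subtype.ext (by
    show StSteinberg.stHom hC _ = _
    rw [StSteinberg.stHom_gen (F := F) hC r hr t, coe_gx])
  have e2 : ((φ (chevD4.stGen F r t) : Cfsg.Omega F ⇑Q8) : Cfsg.isometryGroup F ⇑Q8) = xr h r t :=
    natHom_gen h TypeD4.certs hlt hr t
  refine ⟨by rw [← e2]; exact (φ _).2, ?_⟩
  rw [← e1, hψ]
  exact congrArg QuotientGroup.mk (Subtype.ext e2)

/-- The diagonal entries of the similarity realising a diagonal automorphism. -/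
def lam (c : Fin 4 → Fˣ) : IX → Fˣ :=
  Sum.elim ![c 0 * c 1 * c 2, c 1 * c 2, c 2, 1]
    (fun i => c 2 * (c 3)⁻¹ * (![c 0 * c 1 * c 2, c 1 * c 2, c 2, 1] i)⁻¹)

theorem lam_pair (c : Fin 4 → Fˣ) (k : IX) : lam c k * lam c (Sum.swap k) = c 2 * (c 3)⁻¹ := by
  rcases k with i | i
  · simp only [lam, Sum.swap_inl, Sum.elim_inl, Sum.elim_inr]
    rw [mul_comm (![c 0 * c 1 * c 2, c 1 * c 2, c 2, 1] i), inv_mul_cancel_right]
  · simp only [lam, Sum.swap_inr, Sum.elim_inl, Sum.elim_inr, inv_mul_cancel_right]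

/-- The similarity realising a diagonal automorphism. -/
def simTor (c : Fin 4 → Fˣ) : GO Q8 :=
  ⟨⟨Matrix.diagonal fun k => (lam c k : F), Matrix.diagonal fun k => ((lam c k)⁻¹ : Fˣ),
    by rw [diagonal_mul_diagonal, ← diagonal_one]; congr 1; funext k; simp,
    by rw [diagonal_mul_diagonal, ← diagonal_one]; congr 1; funext k; simp⟩,
    c 2 * (c 3)⁻¹, fun v => by
      rw [plusQ_apply, plusQ_apply, Cfsg.quadFormPlus, Cfsg.quadFormPlus, Finset.mul_sum]
      refine Finset.sum_congr rfl fun i _ => ?_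
      have h := congrArg Units.val (lam_pair c (Sum.inl i))
      rw [Units.val_mul, Sum.swap_inl] at h
      simp only [mulVec_diagonal]
      linear_combination (v (Sum.inl i) * v (Sum.inr i)) * h⟩

theorem muC_simTor (c : Fin 4 → Fˣ) : muC (simTor c) = c 2 * (c 3)⁻¹ := by
  refine Units.ext (muC_eq (plusFrame F (show 3 ≤ 4 by norm_num)).hx fun v => ?_)
  have := (simTor c).2
  show Q8 ((Matrix.diagonal fun k => (lam c k : F)) *ᵥ v) = _
  rw [plusQ_apply, plusQ_apply, Cfsg.quadFormPlus, Cfsg.quadFormPlus, Finset.mul_sum]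
  refine Finset.sum_congr rfl fun i _ => ?_
  have h := congrArg Units.val (lam_pair c (Sum.inl i))
  rw [Units.val_mul, Sum.swap_inl] at h
  simp only [mulVec_diagonal]
  linear_combination (v (Sum.inl i) * v (Sum.inr i)) * h

theorem det_simTor (c : Fin 4 → Fˣ) :
    (mat (simTor c)).det = ((c 2 * (c 3)⁻¹ : Fˣ) : F) ^ 4 := by
  show (Matrix.diagonal fun k => (lam c k : F)).det = _
  rw [det_diagonal, Fintype.prod_sum_type, ← Finset.prod_mul_distrib]
  rw [Finset.prod_congr rfl fun i _ => show (lam c (Sum.inl i) : F) * lam c (Sum.inr i) =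
    ((c 2 * (c 3)⁻¹ : Fˣ) : F) from (Units.val_mul _ _).symm.trans (congrArg Units.val (lam_pair c (Sum.inl i)))]
  rw [Finset.prod_const, Finset.card_univ, Fintype.card_fin]

/-- Conjugation by a diagonal similarity scales root elements. -/
theorem simTor_xr (c : Fin 4 → Fˣ) {r : ℕ} (hr : r < chevD4.nroots) (s : Fˣ)
    (hs : lam c ((Tr).rd r).1 * lam c ((Tr).rd r).2.1 = c 2 * (c 3)⁻¹ * s) (t : F) :
    conjIso Q8 (simTor c) (xr (R := Tr) (TypeD4.split F) r t) =
      xr (R := Tr) (TypeD4.split F) r ((s : F) * t) := by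
  refine ofIso_injective ?_
  rw [ofIso_conjIso, mul_inv_eq_iff_eq_mul]
  refine Subtype.ext (Units.ext ?_)
  have hM : ∀ t : F, ((xr (R := Tr) (TypeD4.split F) r t : Cfsg.isometryGroup F ⇑Q8) :
      GL IX F).val = ev t 1 ((Tr).xT r 1 1 0) := fun t => by
    have := toM_xr (TypeD4.split F) TypeD4.certs hr 1 1 0 t (1 : F)
    simpa [toM] using this
  show (Matrix.diagonal fun k => (lam c k : F)) *
      ((xr (R := Tr) (TypeD4.split F) r t : Cfsg.isometryGroup F ⇑Q8) : GL IX F).val =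
    ((xr (R := Tr) (TypeD4.split F) r ((s : F) * t) : Cfsg.isometryGroup F ⇑Q8) : GL IX F).val *
      Matrix.diagonal fun k => (lam c k : F)
  rw [hM, hM]
  obtain ⟨ha, hb⟩ := roots_spec TypeD4.certs hr
  set a := ((Tr).rd r).1
  set b := ((Tr).rd r).2.1
  have hq : ∀ k, (Tr).q k = 0 := fun k => rfl
  have hrow : ∀ (x y : IX), lam c y * lam c (Sum.swap y) = c 2 * (c 3)⁻¹ →
      lam c x * lam c y = c 2 * (c 3)⁻¹ * s → lam c x = s * lam c (Sum.swap y) := by
    intro x y hy hxy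
    refine mul_right_cancel (b := lam c y) ?_
    rw [hxy, mul_assoc s, mul_comm (lam c (Sum.swap y)), hy, mul_comm]
  have h1 : lam c b = s * lam c (Sum.swap a) := hrow b a (lam_pair c a) (by rw [mul_comm]; exact hs)
  have h2 : lam c a = s * lam c (Sum.swap b) := hrow a b (lam_pair c b) hs
  have hf : ∀ t : F, ev t (1 : F) ((Tr).xT r 1 1 0) =
      1 + (Matrix.single b (Sum.swap a) ((((Tr).rd r).2.2 : F) * t) +
        Matrix.single a (Sum.swap b) (-((((Tr).rd r).2.2 : F) * t))) := fun t => by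
    rw [RData.xT, RData.rootT, ev_append, ev_oneL TypeD4.certs.nodup TypeD4.certs.full]
    simp [ev, term1, hq, a, b, TypeD4.data]
  rw [hf, hf, Matrix.mul_add, Matrix.mul_add, Matrix.add_mul, Matrix.add_mul, Matrix.mul_one,
    Matrix.one_mul]
  congr 1
  have e1 : (lam c b : F) = (s : F) * (lam c (Sum.swap a) : F) := by rw [h1, Units.val_mul]
  have e2 : (lam c a : F) = (s : F) * (lam c (Sum.swap b) : F) := by rw [h2, Units.val_mul]
  congr 1
  · ext i j
    simp only [Matrix.diagonal_mul, Matrix.mul_diagonal, Matrix.single_apply]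
    split_ifs with h
    · obtain ⟨rfl, rfl⟩ := h; rw [e1]; ring
    · simp
  · ext i j
    simp only [Matrix.diagonal_mul, Matrix.mul_diagonal, Matrix.single_apply]
    split_ifs with h
    · obtain ⟨rfl, rfl⟩ := h; rw [e2]; ring
    · simp

theorem gAut_xr (c : Fin 4 → Fˣ) {r : ℕ} (hr : r < chevD4.nroots) (s : Fˣ)
    (hs : lam c ((Tr).rd r).1 * lam c ((Tr).rd r).2.1 = c 2 * (c 3)⁻¹ * s) (t : F)
    (hm : xr (R := Tr) (TypeD4.split F) r t ∈ Cfsg.Omega F ⇑Q8)
    (hm' : xr (R := Tr) (TypeD4.split F) r ((s : F) * t) ∈ Cfsg.Omega F ⇑Q8) :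
    gAut Q8 (simTor c) (QuotientGroup.mk ⟨_, hm⟩) = QuotientGroup.mk ⟨_, hm'⟩ := by
  rw [gAut_mk]
  exact congrArg QuotientGroup.mk (Subtype.ext (simTor_xr c hr s hs t))

/-- A diagonal automorphism is induced by a diagonal similarity. -/
theorem exists_sim {ψ : chevD4.group F ≃* Cfsg.POmega F ⇑Q8}
    (hψ : ∀ r, r < chevD4.nroots → ∀ t : F,
      ∃ hm : xr (R := Tr) (TypeD4.split F) r t ∈ Cfsg.Omega F ⇑Q8,
        ψ (gx setupD4.cert r t) = QuotientGroup.mk ⟨_, hm⟩) (c : Fin 4 → Fˣ) :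
    MulAut.congr ψ (dHom setupD4 F c) = gAut Q8 (simTor c) := by
  have key : ∀ i : Fin 4,
      (lam c ((Tr).rd (chevD4.simple i)).1 * lam c ((Tr).rd (chevD4.simple i)).2.1 = c 2 * (c 3)⁻¹ * c i) ∧
      (lam c ((Tr).rd (chevD4.neg (chevD4.simple i))).1 * lam c ((Tr).rd (chevD4.neg (chevD4.simple i))).2.1 =
        c 2 * (c 3)⁻¹ * (c i)⁻¹) := by
    have hrd : ∀ i : Fin 4, ((Tr).rd (chevD4.simple i)).1 = ![Sum.inl 0, Sum.inl 1, Sum.inl 2, Sum.inl 2] i ∧
        ((Tr).rd (chevD4.simple i)).2.1 = ![Sum.inr 1, Sum.inr 2, Sum.inr 3, Sum.inl 3] i ∧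
        ((Tr).rd (chevD4.neg (chevD4.simple i))).1 = ![Sum.inr 0, Sum.inr 1, Sum.inr 2, Sum.inr 2] i ∧
        ((Tr).rd (chevD4.neg (chevD4.simple i))).2.1 = ![Sum.inl 1, Sum.inl 2, Sum.inl 3, Sum.inr 3] i := by
      decide +kernel
    intro i
    obtain ⟨h1, h2, h3, h4⟩ := hrd i
    rw [h1, h2, h3, h4]
    fin_cases i <;> refine ⟨Units.ext ?_, Units.ext ?_⟩ <;> simp [lam] <;>
      field_simp [Units.ne_zero]
  have e : dHom setupD4 F c = MulAut.congr ψ.symm (gAut Q8 (simTor c)) := by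
    refine aut_ext setupD4.cert fun i t => ?_
    have hsi : chevD4.simple i < chevD4.nroots := setupD4.cert.simple_lt i.2
    have hni : chevD4.neg (chevD4.simple i) < chevD4.nroots := setupD4.cert.neg_lt hsi
    refine ⟨?_, ?_⟩
    · obtain ⟨hm, hψ1⟩ := hψ _ hsi t
      obtain ⟨hm', hψ2⟩ := hψ _ hsi ((c i : F) * t)
      rw [show dHom setupD4 F c (gx setupD4.cert (chevD4.simple i) t) = _ from (dAut_spec setupD4 c i t).1]
      show _ = ψ.symm (gAut Q8 (simTor c) (ψ (gx setupD4.cert (chevD4.simple i) t)))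
      rw [hψ1, gAut_xr c hsi (c i) (key i).1 t hm hm']
      exact ((MulEquiv.symm_apply_eq ψ).2 hψ2.symm).symm
    · obtain ⟨hm, hψ1⟩ := hψ _ hni t
      obtain ⟨hm', hψ2⟩ := hψ _ hni ((((c i)⁻¹ : Fˣ) : F) * t)
      rw [show dHom setupD4 F c (gx setupD4.cert (chevD4.neg (chevD4.simple i)) t) = _ from
        (dAut_spec setupD4 c i t).2]
      show _ = ψ.symm (gAut Q8 (simTor c) (ψ (gx setupD4.cert (chevD4.neg (chevD4.simple i)) t)))
      rw [hψ1, gAut_xr c hni (c i)⁻¹ (key i).2 t hm hm']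
      exact ((MulEquiv.symm_apply_eq ψ).2 hψ2.symm).symm
  rw [e]
  refine MulEquiv.ext fun y => ?_
  show ψ (ψ.symm (gAut Q8 (simTor c) (ψ (ψ.symm y)))) = _
  rw [MulEquiv.apply_symm_apply, MulEquiv.apply_symm_apply]

/-- The inner-diagonal group of `PΩ⁺₈` is normal in the automorphism group. -/
theorem inndiag_normal (E : EvenSetup Q8 4) : (E.cls.ker.map (gAut Q8)).Normal := by
  obtain ⟨p, hp⟩ := CharP.exists F
  obtain ⟨n, hpp, hF⟩ := FiniteField.card F p
  haveI : Fact p.Prime := ⟨hpp⟩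
  by_cases h2 : (2 : F) = 0
  · have : E.cls.ker.map (gAut Q8) = Cfsg.Inn (Cfsg.POmega F ⇑Q8) :=
      le_antisymm ((Subgroup.map_mono (E.cls_le_innPre h2)).trans (map_innPre_eq Q8).le) E.inn_le
    rw [this]
    infer_instance
  have hodd : Odd (Fintype.card F) := odd_card_of_two_ne h2
  have hp2 : p ≠ 2 := by
    rintro rfl
    rw [hF] at hodd
    exact Nat.not_odd_iff_even.2 (Even.pow_of_ne_zero even_two n.ne_zero) hodd
  obtain ⟨ψ, hψ⟩ := exists_psi (F := F)
  let e : MulAut (chevD4.group F) ≃* MulAut (Cfsg.POmega F ⇑Q8) := MulAut.congr ψ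
  let Ψ : Cfsg.Out (chevD4.group F) ≃* Cfsg.Out (Cfsg.POmega F ⇑Q8) :=
    QuotientGroup.congr (Cfsg.Inn _) (Cfsg.Inn _) e (Subgroup.ext fun g => by
      obtain ⟨g, rfl⟩ := e.surjective g
      rw [FieldCentStd.congr_inn]
      exact Subgroup.mem_map_iff_mem e.injective)
  set J : Subgroup (Cfsg.Out (Cfsg.POmega F ⇑Q8)) := E.cls.ker.map (outGO Q8)
  have hJ : Nat.card J = 4 := by
    have hS : NegMem Q8 := (Plus.negMem_iff hodd le_rfl).2 fun h => absurd h.1 (by decide)
    show Nat.card (E.cls.ker.map (outGO Q8)) = 4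
    rw [← MonoidHom.domRestrict_range, ← Subgroup.index_ker, MonoidHom.ker_domRestrict, outGO_ker]
    show (innPre Q8).relIndex E.cls.ker = 4
    rw [E.index_innPre_cls h2, (E.toSetup h2).relIndex_two hS]
  have hle : (D4Out.dOut F).range.map Ψ.toMonoidHom ≤ J := by
    rintro _ ⟨_, ⟨c, rfl⟩, rfl⟩
    have h4 : ∀ c : Fin 4 → Fˣ, simTor c ∈ E.cls.ker ∧
        outGO Q8 (simTor c) = QuotientGroup.mk' _ (MulAut.congr ψ (dHom setupD4 F c)) := fun c => by
      refine ⟨MonoidHom.mem_ker.2 ((E.cls_eq_one_iff _).2 (Or.inl ⟨h2, ?_⟩)), ?_⟩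
      · rw [det_simTor, muC_simTor]
      · rw [exists_sim hψ]
        rfl
    exact ⟨simTor c, (h4 c).1, (h4 c).2⟩
  have hD : Nat.card ((D4Out.dOut F).range.map Ψ.toMonoidHom) = 4 := by
    rw [Subgroup.card_map_of_injective (f := Ψ.toMonoidHom) Ψ.injective, ← Subgroup.index_ker, D4Out.dOut_ker,
      Subgroup.index_eq_card, D4Out.card_coker_eq hF, if_neg hp2]
  have heq : (D4Out.dOut F).range.map Ψ.toMonoidHom = J :=
    Subgroup.eq_of_le_of_card_ge hle (by rw [hJ, hD])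
  have hJn : J.Normal := heq ▸ Subgroup.Normal.map D4Out.dOut_range_normal _ Ψ.surjective
  have : E.cls.ker.map (gAut Q8) =
      J.comap (QuotientGroup.mk' (Cfsg.Inn (Cfsg.POmega F ⇑Q8))) := by
    show _ = (E.cls.ker.map ((QuotientGroup.mk' _).comp (gAut Q8))).comap _
    rw [← Subgroup.map_map, Subgroup.comap_map_eq, QuotientGroup.ker_mk', sup_eq_left.2 E.inn_le]
  rw [this]
  exact hJn.comap _

end Cfsg.Agent.AutPOmega.D4Natural
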