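import Cfsg.Agent.Lib.AutPOmega.OutGamma
import Cfsg.Agent.Lib.Chevalley.Aut.Structure
import Cfsg.Agent.Lib.Chevalley.Types.OrderD4
import Cfsg.Agent.Lib.Chevalley.Natural.TypeD4

/-!
# The outer automorphism group of type `D4`: triality
-/

set_option autoImplicit false
set_option linter.unusedSectionVars false

namespace Cfsg.Agent.AutPOmega.D4Out

open Cfsg.Lie Cfsg.Agent.Chevalley.AutThm Cfsg.Agent.Chevalley.Group
open Cfsg.Agent.Chevalley.TorusCard Cfsg.Agent.Chevalley.Types
open Cfsg.Agent.AutPOmega.OutGamma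

universe u

variable {F : Type u} [Field F]

local notation "G" => Cfsg.Out (chevD4.group F)
local notation "Nd" => Fin chevD4.rank

/-- The permutation of the four nodes fixing the centre. -/
def rho4 : Equiv.Perm (Fin 3) →* Equiv.Perm (Fin 4) :=
  MonoidHom.mk' (fun π => (Equiv.swap (0 : Fin 4) 1).permCongr (Equiv.Perm.decomposeFin.symm (0, π)))
    (by decide +kernel)

/-- The permutation of the nodes fixing the centre. -/
def rho : Equiv.Perm (Fin 3) →* Equiv.Perm Nd := rho4

theorem rho_mem : ∀ π : Equiv.Perm (Fin 3), piL (rho π) ∈ symsD4 := by decide +kernel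

theorem rho_injective : Function.Injective rho := by
  have h : ∀ a b : Equiv.Perm (Fin 3), rho4 a = rho4 b → a = b := by decide +kernel
  exact fun a b => h a b

theorem key_perm : ∀ π : Equiv.Perm (Fin 3), π ≠ 1 → ∃ a t : Fin 4, a ≠ 1 ∧ t ≠ 1 ∧ a ≠ t ∧
    (rho4 π)⁻¹ a ≠ a ∧ (rho4 π)⁻¹ t ≠ a := by decide +kernel

variable [Fintype F]

/-- The realised permutation. -/
def gam (π : Equiv.Perm (Fin 3)) : Gam setupD4 F := ⟨rho π, (hasGraph_adj_D4 _).2 (rho_mem π)⟩

theorem gam_bijective : Function.Bijective (gam (F := F)) := by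
  refine (Nat.bijective_iff_injective_and_card _).2
    ⟨fun a b h => rho_injective (congrArg Subtype.val h), ?_⟩
  rw [gam_D4, Nat.card_eq_fintype_card, Fintype.card_perm, Fintype.card_fin]
  rfl

theorem gam_mul (a b : Equiv.Perm (Fin 3)) :
    Chevalley.AutThm.gAut (gam (F := F) (a * b)) =
      Chevalley.AutThm.gAut (gam (F := F) a) * Chevalley.AutThm.gAut (gam b) := by
  have hnl : noLong chevD4 = true := by decide +kernel
  have e : rho (a * b) = (gam (F := F) a).1 * (gam (F := F) b).1 := map_mul rho a b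
  have h : HasGraph setupD4.cert F ((gam (F := F) a).1 * (gam (F := F) b).1) := e ▸ (gam (a * b)).2
  rw [← gAut_mul setupD4 hnl (gam a) (gam b) h]
  exact congrArg _ (Subtype.ext e)

variable (F) in
/-- The class of a graph automorphism. -/
noncomputable def sOut : Equiv.Perm (Fin 3) →* G :=
  MonoidHom.mk' (fun π => toOut chevD4 F (Chevalley.AutThm.gAut (gam π))) fun a b =>
    (congrArg (toOut chevD4 F) (gam_mul a b)).trans (map_mul _ _ _)

variable (F) in
/-- The class of a diagonal automorphism. -/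
noncomputable def dOut : (Nd → Fˣ) →* G := (toOut chevD4 F).comp (dHom setupD4 F)

variable (F) in
/-- The class of a field automorphism. -/
noncomputable def fOut : (F ≃+* F) →* G := (toOut chevD4 F).comp (fHom setupD4.cert F)

theorem psi_eq (c : Nd → Fˣ) (π : Equiv.Perm (Fin 3)) (σ : F ≃+* F) :
    dOut F c * sOut F π * fOut F σ = psi setupD4 (c, gam π, σ) := by
  rw [psi, map_mul, map_mul]
  rfl

theorem word_eq_iff (c c' : Nd → Fˣ) (π π' : Equiv.Perm (Fin 3)) (σ σ' : F ≃+* F) :
    dOut F c * sOut F π * fOut F σ = dOut F c' * sOut F π' * fOut F σ' ↔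
      π = π' ∧ σ = σ' ∧ c'⁻¹ * c ∈ torImage setupD4 F := by
  rw [psi_eq, psi_eq, psi_eq_iff, gam_bijective.1.eq_iff]

theorem sOut_injective : Function.Injective (sOut F) := fun π π' h =>
  ((word_eq_iff (F := F) 1 1 π π' 1 1).1 (by simp only [map_one, one_mul, mul_one, h])).1

theorem fOut_injective : Function.Injective (fOut F) := fun σ σ' h =>
  ((word_eq_iff 1 1 1 1 σ σ').1 (by simp only [map_one, one_mul, mul_one, h])).2.1

theorem dOut_ker : (dOut F).ker = torImage setupD4 F := by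
  ext c
  rw [MonoidHom.mem_ker]
  have h := word_eq_iff c 1 1 1 1 1
  simp only [map_one, mul_one, inv_one, one_mul, true_and] at h
  exact h

omit [Fintype F] in
theorem field_diag (σ : F ≃+* F) (c : Nd → Fˣ) :
    fOut F σ * dOut F c = dOut F (fun i => Units.map σ.toRingHom.toMonoidHom (c i)) * fOut F σ := by
  simp only [fOut, dOut, MonoidHom.comp_apply, ← map_mul]
  refine congrArg _ (aut_ext setupD4.cert fun i t => ?_)
  simp only [MulAut.mul_apply, fHom_apply]
  refine ⟨?_, ?_⟩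
  · rw [show dHom setupD4 F c (gx setupD4.cert (chevD4.simple i) t) = _ from (dAut_spec setupD4 c i t).1,
      fHom_apply, show dHom setupD4 F _ (gx setupD4.cert (chevD4.simple i) (σ t)) = _ from
        (dAut_spec setupD4 _ i (σ t)).1, map_mul]
    rfl
  · rw [show dHom setupD4 F c (gx setupD4.cert (chevD4.neg (chevD4.simple i)) t) = _ from
        (dAut_spec setupD4 c i t).2,
      fHom_apply, show dHom setupD4 F _ (gx setupD4.cert (chevD4.neg (chevD4.simple i)) (σ t)) = _ from
        (dAut_spec setupD4 _ i (σ t)).2, map_mul, ← map_inv]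
    rfl

theorem graphExp_one (i j : Nd) : chevD4.graphExp (ringChar F) i j = 1 := by
  have h1 : noLong chevD4 = true := by decide +kernel
  simp only [noLong, List.all_eq_true, List.mem_range, Bool.not_eq_true'] at h1
  rw [ChevalleyDatum.graphExp, h1 j j.2]
  rfl

theorem graph_diag (π : Equiv.Perm (Fin 3)) (c : Nd → Fˣ) :
    sOut F π * dOut F c = dOut F (fun j => c ((rho π)⁻¹ j)) * sOut F π := by
  show toOut chevD4 F (Chevalley.AutThm.gAut (gam π)) * toOut chevD4 F (dHom setupD4 F c) =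
    toOut chevD4 F (dHom setupD4 F _) * toOut chevD4 F (Chevalley.AutThm.gAut (gam π))
  rw [← map_mul, ← map_mul]
  refine congrArg _ (aut_ext setupD4.cert fun i t => ?_)
  simp only [MulAut.mul_apply]
  have hg := gAut_spec (gam (F := F) π) i
  refine ⟨?_, ?_⟩
  · rw [show dHom setupD4 F c (gx setupD4.cert (chevD4.simple i) t) = _ from (dAut_spec setupD4 c i t).1,
      (hg t).1, (hg _).1, show dHom setupD4 F _ (gx setupD4.cert (chevD4.simple ((gam π).1 i)) _) = _ from
        (dAut_spec setupD4 _ ((gam π).1 i) _).1]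
    simp only [graphExp_one, pow_one, gam, Equiv.Perm.inv_def, Equiv.symm_apply_apply]
  · rw [show dHom setupD4 F c (gx setupD4.cert (chevD4.neg (chevD4.simple i)) t) = _ from
        (dAut_spec setupD4 c i t).2, (hg t).2, (hg _).2,
      show dHom setupD4 F _ (gx setupD4.cert (chevD4.neg (chevD4.simple ((gam π).1 i))) _) = _ from
        (dAut_spec setupD4 _ ((gam π).1 i) _).2]
    simp only [graphExp_one, pow_one, gam, Equiv.Perm.inv_def, Equiv.symm_apply_apply]

theorem graph_field (π : Equiv.Perm (Fin 3)) (σ : F ≃+* F) : Commute (sOut F π) (fOut F σ) := by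
  show toOut chevD4 F (Chevalley.AutThm.gAut (gam π)) * toOut chevD4 F (fHom setupD4.cert F σ) =
    toOut chevD4 F (fHom setupD4.cert F σ) * toOut chevD4 F (Chevalley.AutThm.gAut (gam π))
  rw [← map_mul, ← map_mul, graph_comm_field]

theorem dOut_range_normal : (dOut F).range.Normal := dBar_normal setupD4

variable {p f : ℕ} [Fact p.Prime] (hf : 1 ≤ f) (hF : Fintype.card F = p ^ f)

include hF

theorem card_coker_eq :
    Nat.card ((Nd → Fˣ) ⧸ torImage setupD4 F) = if p = 2 then 1 else 4 := by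
  rw [card_coker_of setupD4 OrderD4.hP OrderD4.hQ OrderD4.hQ' OrderD4.hdiag]
  show (∏ i : Fin 4, Nat.gcd (Fintype.card F - 1) (OrderD4.ed i)) = _
  simp only [OrderD4.ed, Fin.prod_univ_four, Matrix.cons_val_zero, Matrix.cons_val_one,
    Matrix.cons_val, Nat.gcd_one_right, one_mul]
  have hp : p.Prime := Fact.out
  have h1 : 1 < Fintype.card F := Fintype.one_lt_card
  split_ifs with h
  · have hn : ¬ 2 ∣ Fintype.card F - 1 := by
      rw [hF, h] at h1 ⊢
      obtain ⟨g, rfl⟩ : ∃ g, f = g + 1 := ⟨f - 1, by rcases f with _ | g <;> simp_all⟩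
      rw [pow_succ] at h1 ⊢
      omega
    rw [((Nat.prime_two.coprime_iff_not_dvd).2 hn).symm.gcd_eq_one, one_mul]
  · have hd : 2 ∣ Fintype.card F - 1 := by
      have hodd : Odd (Fintype.card F) := hF ▸ (hp.odd_of_ne_two h).pow
      obtain ⟨r, hr⟩ := hodd
      omega
    rw [Nat.gcd_eq_right hd]
    norm_num

theorem card_G : Nat.card G = (if p = 2 then 1 else 4) * 6 * f := by
  rw [card_out setupD4, card_coker_eq hF, gam_D4, card_ringAut p f hF]

include hf

theorem out_two (hp : p = 2) : Nonempty (G ≃* Equiv.Perm (Fin 3) × Multiplicative (ZMod f)) := by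
  have : NeZero f := ⟨by omega⟩
  have : Finite G := Nat.finite_of_card_ne_zero (by rw [card_G hF, if_pos hp]; omega)
  obtain ⟨σ, -, hσo, -⟩ := exists_frob hf hF
  refine prod_of (sOut F) (fOut F σ) sOut_injective (by rw [orderOf_injective _ fOut_injective, hσo])
    (fun a => graph_field a σ) (fun a k h => ?_) ?_
  · rw [← map_pow] at h
    exact ((word_eq_iff 1 1 a 1 1 (σ ^ k)).1 (by simp only [map_one, one_mul, mul_one, h])).1
  · rw [card_G hF, if_pos hp, one_mul, Nat.card_eq_fintype_card (α := Equiv.Perm (Fin 3)),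
      Fintype.card_perm, Fintype.card_fin]
    rfl

omit hf hF in
theorem sq_mem (c : Nd → Fˣ) : c * c ∈ torImage setupD4 F := by
  let R : Matrix Nd Nd ℤ :=
    (OrderD4.Q * Matrix.diagonal (fun i => ((![2, 2, 1, 1] : Fin 4 → ℕ) i : ℤ)) * OrderD4.P :)
  have hR : cartanMat chevD4 * R = Matrix.diagonal fun _ => ((2 : ℕ) : ℤ) := by decide +kernel
  refine ⟨matHom R c, ?_⟩
  rw [← matHom_mul, hR]
  funext j
  rw [matHom_diagonal, sq]
  rfl

omit hf hF [Fintype F] in
theorem pair_square {c : Nd → Fˣ} (hc : c ∈ torImage setupD4 F) {a b : Fin 4}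
    (ha : a ≠ 1) (hb : b ≠ 1) : IsSquare (c a * c b) := by
  obtain ⟨e, rfl⟩ := hc
  have key : ∀ a b : Fin 4, a ≠ 1 → b ≠ 1 → ∀ i : Fin 4,
      (cartanMat chevD4 a i + cartanMat chevD4 b i) % 2 = 0 := by decide +kernel
  show IsSquare ((∏ i : Nd, e i ^ cartanMat chevD4 a i) * ∏ i : Nd, e i ^ cartanMat chevD4 b i)
  rw [← Finset.prod_mul_distrib]
  refine Finset.prod_induction _ IsSquare (fun _ _ => IsSquare.mul) IsSquare.one fun i _ => ?_
  rw [← zpow_add]
  obtain ⟨l, hl⟩ := Int.dvd_of_emod_eq_zero (key a b ha hb i)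
  exact ⟨e i ^ l, by rw [hl, two_mul, zpow_add]⟩

set_option maxHeartbeats 1600000 in
theorem out_odd (hp : p ≠ 2) :
    Nonempty (G ≃* Equiv.Perm (Fin 4) × Multiplicative (ZMod f)) := by
  classical
  have : NeZero f := ⟨by omega⟩
  have : Finite G := Nat.finite_of_card_ne_zero (by rw [card_G hF, if_neg hp]; omega)
  obtain ⟨σ, hσ, hσo, -⟩ := exists_frob hf hF
  have hn := dOut_range_normal (F := F)
  set N : Subgroup G := (dOut F).range ⊔ (sOut F).range
  have hN : Nat.card N = 24 := by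
    let Φ : ((dOut F).range × Equiv.Perm (Fin 3)) → N := fun x =>
      ⟨x.1 * sOut F x.2, Subgroup.mul_mem_sup x.1.2 ⟨_, rfl⟩⟩
    have hΦ : Function.Bijective Φ := by
      refine ⟨?_, ?_⟩
      · rintro ⟨⟨_, c, rfl⟩, π⟩ ⟨⟨_, c', rfl⟩, π'⟩ h
        have h' : dOut F c * sOut F π = dOut F c' * sOut F π' := congrArg Subtype.val h
        obtain ⟨rfl, -, h2⟩ := (word_eq_iff c c' π π' 1 1).1 (by simp only [map_one, mul_one, h'])
        have e : dOut F c = dOut F c' := mul_right_cancel h'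
        simp only [e]
      · rintro ⟨z, hz⟩
        obtain ⟨d, hd, _, ⟨π, rfl⟩, rfl⟩ := Subgroup.mem_sup_of_normal_left.1 hz
        exact ⟨(⟨d, hd⟩, π), rfl⟩
    rw [← Nat.card_eq_of_bijective Φ hΦ, Nat.card_prod, ← Subgroup.index_ker, dOut_ker,
      Subgroup.index_eq_card, card_coker_eq hF, if_neg hp,
      Nat.card_eq_fintype_card (α := Equiv.Perm (Fin 3)), Fintype.card_perm, Fintype.card_fin]
    rfl
  have hcomm : ∀ a : N, Commute (a : G) (fOut F σ) := by
    rintro ⟨z, hz⟩
    obtain ⟨_, ⟨c, rfl⟩, _, ⟨π, rfl⟩, rfl⟩ := Subgroup.mem_sup_of_normal_left.1 hz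
    refine Commute.mul_left ?_ (graph_field π σ)
    have e : dOut F (fun i => Units.map σ.toRingHom.toMonoidHom (c i)) = dOut F c := by
      obtain ⟨h, hh⟩ := (Fact.out : p.Prime).odd_of_ne_two hp
      rw [show (fun i => Units.map σ.toRingHom.toMonoidHom (c i)) = c * (c ^ h * c ^ h) from
        funext fun i => Units.ext (by
          show σ (c i : F) = _
          simp only [hσ, hh, Pi.mul_apply, Pi.pow_apply, Units.val_mul, Units.val_pow_eq_pow_val]
          ring)]
      have h1 : dOut F (c ^ h * c ^ h) = 1 := by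
        rw [← MonoidHom.mem_ker, dOut_ker]; exact sq_mem _
      rw [map_mul, h1, mul_one]
    show dOut F c * fOut F σ = fOut F σ * dOut F c
    rw [field_diag, e]
  obtain ⟨r⟩ := prod_of N.subtype (fOut F σ) N.subtype_injective
    (by rw [orderOf_injective _ fOut_injective, hσo]) hcomm (fun a k h => by
      obtain ⟨_, ⟨c, rfl⟩, _, ⟨π, rfl⟩, e⟩ := Subgroup.mem_sup_of_normal_left.1 a.2
      rw [Subgroup.subtype_apply, ← e, ← map_pow] at h
      obtain ⟨rfl, h2, -⟩ := (word_eq_iff c 1 π 1 1 (σ ^ k)).1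
        (by simp only [map_one, one_mul, mul_one, h])
      refine Subtype.ext ?_
      rw [← e, h, ← h2, map_one]
      rfl) (by rw [card_G hF, if_neg hp, hN])
  let H : Subgroup N := (sOut F).range.subgroupOf N
  have hHc : Nat.card H = 6 := by
    rw [Nat.card_congr (Subgroup.subgroupOfEquivOfLe (le_sup_right : (sOut F).range ≤ N)).toEquiv,
      Nat.card_congr (MonoidHom.ofInjective sOut_injective).toEquiv.symm, Nat.card_eq_fintype_card,
      Fintype.card_perm, Fintype.card_fin]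
    rfl
  have hidx : Nat.card (N ⧸ H) = 4 := by
    have h := Subgroup.card_eq_card_quotient_mul_card_subgroup H
    rw [hN, hHc] at h
    omega
  have hker : H.normalCore = ⊥ := by
    refine (Subgroup.eq_bot_iff_forall _).2 fun n hn => ?_
    obtain ⟨π, hπ⟩ := Subgroup.mem_subgroupOf.1 (Subgroup.normalCore_le _ hn)
    by_contra hne
    have hπ1 : π ≠ 1 := fun h => hne (Subtype.ext (by rw [← hπ, h, map_one]; rfl))
    have key : ∀ π : Equiv.Perm (Fin 3), π ≠ 1 → ∃ a t : Fin 4, a ≠ 1 ∧ t ≠ 1 ∧ a ≠ t ∧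
        (rho4 π)⁻¹ a ≠ a ∧ (rho4 π)⁻¹ t ≠ a := fun π hπ => key_perm π hπ
    obtain ⟨a, t, ha, ht, hat, h1, h2⟩ := key π hπ1
    obtain ⟨ν, hν0, hν⟩ := Cfsg.Agent.Classical.OmegaCrit.exists_nonsquare (F := F)
      (Cfsg.Agent.Classical.OrthForms.two_ne_zero_of_odd
        (hF ▸ ((Fact.out : p.Prime).odd_of_ne_two hp).pow))
    let c4 : Fin 4 → Fˣ := Pi.mulSingle a (Units.mk0 ν hν0)
    let c : Nd → Fˣ := c4
    have hd : dOut F c ∈ N := Subgroup.mem_sup_left ⟨c, rfl⟩
    have hH := Subgroup.mem_subgroupOf.1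
      (Subgroup.normalCore_le _ ((Subgroup.normalCore_normal H).conj_mem n hn ⟨_, hd⟩))
    obtain ⟨π', hπ'⟩ := hH
    rw [Subgroup.coe_mul, Subgroup.coe_mul, Subgroup.coe_inv, ← hπ, mul_assoc, ← map_inv,
      graph_diag, ← mul_assoc, ← map_mul] at hπ'
    obtain ⟨-, -, hm⟩ := (word_eq_iff (c * fun j => c⁻¹ ((rho π)⁻¹ j)) 1 π π' 1 1).1
      (by simp only [map_one, one_mul, mul_one, hπ'])
    have h3 := pair_square hm ha ht
    rw [inv_one, one_mul] at h3
    replace h3 : IsSquare (c4 a * (c4 ((rho4 π)⁻¹ a))⁻¹ * (c4 t * (c4 ((rho4 π)⁻¹ t))⁻¹)) := h3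
    simp only [c4] at h3
    rw [Pi.mulSingle_eq_same, Pi.mulSingle_eq_of_ne hat.symm, Pi.mulSingle_eq_of_ne h1,
      Pi.mulSingle_eq_of_ne h2, inv_one, mul_one, one_mul, mul_one] at h3
    obtain ⟨w, hw⟩ := h3
    exact Cfsg.Agent.Classical.OmegaCrit.chi_eq_neg_one_iff.1 hν ⟨w, congrArg Units.val hw⟩
  let e4 : N ⧸ H ≃ Fin 4 := Nat.equivFinOfCardPos (by rw [hidx]; norm_num) |>.trans (finCongr hidx)
  let φ : N →* Equiv.Perm (Fin 4) := e4.permCongrHom.toMonoidHom.comp (MulAction.toPermHom N (N ⧸ H))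
  have hφ : Function.Injective φ :=
    e4.permCongrHom.injective.comp ((MonoidHom.ker_eq_bot_iff _).1
      (by rw [← Subgroup.normalCore_eq_ker]; exact hker))
  have hφb : Function.Bijective φ := (Nat.bijective_iff_injective_and_card φ).2
    ⟨hφ, by rw [hN, Nat.card_eq_fintype_card, Fintype.card_perm, Fintype.card_fin]; rfl⟩
  exact ⟨r.trans (MulEquiv.prodCongr (MulEquiv.ofBijective φ hφb) (MulEquiv.refl _))⟩

omit hf in
/-- The case `m = 4`. -/
theorem transfer (Q' : (Fin 4 ⊕ Fin 4 → F) → F) (hQ' : Q' = Cfsg.quadFormPlus 4 F) :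
    Nonempty (G ≃* Cfsg.Out (Cfsg.POmega F Q')) := by
  subst hQ'
  obtain ⟨ψ⟩ := Cfsg.Agent.Chevalley.Natural.TypeD4.nonempty_iso F
  exact out_congr ψ

end Cfsg.Agent.AutPOmega.D4Out
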