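import Cfsg.Agent.Lib.AutPOmega.Types
import Cfsg.Agent.Lib.Forms.SimForms

/-!
# Centralisers of semilinear automorphisms of `PΩ` as groups over the fixed field

`Desc` says that, in the coordinates `L`, the map `v ↦ A₀ σ(v)` is a scalar times `σ` and the form
comes from a form over the subfield.
-/

set_option autoImplicit false
set_option linter.unusedSectionVars false
set_option linter.unusedVariables false

namespace Cfsg.Agent.AutPOmega

open Matrix Cfsg.Agent.Forms Cfsg.Agent.Forms.QuadStd Cfsg.Agent.Forms.Reflections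
open Cfsg.Agent.Classical Cfsg.Agent.Classical.Orth
open Cfsg.Agent.AutPOmega.BaseChange

universe u v

variable {F : Type u} [Field F] {K : Type v} [Field K] {φ : K →+* F}
variable {ι κ : Type} [Fintype ι] [DecidableEq ι] [Fintype κ] [DecidableEq κ]

/-- A matrix over a subfield has the rank of its image. -/
theorem rank_map_ringHom (f : K →+* F) (A : Matrix ι ι K) : (A.map f).rank = A.rank := by
  classical
  obtain ⟨V, U, e, hV, hU, h⟩ := A.exists_rank_normal_form
  have h' := congrArg (fun B : Matrix ι ι K => B.map f) h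
  simp only [Matrix.map_mul] at h'
  have hN : ((Matrix.fromBlocks (1 : Matrix (Fin A.rank) (Fin A.rank) K) 0 0
      (0 : Matrix (Fin (Fintype.card ι - A.rank)) (Fin (Fintype.card ι - A.rank)) K)).submatrix
        e e).map f =
      Matrix.diagonal (fun i => Sum.elim (fun _ => (1 : F)) (fun _ => 0) (e i)) := by
    rw [← Matrix.diagonal_one, ← Matrix.diagonal_zero, Matrix.fromBlocks_diagonal,
      Matrix.submatrix_diagonal_equiv, Matrix.diagonal_map (map_zero f)]
    congr 1
    funext i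
    simp only [Function.comp_apply]
    cases e i <;> simp
  have hr := congrArg Matrix.rank h'
  rw [hN, Matrix.rank_diagonal,
    Matrix.rank_mul_eq_left_of_isUnit_det (U.map f) _ ((Matrix.isUnit_iff_isUnit_det _).1
      (hU.map f.mapMatrix)),
    Matrix.rank_mul_eq_right_of_isUnit_det (V.map f) _ ((Matrix.isUnit_iff_isUnit_det _).1
      (hV.map f.mapMatrix))] at hr
  rw [hr]
  conv_rhs => rw [← Fintype.card_fin A.rank]
  refine Fintype.card_congr ((e.subtypeEquiv (q := fun x => x.isLeft = true) fun i => ?_).trans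
    { toFun := fun x => x.1.getLeft x.2
      invFun := fun j => ⟨Sum.inl j, rfl⟩
      left_inv := fun x => Subtype.ext (Sum.inl_getLeft _ _)
      right_inv := fun j => rfl })
  cases e i <;> simp

theorem finrank_fixSp_add_rank {Q : QuadraticForm F (ι → F)} (h : Cfsg.isometryGroup F ⇑Q) :
    Module.finrank F ↥(fixSp h) + ((((h : GL ι F) : Matrix ι ι F)) - 1).rank = Fintype.card ι := by
  have e : act h - LinearMap.id = ((((h : GL ι F) : Matrix ι ι F)) - 1).mulVecLin :=
    LinearMap.ext fun v => by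
      rw [LinearMap.sub_apply, LinearMap.id_apply, Matrix.mulVecLin_apply, Matrix.sub_mulVec,
        Matrix.one_mulVec, act_apply]
  rw [fixSp, e, Matrix.rank, add_comm, LinearMap.finrank_range_add_finrank_ker, Module.finrank_pi]

/-- Isomorphic images of one group. -/
theorem image_equiv {G X Y : Type*} [Group G] [Group X] [Group Y] (f : G →* X) (g : G →* Y)
    (hk : f.ker = g.ker) (H : Subgroup G) : Nonempty (↥(H.map f) ≃* ↥(H.map g)) := by
  have h1 : (f.comp H.subtype).range = H.map f := by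
    rw [MonoidHom.range_comp, Subgroup.range_subtype]
  have h2 : (g.comp H.subtype).range = H.map g := by
    rw [MonoidHom.range_comp, Subgroup.range_subtype]
  have h3 : (f.comp H.subtype).ker = (g.comp H.subtype).ker := by
    rw [← MonoidHom.comap_ker, ← MonoidHom.comap_ker, hk]
  exact ⟨(MulEquiv.subgroupCongr h1).symm.trans
    ((QuotientGroup.quotientKerEquivRange _).symm.trans
      ((QuotientGroup.quotientMulEquivOfEq h3).trans
        ((QuotientGroup.quotientKerEquivRange _).trans (MulEquiv.subgroupCongr h2))))⟩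

variable {Q : QuadraticForm F (ι → F)} {σ : F ≃+* F} {P₀ : QuadraticForm K (κ → K)}

/-- Descent of the semilinear map `v ↦ A₀ σ(v)` to a form over `K`. -/
structure Desc (φ : K →+* F) (P₀ : QuadraticForm K (κ → K)) (Q : QuadraticForm F (ι → F))
    (σ : F ≃+* F) (A₀ : GO Q) where
  L : (κ → F) ≃ₗ[F] (ι → F)
  P : QuadraticForm F (κ → F)
  w : Fˣ
  l : Fˣ
  ext : Ext φ P₀ P
  hP : ∀ v, Q (L v) = (w : F) * P v
  hτ : ∀ v : κ → F, mat A₀ *ᵥ (fun i => σ (L v i)) = (l : F) • L fun j => σ (v j)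

variable {A₀ : GO Q} (D : Desc φ P₀ Q σ A₀)

/-- The underlying homomorphism of general linear groups. -/
noncomputable def Desc.mapG : GL κ K →* GL ι F :=
  (SimForms.mapGL D.L).toMonoidHom.comp (Units.map (RingHom.mapMatrix φ).toMonoidHom)

theorem Desc.mapG_apply (g : GL κ K) (v : κ → F) :
    ((D.mapG g : GL ι F) : Matrix ι ι F) *ᵥ D.L v =
      D.L (((g : Matrix κ κ K).map φ) *ᵥ v) := SimForms.mapGL_mulVec D.L _ v

theorem Desc.map_sim (g : GO P₀) (v : ι → F) :
    Q (((D.mapG g : GL ι F) : Matrix ι ι F) *ᵥ v) = φ (muC g : K) * Q v := by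
  obtain ⟨u, rfl⟩ := D.L.surjective v
  have hc := Ext.unique (P' := φ (muC g : K) • D.P)
    (R' := D.P.comp (Matrix.toLin' ((mat g).map φ))) (D.ext.smul (muC g : K)) fun x => by
      show D.P ((mat g).map φ *ᵥ vmap φ x) = _
      rw [show (mat g).map φ *ᵥ vmap φ x = vmap φ (mat g *ᵥ x) from
        funext fun i => (RingHom.map_mulVec φ _ x i).symm, D.ext, muC_spec]
      rfl
  have h1 : D.P ((mat g).map φ *ᵥ u) = φ (muC g : K) * D.P u :=
    (DFunLike.congr_fun hc u).symm
  rw [D.mapG_apply, D.hP, D.hP, show ((g : GL κ K) : Matrix κ κ K) = mat g from rfl, h1,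
    mul_left_comm]

/-- A similarity over the subfield as a similarity. -/
noncomputable def Desc.map : GO P₀ →* GO Q :=
  (D.mapG.comp (GO P₀).subtype).codRestrict (GO Q) fun g =>
    ⟨Units.map φ.toMonoidHom (muC g), D.map_sim g⟩

theorem Desc.map_coe (g : GO P₀) : ((D.map g : GO Q) : GL ι F) = D.mapG g := rfl

theorem Desc.mat_map (g : GO P₀) (v : κ → F) :
    mat (D.map g) *ᵥ D.L v = D.L ((mat g).map φ *ᵥ v) := D.mapG_apply g v

theorem Desc.muC_map {x : ι → F} (hx : Q x ≠ 0) (g : GO P₀) :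
    (muC (D.map g) : F) = φ (muC g : K) := muC_eq hx (D.map_sim g)

theorem Desc.det_map (g : GO P₀) : (mat (D.map g)).det = φ (mat g).det := by
  have h := congrArg Units.val (SimForms.det_mapGL D.L
    (Units.map (RingHom.mapMatrix φ).toMonoidHom (g : GL κ K)))
  refine h.trans ?_
  exact (RingHom.map_det φ (mat g)).symm

theorem Desc.map_scal (a : Kˣ) : D.map (scal P₀ a) = scal Q (Units.map φ.toMonoidHom a) := by
  refine go_ext fun v => ?_
  obtain ⟨u, rfl⟩ := D.L.surjective v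
  rw [D.mat_map, scal_mulVec]
  have e : (mat (scal P₀ a)).map φ *ᵥ u = φ (a : K) • u := by
    show (Matrix.scalar κ (a : K)).map φ *ᵥ u = _
    rw [Matrix.scalar_apply, Matrix.diagonal_map (map_zero φ)]
    funext i
    simp [Matrix.mulVec_diagonal]
  rw [e, map_smul]
  rfl

theorem Desc.map_injective : Function.Injective D.map := fun g h e => by
  refine Subtype.ext (Units.ext (Matrix.ext fun i j => φ.injective ?_))
  have h1 := congrArg (fun A : GO Q => mat A *ᵥ D.L (Pi.single j 1)) e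
  simp only [D.mat_map] at h1
  have h2 := congrFun (D.L.injective h1) i
  simpa [mat] using h2

/-- An isometry over the subfield as an isometry. -/
noncomputable def Desc.mapIso : Cfsg.isometryGroup K ⇑P₀ →* Cfsg.isometryGroup F ⇑Q :=
  (D.mapG.comp (Cfsg.isometryGroup K ⇑P₀).subtype).codRestrict _ fun h => by
    refine (mem_isometry_iff _ _).2 fun v => ?_
    obtain ⟨u, rfl⟩ := D.L.surjective v
    have hc := Ext.unique (P' := D.P)
      (R' := D.P.comp (Matrix.toLin' (((h : GL κ K) : Matrix κ κ K).map φ))) D.ext fun x => by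
        show D.P (((h : GL κ K) : Matrix κ κ K).map φ *ᵥ vmap φ x) = _
        rw [show ((h : GL κ K) : Matrix κ κ K).map φ *ᵥ vmap φ x =
            vmap φ (((h : GL κ K) : Matrix κ κ K) *ᵥ x) from
          funext fun i => (RingHom.map_mulVec φ _ x i).symm, D.ext, iso_mulVec h]
    have h1 : D.P (((h : GL κ K) : Matrix κ κ K).map φ *ᵥ u) = D.P u :=
      (DFunLike.congr_fun hc u).symm
    show Q (((D.mapG (h : GL κ K) : GL ι F) : Matrix ι ι F) *ᵥ D.L u) = Q (D.L u)
    rw [D.mapG_apply, D.hP, D.hP, h1]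

theorem Desc.map_ofIso (h : Cfsg.isometryGroup K ⇑P₀) :
    D.map (ofIso P₀ h) = ofIso Q (D.mapIso h) := rfl

theorem Desc.card_eq (D : Desc φ P₀ Q σ A₀) : Fintype.card ι = Fintype.card κ := by
  have h := D.L.finrank_eq
  rwa [Module.finrank_pi, Module.finrank_pi, eq_comm] at h

theorem Desc.par_mapIso (h : Cfsg.isometryGroup K ⇑P₀) : par (D.mapIso h) = par h := by
  have hc := D.card_eq
  let E := D.L
  have e1 := finrank_fixSp_add_rank h
  have hmem : ∀ v, D.L v ∈ fixSp (D.mapIso h) ↔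
      ((((h : GL κ K) : Matrix κ κ K) - 1).map φ).mulVecLin v = 0 := fun v => by
    rw [mem_fixSp, act_apply, Matrix.mulVecLin_apply, Matrix.map_sub φ (map_sub φ),
      Matrix.map_one φ (map_zero φ) (map_one φ), Matrix.sub_mulVec, Matrix.one_mulVec, sub_eq_zero,
      show (((D.mapIso h : Cfsg.isometryGroup F ⇑Q) : GL ι F) : Matrix ι ι F) *ᵥ D.L v =
        D.L (((h : GL κ K) : Matrix κ κ K).map φ *ᵥ v) from D.mapG_apply _ v]
    exact D.L.injective.eq_iff
  have e2 : fixSp (D.mapIso h) = Submodule.map (D.L : (κ → F) →ₗ[F] (ι → F))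
      (LinearMap.ker ((((h : GL κ K) : Matrix κ κ K) - 1).map φ).mulVecLin) := by
    ext x
    obtain ⟨v, rfl⟩ := D.L.surjective x
    rw [hmem, Submodule.mem_map_equiv, D.L.symm_apply_apply, LinearMap.mem_ker]
  have e3 := LinearMap.finrank_range_add_finrank_ker
    ((((h : GL κ K) : Matrix κ κ K) - 1).map φ).mulVecLin
  rw [Module.finrank_pi, show Module.finrank F ↥(LinearMap.range
    ((((h : GL κ K) : Matrix κ κ K) - 1).map φ).mulVecLin) =
      ((((h : GL κ K) : Matrix κ κ K) - 1).map φ).rank from rfl, rank_map_ringHom] at e3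
  have e4 : Module.finrank F ↥(fixSp (D.mapIso h)) = Module.finrank K ↥(fixSp h) := by
    rw [e2, LinearEquiv.finrank_map_eq]
    omega
  rw [par, par, e4, hc]

/-- The class character is preserved. -/
theorem Desc.cls_map [Fintype F] [Fintype K] {M : ℕ} (E : EvenSetup Q M) (E₀ : EvenSetup P₀ M)
    (g : GO P₀) : E.cls (D.map g) = E₀.cls g := by
  rw [E.cls_apply, E₀.cls_apply]
  by_cases h2 : (2 : K) = 0
  · have h2' : (2 : F) = 0 := by rw [← map_ofNat φ 2, h2, map_zero]
    obtain ⟨a, h, rfl⟩ := E₀.exists_decomp h2 g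
    rw [E₀.clsF_decomp h2, map_mul, D.map_scal, D.map_ofIso, E.clsF_decomp h2', D.par_mapIso]
  · have h2' : (2 : F) ≠ 0 := by
      rw [← map_ofNat φ 2]; exact (map_ne_zero φ).2 h2
    refine unit_eq_of_iff ?_
    rw [E.clsF_odd h2', E₀.clsF_odd h2, (E.toSetup h2').dsgH_eq_one_iff,
      (E₀.toSetup h2).dsgH_eq_one_iff, D.det_map, D.muC_map E.fr.hx, ← map_pow]
    exact φ.injective.eq_iff

/-- The image of a similarity over the subfield commutes with the semilinear map. -/
theorem Desc.map_comm (hσ : Rat Q σ) (hfix : ∀ y, σ (φ y) = φ y) (g : GO P₀) :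
    D.map g * A₀ = A₀ * fGO σ hσ (D.map g) := by
  refine go_ext fun v => ?_
  obtain ⟨x, rfl⟩ : ∃ x : ι → F, (fun i => σ (x i)) = v := ⟨fun i => σ.symm (v i), by simp⟩
  obtain ⟨u, rfl⟩ := D.L.surjective x
  rw [mat_mul, mat_mul, ← Matrix.mulVec_mulVec, ← Matrix.mulVec_mulVec, D.hτ, Matrix.mulVec_smul,
    D.mat_map, mat_fGO, map_mulVec', D.mat_map, D.hτ]
  congr 2
  funext j
  have e : ((mat g).map φ).map σ = (mat g).map φ := Matrix.ext fun i k => hfix _
  conv_lhs => rw [← e]
  rw [map_mulVec']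

variable [Fintype F]

/-- An element of the centraliser comes from the subfield. -/
theorem Desc.exists_preimage (hσ : Rat Q σ) (hsur : ∀ x, σ x = x → ∃ y, φ y = x)
    (hQ : (QuadraticMap.polarBilin Q).Nondegenerate) (f : Frame Q) (hn : 5 ≤ Fintype.card ι)
    {x₀ : κ → K} (hx₀ : P₀ x₀ ≠ 0) {A : GO Q}
    (hA : gAut Q A * (gAut Q A₀ * fAut σ hσ) = gAut Q A₀ * fAut σ hσ * gAut Q A) :
    ∃ (g : GO P₀) (a : Fˣ), A = scal Q a * D.map g := by
  rw [mul_assoc (gAut Q A₀), fAut_mul_gAut, ← mul_assoc, ← mul_assoc, ← map_mul, ← map_mul,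
    mul_right_cancel_iff] at hA
  obtain ⟨c, hc⟩ := (gAut_eq_one_iff hQ f hn ((A₀ * fGO σ hσ A)⁻¹ * (A * A₀))).1 (by
    rw [map_mul, map_inv, hA, inv_mul_cancel])
  rw [inv_mul_eq_iff_eq_mul, ← scal_comm] at hc
  set N : GL κ F := (SimForms.mapGL D.L).symm (A : GL ι F)
  have hN : ∀ u, D.L ((N : Matrix κ κ F) *ᵥ u) = mat A *ᵥ D.L u := fun u => by
    rw [← SimForms.mapGL_mulVec, show SimForms.mapGL D.L N = (A : GL ι F) from
      MulEquiv.apply_symm_apply _ _]
    rfl
  have hNσ : ∀ u, (N : Matrix κ κ F) *ᵥ (fun j => σ (u j)) =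
      (c : F) • fun j => σ (((N : Matrix κ κ F) *ᵥ u) j) := fun u => by
    apply D.L.injective
    rw [hN, map_smul]
    have h1 : (D.l : F) • (mat A *ᵥ D.L fun j => σ (u j)) =
        (D.l : F) • ((c : F) • D.L fun j => σ (((N : Matrix κ κ F) *ᵥ u) j)) := by
      rw [← Matrix.mulVec_smul, ← D.hτ, Matrix.mulVec_mulVec, ← mat_mul, hc, mat_mul,
        ← Matrix.mulVec_mulVec, scal_mulVec, mat_mul, ← Matrix.mulVec_mulVec, mat_fGO, map_mulVec',
        ← hN, D.hτ, smul_comm]
    exact smul_right_injective _ D.l.ne_zero h1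
  have hNfld : (N : Matrix κ κ F) = (c : F) • (N : Matrix κ κ F).map σ := by
    refine Matrix.ext_iff_mulVec.2 fun v => ?_
    obtain ⟨u, rfl⟩ : ∃ u : κ → F, (fun j => σ (u j)) = v := ⟨fun j => σ.symm (v j), by simp⟩
    rw [hNσ, Matrix.smul_mulVec, map_mulVec']
  obtain ⟨i, j, hij⟩ : ∃ i j, (N : Matrix κ κ F) i j ≠ 0 := by
    by_contra h
    push Not at h
    have hι : Nonempty κ := by
      by_contra hne
      rw [not_nonempty_iff] at hne
      exact hx₀ (by rw [Subsingleton.elim x₀ 0, QuadraticMap.map_zero])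
    exact N.ne_zero (Matrix.ext h)
  set b := (N : Matrix κ κ F) i j
  have hb : b = (c : F) * σ b := congrFun (congrFun hNfld i) j
  set b' : Fˣ := Units.mk0 b hij
  set N' : Matrix κ κ F := b⁻¹ • (N : Matrix κ κ F)
  have hfixN : ∀ k l, σ (N' k l) = N' k l := fun k l => by
    have h1 : (N : Matrix κ κ F) k l = (c : F) * σ ((N : Matrix κ κ F) k l) :=
      congrFun (congrFun hNfld k) l
    show σ (b⁻¹ * (N : Matrix κ κ F) k l) = b⁻¹ * (N : Matrix κ κ F) k l
    rw [map_mul, map_inv₀]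
    have := (map_ne_zero σ).2 hij
    have hc0 : (c : F) ≠ 0 := c.ne_zero
    rw [inv_mul_eq_div, inv_mul_eq_div, div_eq_div_iff this hij]
    linear_combination σ ((N : Matrix κ κ F) k l) * hb - σ b * h1
  choose B hB using fun k l => hsur _ (hfixN k l)
  have hBM : (Matrix.of B).map φ = N' := Matrix.ext hB
  have hdet : (Matrix.of B).det ≠ 0 := fun h0 => by
    have h5 := congrArg φ h0
    rw [RingHom.map_det, RingHom.mapMatrix_apply, hBM, map_zero, Matrix.det_smul, mul_eq_zero] at h5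
    rcases h5 with h6 | h6
    · exact inv_ne_zero hij (eq_zero_of_pow_eq_zero h6)
    · exact (Matrix.GeneralLinearGroup.det N).ne_zero h6
  have hsim : ∀ u, D.P (N' *ᵥ u) = (b⁻¹ * b⁻¹ * (muC A : F)) * D.P u := fun u => by
    refine mul_left_cancel₀ D.w.ne_zero ?_
    rw [← D.hP, Matrix.smul_mulVec, map_smul, hN, Orth.map_smul', muC_spec, D.hP]
    ring
  have hgO : Matrix.GeneralLinearGroup.mkOfDetNeZero _ hdet ∈ GO P₀ := by
    have hval : ∀ x, φ (P₀ (Matrix.of B *ᵥ x)) = (b⁻¹ * b⁻¹ * (muC A : F)) * φ (P₀ x) := fun x => by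
      rw [← D.ext, ← D.ext, ← hsim, ← hBM]
      exact congrArg D.P (funext fun i => RingHom.map_mulVec φ _ x i)
    set d := P₀ (Matrix.of B *ᵥ x₀) / P₀ x₀
    have hd : φ d = b⁻¹ * b⁻¹ * (muC A : F) := by
      rw [map_div₀, hval, mul_div_cancel_right₀ _ ((map_ne_zero φ).2 hx₀)]
    have hd0 : d ≠ 0 := fun h0 => by
      rw [h0, map_zero] at hd
      exact mul_ne_zero (mul_ne_zero (inv_ne_zero hij) (inv_ne_zero hij)) (muC A).ne_zero hd.symm
    refine ⟨Units.mk0 d hd0, fun x => φ.injective ?_⟩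
    rw [map_mul, Units.val_mk0, hd]
    exact hval x
  refine ⟨⟨_, hgO⟩, b', go_ext fun v => ?_⟩
  obtain ⟨u, rfl⟩ := D.L.surjective v
  rw [mat_mul, ← Matrix.mulVec_mulVec, D.mat_map, scal_mulVec, ← hN]
  show D.L ((N : Matrix κ κ F) *ᵥ u) = b • D.L ((Matrix.of B).map φ *ᵥ u)
  rw [hBM, Matrix.smul_mulVec, map_smul, smul_smul, mul_inv_cancel₀ hij, one_smul]

/-- The hypotheses for the centraliser theorems. -/
structure DescOK (D : Desc φ P₀ Q σ A₀) (hσ : Rat Q σ) : Prop where
  fix : ∀ y, σ (φ y) = φ y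
  sur : ∀ x, σ x = x → ∃ y, φ y = x

theorem Desc.map_mem_centralizer (hσ : Rat Q σ) (hfix : ∀ y, σ (φ y) = φ y) (g : GO P₀) :
    gAut Q (D.map g) ∈ Subgroup.centralizer {gAut Q A₀ * fAut σ hσ} := by
  refine Subgroup.mem_centralizer_singleton_iff.2 ?_
  rw [mul_assoc (gAut Q A₀), fAut_mul_gAut, ← mul_assoc, ← mul_assoc, ← map_mul, ← map_mul,
    D.map_comm hσ hfix]

/-- The centraliser in the image of all similarities. -/
theorem Desc.range_centralizer (hσ : Rat Q σ) (ok : DescOK D hσ)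
    (hQ : (QuadraticMap.polarBilin Q).Nondegenerate) (f : Frame Q) (hn : 5 ≤ Fintype.card ι)
    {x₀ : κ → K} (hx₀ : P₀ x₀ ≠ 0) :
    ((gAut Q).comp D.map).range =
      (gAut Q).range ⊓ Subgroup.centralizer {gAut Q A₀ * fAut σ hσ} := by
  refine le_antisymm ?_ ?_
  · rintro _ ⟨g, rfl⟩
    exact ⟨⟨_, rfl⟩, D.map_mem_centralizer hσ ok.fix g⟩
  · rintro _ ⟨⟨A, rfl⟩, hA⟩
    obtain ⟨g, a, rfl⟩ := D.exists_preimage hσ ok.sur hQ f hn hx₀
      (Subgroup.mem_centralizer_singleton_iff.1 hA)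
    exact ⟨g, by rw [MonoidHom.comp_apply, map_mul, gAut_scal, one_mul]⟩

/-- The centraliser in the image of the class preserving similarities. -/
theorem Desc.cls_centralizer [Fintype K] (hσ : Rat Q σ) (ok : DescOK D hσ) {M : ℕ}
    (E : EvenSetup Q M) (E₀ : EvenSetup P₀ M) :
    E₀.cls.ker.map ((gAut Q).comp D.map) =
      E.cls.ker.map (gAut Q) ⊓ Subgroup.centralizer {gAut Q A₀ * fAut σ hσ} := by
  refine le_antisymm ?_ ?_
  · rintro _ ⟨g, hg, rfl⟩
    refine ⟨⟨D.map g, ?_, rfl⟩, D.map_mem_centralizer hσ ok.fix g⟩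
    rw [SetLike.mem_coe, MonoidHom.mem_ker, D.cls_map E E₀]
    exact hg
  · rintro _ ⟨⟨A, hA, rfl⟩, hC⟩
    obtain ⟨g, a, rfl⟩ := D.exists_preimage hσ ok.sur E.hQ E.fr E.hn5 E₀.fr.hx
      (Subgroup.mem_centralizer_singleton_iff.1 hC)
    rw [SetLike.mem_coe, MonoidHom.mem_ker, map_mul, E.cls_scal, one_mul, D.cls_map E E₀] at hA
    exact ⟨g, hA, by rw [MonoidHom.comp_apply, map_mul, gAut_scal, one_mul]⟩

/-- The kernel of the action of the similarities over the subfield. -/
theorem Desc.ker_eq [Fintype K] (hQ : (QuadraticMap.polarBilin Q).Nondegenerate) (f : Frame Q)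
    (hn : 5 ≤ Fintype.card ι) (hQ₀ : (QuadraticMap.polarBilin P₀).Nondegenerate) (f₀ : Frame P₀)
    (hn₀ : 5 ≤ Fintype.card κ) :
    ((gAut Q).comp D.map).ker = (gAut P₀).ker := by
  ext g
  rw [MonoidHom.mem_ker, MonoidHom.mem_ker, MonoidHom.comp_apply, gAut_eq_one_iff hQ f hn,
    gAut_eq_one_iff hQ₀ f₀ hn₀]
  constructor
  · rintro ⟨a, ha⟩
    refine scalar_of_fixes' hQ₀ f₀ g fun x hx hqx => ?_
    have h1 : (mat g).map φ *ᵥ vmap φ x = (a : F) • vmap φ x := by
      apply D.L.injective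
      rw [← D.mat_map, ha, scal_mulVec, map_smul]
    obtain ⟨i, hi⟩ : ∃ i, x i ≠ 0 := by
      by_contra h
      push Not at h
      exact hx (funext h)
    refine ⟨(mat g *ᵥ x) i / x i, funext fun j => φ.injective ?_⟩
    have e : ∀ k, φ ((mat g *ᵥ x) k) = (a : F) * φ (x k) := fun k =>
      (RingHom.map_mulVec φ _ x k).trans (congrFun h1 k)
    rw [Pi.smul_apply, smul_eq_mul, map_mul, map_div₀, e, e,
      mul_div_cancel_right₀ _ ((map_ne_zero φ).2 hi)]
  · rintro ⟨a, rfl⟩
    exact ⟨_, D.map_scal a⟩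

/-- The centraliser is the projective group over the subfield. -/
theorem Desc.centralizer_equiv [Fintype K] (hσ : Rat Q σ) (ok : DescOK D hσ) {M : ℕ}
    (E : EvenSetup Q M) (E₀ : EvenSetup P₀ M) :
    Nonempty (↥(E.cls.ker.map (gAut Q) ⊓ Subgroup.centralizer {gAut Q A₀ * fAut σ hσ}) ≃*
      ↥(E₀.cls.ker.map (gAut P₀))) := by
  rw [← D.cls_centralizer hσ ok E E₀]
  exact image_equiv _ _ (D.ker_eq E.hQ E.fr E.hn5 E₀.hQ E₀.fr E₀.hn5) _

end Cfsg.Agent.AutPOmega
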