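import Cfsg.Agent.Lib.AutPOmega.Descent
import Cfsg.Agent.Lib.AutPSL.SplitClass

/-!
# How many classes of inner automorphisms make up a class under the class preserving similarities
-/

set_option autoImplicit false
set_option linter.unusedSectionVars false
set_option linter.unusedVariables false

namespace Cfsg.Agent.AutPOmega

open Matrix Cfsg.Agent.Forms Cfsg.Agent.Forms.QuadStd Cfsg.Agent.Forms.Reflections
open Cfsg.Agent.Classical Cfsg.Agent.Classical.Orth Cfsg.Agent.Classical.OmegaCrit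
open Cfsg.Agent.AutPOmega.BaseChange

universe u v

variable {F : Type u} [Field F] [Fintype F] {ι : Type} [Fintype ι] [DecidableEq ι]
variable {Q : QuadraticForm F (ι → F)} {M : ℕ}

theorem par_omega (hQ : (QuadraticMap.polarBilin Q).Nondegenerate)
    (h : Fintype.card F ≠ 2 ∨ Fintype.card ι ≠ 4) {s : Cfsg.isometryGroup F ⇑Q}
    (hs : s ∈ Cfsg.Omega F ⇑Q) : par s = 1 :=
  congrArg Prod.fst ((mem_omega_iff hQ h s).1 hs)

omit [Fintype F] in
theorem map_innPre_eq (Q : QuadraticForm F (ι → F)) :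
    (innPre Q).map (gAut Q) = Cfsg.Inn (Cfsg.POmega F ⇑Q) := by
  rw [innPre, Subgroup.map_comap_eq]
  refine inf_eq_right.2 ?_
  rintro _ ⟨x, rfl⟩
  induction x using QuotientGroup.induction_on with | H s => ?_
  exact ⟨ofIso Q s.1, (conj_mk_eq s).symm⟩

omit [Fintype F] in
theorem ker_gAut_le_innPre (Q : QuadraticForm F (ι → F)) : (gAut Q).ker ≤ innPre Q := fun g hg => by
  show gAut Q g ∈ Cfsg.Inn _
  rw [MonoidHom.mem_ker.1 hg]
  exact one_mem _

namespace EvenSetup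

variable (E : EvenSetup Q M)

include E

theorem innPre_le_cls : innPre Q ≤ E.cls.ker := fun g hg => by
  obtain ⟨a, s, hs, rfl⟩ := (gAut_mem_inn_iff E.hQ E.fr E.hn5 g).1 hg
  rw [MonoidHom.mem_ker, map_mul, E.cls_scal, E.cls_ofIso, par_omega E.hQ E.hq hs, mul_one]

theorem inn_le : Cfsg.Inn (Cfsg.POmega F ⇑Q) ≤ E.cls.ker.map (gAut Q) :=
  map_innPre_eq Q ▸ Subgroup.map_mono E.innPre_le_cls

theorem cls_le_innPre (h2 : (2 : F) = 0) : E.cls.ker ≤ innPre Q := fun g hg => by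
  obtain ⟨a, h, rfl⟩ := E.exists_decomp h2 g
  rw [MonoidHom.mem_ker, E.cls_apply, E.clsF_decomp h2] at hg
  exact (gAut_mem_inn_iff E.hQ E.fr E.hn5 _).2
    ⟨a, h, (mem_omega_iff_par E.hQ E.hq h2 h).2 hg, rfl⟩

theorem ker_cls_eq (h2 : (2 : F) ≠ 0) : E.cls.ker = (E.toSetup h2).dsgH.ker := by
  ext g
  rw [MonoidHom.mem_ker, MonoidHom.mem_ker, E.cls_apply, E.clsF_odd h2]

theorem index_innPre_cls (h2 : (2 : F) ≠ 0) :
    (innPre Q).relIndex E.cls.ker = 2 * (innPre Q).relIndex (E.toSetup h2).psi.ker := by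
  rw [E.ker_cls_eq h2]
  exact (E.toSetup h2).index_innPre_dsg

end EvenSetup

/-! ### The count -/

variable {K : Type v} [Field K] [Fintype K] {φ : K →+* F} {κ : Type} [Fintype κ] [DecidableEq κ]
variable {P₀ : QuadraticForm K (κ → K)} {σ : F ≃+* F} {A₀ : GO Q}
variable (D : Desc φ P₀ Q σ A₀)

/-- The number of classes as an index among the similarities. -/
theorem Desc.count_eq (hσ : Rat Q σ) (ok : DescOK D hσ) (E : EvenSetup Q M)
    (E₀ : EvenSetup P₀ M) :
    Cfsg.splitClassCount (E.cls.ker.map (gAut Q)) (Cfsg.Inn (Cfsg.POmega F ⇑Q))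
        (gAut Q A₀ * fAut σ hσ) = (innPre Q ⊔ E₀.cls.ker.map D.map).relIndex E.cls.ker := by
  have : (Cfsg.Inn (Cfsg.POmega F ⇑Q)).Normal := inferInstance
  rw [AutPSL.SplitClass.splitClassCount_eq _ _ E.inn_le, ← D.cls_centralizer hσ ok E E₀,
    ← Subgroup.map_map]
  conv_lhs => rw [← map_innPre_eq Q, ← Subgroup.map_sup]
  rw [Subgroup.relIndex_map_map,
    sup_eq_left.2 ((ker_gAut_le_innPre Q).trans le_sup_left),
    sup_eq_left.2 ((ker_gAut_le_innPre Q).trans E.innPre_le_cls)]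

theorem Desc.count_two (hσ : Rat Q σ) (ok : DescOK D hσ) (E : EvenSetup Q M)
    (E₀ : EvenSetup P₀ M) (h2 : (2 : F) = 0) :
    Cfsg.splitClassCount (E.cls.ker.map (gAut Q)) (Cfsg.Inn (Cfsg.POmega F ⇑Q))
        (gAut Q A₀ * fAut σ hσ) = 1 := by
  rw [D.count_eq hσ ok E E₀, Subgroup.relIndex_eq_one]
  exact (E.cls_le_innPre h2).trans le_sup_left

theorem Desc.map_image_le (E : EvenSetup Q M) (E₀ : EvenSetup P₀ M) :
    E₀.cls.ker.map D.map ≤ E.cls.ker := by
  rintro _ ⟨g, hg, rfl⟩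
  rw [MonoidHom.mem_ker, D.cls_map E E₀]
  exact hg

theorem Desc.mapIso_reflect {v : κ → K} (hv : P₀ v ≠ 0) :
    D.mapIso (reflect P₀ v) = reflect Q (D.L (vmap φ v)) := by
  refine Orth.act_ext fun x => ?_
  obtain ⟨u, rfl⟩ := D.L.surjective x
  have hq : Q (D.L (vmap φ v)) = (D.w : F) * φ (P₀ v) := by rw [D.hP, D.ext]
  have hP : ∀ a b, QuadraticMap.polar Q (D.L a) (D.L b) = (D.w : F) * QuadraticMap.polar D.P a b :=
    fun a b => by simp only [QuadraticMap.polar, ← map_add, D.hP]; ring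
  have key : ((((reflect P₀ v : Cfsg.isometryGroup K ⇑P₀) : GL κ K) : Matrix κ κ K).map φ) *ᵥ u =
      u - ((φ (P₀ v))⁻¹ * QuadraticMap.polar D.P (vmap φ v) u) • vmap φ v := by
    have hL : Matrix.toLin' ((((reflect P₀ v : Cfsg.isometryGroup K ⇑P₀) : GL κ K) :
        Matrix κ κ K).map φ) = LinearMap.id -
          ((φ (P₀ v))⁻¹ • polB D.P (vmap φ v)).smulRight (vmap φ v) := by
      refine (Pi.basisFun F κ).ext fun i => ?_
      rw [Pi.basisFun_apply, Matrix.toLin'_apply, ← vmap_single φ i,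
        show ((((reflect P₀ v : Cfsg.isometryGroup K ⇑P₀) : GL κ K) : Matrix κ κ K).map φ) *ᵥ
          vmap φ (Pi.single i 1) = vmap φ (act (reflect P₀ v) (Pi.single i 1)) from
          funext fun j => ((RingHom.map_mulVec φ _ (Pi.single i 1 : κ → K) j).symm.trans (by
            rw [act_apply]; rfl)), act_reflect]
      simp only [LinearMap.sub_apply, LinearMap.id_apply, LinearMap.smulRight_apply,
        LinearMap.smul_apply, polB_apply, smul_eq_mul, D.ext.polar]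
      funext j
      simp [vmap]
    have := LinearMap.congr_fun hL u
    simpa [polB_apply] using this
  rw [act_apply, act_reflect, hq, hP]
  show ((D.mapG _ : GL ι F) : Matrix ι ι F) *ᵥ D.L u = _
  rw [D.mapG_apply, show (((Cfsg.isometryGroup K ⇑P₀).subtype (reflect P₀ v) : GL κ K) :
    Matrix κ κ K) = ((reflect P₀ v : Cfsg.isometryGroup K ⇑P₀) : GL κ K).val from rfl, key, map_sub,
    map_smul]
  have := D.w.ne_zero
  congr 2
  field_simp

/-- The spinor norm of a rational isometry of parity one. -/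
theorem Desc.theta_mapIso (hQ : (QuadraticMap.polarBilin Q).Nondegenerate)
    (hq : Fintype.card F ≠ 2 ∨ Fintype.card ι ≠ 4)
    (hQ₀ : (QuadraticMap.polarBilin P₀).Nondegenerate)
    (hq₀ : Fintype.card K ≠ 2 ∨ Fintype.card κ ≠ 4) (e : ℤˣ →* ℤˣ)
    (he : ∀ c : K, c ≠ 0 → chi (φ c) = e (chi c)) (h : Cfsg.isometryGroup K ⇑P₀)
    (hp : par h = 1) :
    theta hQ hq (D.mapIso h) = (1, e (theta hQ₀ hq₀ h).2) := by
  suffices hgen : theta hQ hq (D.mapIso h) = (par h,
      (if par h = 1 then 1 else chi (D.w : F)) * e (theta hQ₀ hq₀ h).2) by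
    rw [hgen, hp, if_pos rfl, one_mul]
  obtain ⟨vs, hvs, rfl⟩ := exists_list hQ₀ hq₀ h
  clear hp
  induction vs with
  | nil =>
    simp only [List.map_nil, List.prod_nil, map_one, par_one]
    simp
    rfl
  | cons v vs ih =>
    simp only [List.mem_cons, forall_eq_or_imp] at hvs
    have hv' : φ (P₀ v) ≠ 0 := (map_ne_zero φ).2 hvs.1
    have hqv : Q (D.L (vmap φ v)) = (D.w : F) * φ (P₀ v) := by rw [D.hP, D.ext]
    rw [List.map_cons, List.prod_cons, map_mul, map_mul, D.mapIso_reflect hvs.1, ih hvs.2,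
      map_mul (theta hQ₀ hq₀), theta_reflect hQ hq (by
        rw [hqv]; exact mul_ne_zero D.w.ne_zero hv'), theta_reflect hQ₀ hq₀ hvs.1,
      par_mul_all hQ₀ hq₀, par_reflect hQ₀ hvs.1, hqv, chi_mul D.w.ne_zero hv', he _ hvs.1,
      Prod.mk_mul_mk, Prod.snd_mul, map_mul e]
    generalize par (List.map (reflect P₀) vs).prod = p
    generalize chi (D.w : F) = w
    generalize (theta hQ₀ hq₀ (List.map (reflect P₀) vs).prod).2 = t
    refine Prod.ext rfl ?_
    show w * e _ * ((if p = 1 then 1 else w) * e t) = (if -1 * p = 1 then 1 else w) * (e _ * e t)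
    rcases Int.units_eq_one_or p with rfl | rfl
    · rw [if_pos rfl, if_neg (by decide), one_mul, mul_assoc]
    · rw [if_neg (by decide), if_pos (by decide), one_mul,
        show w * e (chi (P₀ v)) * (w * e t) = (w * w) * (e (chi (P₀ v)) * e t) by ac_rfl,
        Int.units_mul_self, one_mul]

/-- With a rational element in every coset the class does not split. -/
theorem Desc.count_one (hσ : Rat Q σ) (ok : DescOK D hσ) (E : EvenSetup Q M)
    (E₀ : EvenSetup P₀ M) (hchi : ∀ c : K, c ≠ 0 → chi (φ c) = chi c) :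
    Cfsg.splitClassCount (E.cls.ker.map (gAut Q)) (Cfsg.Inn (Cfsg.POmega F ⇑Q))
        (gAut Q A₀ * fAut σ hσ) = 1 := by
  by_cases h2F : (2 : F) = 0
  · exact D.count_two hσ ok E E₀ h2F
  have h2K : (2 : K) ≠ 0 := fun h => h2F (by rw [← map_ofNat φ 2, h, map_zero])
  set S := E.toSetup h2F
  set S₀ := E₀.toSetup h2K
  rw [D.count_eq hσ ok E E₀, Subgroup.relIndex_eq_one]
  intro g hg
  have hmemX : ∀ g₀, E₀.cls g₀ = 1 → D.map g₀ ∈ innPre Q ⊔ E₀.cls.ker.map D.map := fun g₀ h₀ =>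
    Subgroup.mem_sup_right ⟨g₀, h₀, rfl⟩
  -- spinor norm one is inner
  have hpsi : S.psi.ker ≤ innPre Q ⊔ E₀.cls.ker.map D.map := fun x hx => by
    obtain ⟨a, h, hh, rfl⟩ := (S.mem_ker_psi_iff x).1 hx
    have hsc : scal Q a ∈ innPre Q ⊔ E₀.cls.ker.map D.map :=
      Subgroup.mem_sup_left (ker_gAut_le_innPre Q (gAut_scal a))
    refine mul_mem hsc ?_
    have hom : ∀ s : Cfsg.isometryGroup F ⇑Q, theta E.hQ E.hq s = 1 →
        ofIso Q s ∈ innPre Q := fun s hs =>
      (gAut_mem_inn_iff E.hQ E.fr E.hn5 _).2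
        ⟨1, s, (mem_omega_iff E.hQ E.hq s).2 hs, by rw [scal_one, one_mul]⟩
    rcases Int.units_eq_one_or (theta E.hQ E.hq h).2 with e | e
    · exact Subgroup.mem_sup_left (hom h (Prod.ext hh e))
    · obtain ⟨h₀, hp₀, ht₀⟩ := S₀.exists_sgn_neg
      have hh₀ : theta E.hQ E.hq (D.mapIso h₀) = (1, -1) := by
        rw [D.theta_mapIso E.hQ E.hq E₀.hQ E₀.hq (MonoidHom.id _) (fun c hc => hchi c hc) h₀ hp₀, ht₀]
        rfl
      have e1 : theta E.hQ E.hq (h * D.mapIso h₀) = 1 := by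
        rw [map_mul, hh₀, show theta E.hQ E.hq h = (1, -1) from Prod.ext hh e]
        rfl
      have e2 : ofIso Q h = ofIso Q (h * D.mapIso h₀) * (D.map (ofIso P₀ h₀))⁻¹ := by
        rw [D.map_ofIso, ← map_inv, ← map_mul, mul_inv_cancel_right]
      rw [e2]
      exact mul_mem (Subgroup.mem_sup_left (hom _ e1))
        (inv_mem (hmemX _ (by rw [E₀.cls_ofIso, hp₀])))
  have hdg : S.dsgH g = 1 := by
    rw [← MonoidHom.mem_ker, ← E.ker_cls_eq h2F]
    exact hg
  rcases Int.units_eq_one_or (chi (muC g : F)) with e | e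
  · exact hpsi (MonoidHom.mem_ker.2 (Prod.ext e hdg))
  · obtain ⟨c, hc⟩ := S₀.exists_nonsq
    obtain ⟨d, hd, hdd⟩ := E₀.hD h2K c
    have hd1 : E₀.cls d = 1 := (E₀.cls_eq_one_iff d).2 (Or.inl ⟨h2K, by rw [hd]; exact hdd⟩)
    have hdm : S.dsgH (D.map d) = 1 := by
      rw [← E.clsF_odd h2F, ← E.cls_apply, D.cls_map E E₀, hd1]
    have hchd : chi (muC (D.map d) : F) = -1 := by
      rw [D.muC_map E.fr.hx, hd, hchi _ c.ne_zero, hc]
    have e3 : g * (D.map d)⁻¹ ∈ S.psi.ker := by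
      rw [MonoidHom.mem_ker, map_mul, map_inv, S.psi_apply, S.psi_apply, hdg, hdm, e, hchd,
        mul_inv_cancel]
    rw [← inv_mul_cancel_right g (D.map d)]
    exact mul_mem (hpsi e3) (hmemX d hd1)

/-- An involution: the class splits into two or four. -/
theorem Desc.count_sq (hσ : Rat Q σ) (ok : DescOK D hσ) (E : EvenSetup Q M)
    (E₀ : EvenSetup P₀ M) (h2K : (2 : K) ≠ 0) (hneg : NegMem Q)
    (hchi : ∀ c : K, c ≠ 0 → chi (φ c) = 1) {d : GO P₀} (hd : E₀.cls d = 1)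
    (hdc : chi (muC d : K) = -1) {s : Fˣ} {h : Cfsg.isometryGroup F ⇑Q}
    (hdh : D.map d = scal Q s * ofIso Q h) {ε : ℤˣ} (hth : theta E.hQ E.hq h = (1, ε)) :
    (ε = 1 → Cfsg.splitClassCount (E.cls.ker.map (gAut Q)) (Cfsg.Inn (Cfsg.POmega F ⇑Q))
        (gAut Q A₀ * fAut σ hσ) = 4) ∧
    (ε ≠ 1 → Cfsg.splitClassCount (E.cls.ker.map (gAut Q)) (Cfsg.Inn (Cfsg.POmega F ⇑Q))
        (gAut Q A₀ * fAut σ hσ) = 2) := by
  have h2F : (2 : F) ≠ 0 := by rw [← map_ofNat φ 2]; exact (map_ne_zero φ).2 h2K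
  set S := E.toSetup h2F
  set S₀ := E₀.toSetup h2K
  rw [D.count_eq hσ ok E E₀]
  have hinn : ∀ (a : Fˣ) (t : Cfsg.isometryGroup F ⇑Q),
      theta E.hQ E.hq t = 1 → scal Q a * ofIso Q t ∈ innPre Q := fun a t ht =>
    (gAut_mem_inn_iff E.hQ E.fr E.hn5 _).2 ⟨a, t, (mem_omega_iff E.hQ E.hq t).2 ht, rfl⟩
  have hdec : ∀ g₀, g₀ ∈ S₀.psi.ker → D.map g₀ ∈ innPre Q := fun g₀ hg₀ => by
    obtain ⟨a, h₀, hh₀, rfl⟩ := (S₀.mem_ker_psi_iff g₀).1 hg₀
    rw [map_mul, D.map_scal, D.map_ofIso]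
    exact hinn _ _ (D.theta_mapIso E.hQ E.hq E₀.hQ E₀.hq 1 (fun c hc => hchi c hc) h₀ hh₀)
  have hdk : D.map d ∈ S.psi.ker := by
    rw [hdh]
    exact (S.mem_ker_psi_iff _).2 ⟨s, h, congrArg Prod.fst hth, rfl⟩
  have himg : ∀ g₀, E₀.cls g₀ = 1 →
      D.map g₀ ∈ innPre Q ∨ D.map g₀ * (D.map d)⁻¹ ∈ innPre Q := fun g₀ hg₀ => by
    have hdg : S₀.dsgH g₀ = 1 := by rw [← E₀.clsF_odd h2K, ← E₀.cls_apply, hg₀]
    have hdd : S₀.dsgH d = 1 := by rw [← E₀.clsF_odd h2K, ← E₀.cls_apply, hd]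
    rcases Int.units_eq_one_or (chi (muC g₀ : K)) with e | e
    · exact Or.inl (hdec g₀ (MonoidHom.mem_ker.2 (Prod.ext e hdg)))
    · refine Or.inr ?_
      rw [← map_inv, ← map_mul]
      refine hdec _ ?_
      rw [MonoidHom.mem_ker, map_mul, map_inv, S₀.psi_apply, S₀.psi_apply, hdg, hdd, e, hdc,
        mul_inv_cancel]
  have hd_iff : D.map d ∈ innPre Q ↔ ε = 1 := by
    rw [hdh, show scal Q s * ofIso Q h ∈ innPre Q ↔ ofIso Q h ∈ innPre Q from
      Subgroup.mul_mem_cancel_left _ (ker_gAut_le_innPre Q (gAut_scal s)),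
      S.ofIso_mem_innPre_iff hneg, mem_omega_iff E.hQ E.hq, hth]
    exact ⟨fun e => congrArg Prod.snd e, fun e => by rw [e]; rfl⟩
  have hidx : (innPre Q).relIndex E.cls.ker = 4 := by
    rw [E.index_innPre_cls h2F, S.relIndex_two hneg]
  refine ⟨fun hε => ?_, fun hε => ?_⟩
  · have : innPre Q ⊔ E₀.cls.ker.map D.map = innPre Q := by
      refine sup_eq_left.2 ?_
      rintro _ ⟨g₀, hg₀, rfl⟩
      rcases himg g₀ hg₀ with e | e
      · exact e
      · have := mul_mem e (hd_iff.2 hε)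
        rwa [inv_mul_cancel_right] at this
    rw [this, hidx]
  · have hX : innPre Q ⊔ E₀.cls.ker.map D.map = S.psi.ker := by
      refine le_antisymm (sup_le S.innPre_le ?_) ?_
      · rintro _ ⟨g₀, hg₀, rfl⟩
        rcases himg g₀ hg₀ with e | e
        · exact S.innPre_le e
        · have := mul_mem (S.innPre_le e) hdk
          rwa [inv_mul_cancel_right] at this
      · intro x hx
        by_cases hxi : x ∈ innPre Q
        · exact Subgroup.mem_sup_left hxi
        have h2 : ((innPre Q).subgroupOf S.psi.ker).index = 2 := S.relIndex_two hneg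
        have hxd : x * D.map d ∈ innPre Q :=
          (Subgroup.mul_mem_iff_of_index_two h2 (a := ⟨x, hx⟩) (b := ⟨_, hdk⟩)).2
            (iff_of_false hxi fun h3 => hε (hd_iff.1 h3))
        rw [← mul_inv_cancel_right x (D.map d)]
        exact mul_mem (Subgroup.mem_sup_left hxd)
          (inv_mem (Subgroup.mem_sup_right ⟨d, hd, rfl⟩))
    rw [hX]
    have h1 := Subgroup.relIndex_mul_relIndex _ _ _ S.innPre_le
      (show S.psi.ker ≤ E.cls.ker by
        rw [E.ker_cls_eq h2F]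
        exact fun g hg => MonoidHom.mem_ker.2 (congrArg Prod.snd (MonoidHom.mem_ker.1 hg)))
    rw [S.relIndex_two hneg, hidx] at h1
    omega

end Cfsg.Agent.AutPOmega
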