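import Cfsg.Agent.Lib.AutPOmega.FieldStd
import Cfsg.Agent.Lib.AutPOmega.SplitCount
import Cfsg.Agent.Lib.AutPSL.FieldCent

/-!
# Centralisers of field automorphisms for the odd and minus forms
-/

set_option autoImplicit false
set_option linter.unusedSectionVars false
set_option linter.unusedVariables false

namespace Cfsg.Agent.AutPOmega.FieldCentStd

open Matrix Cfsg.Agent.Forms Cfsg.Agent.Forms.QuadStd Cfsg.Agent.Forms.Reflections
open Cfsg.Agent.Forms.PlusStd Cfsg.Agent.Classical Cfsg.Agent.Classical.Orth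
open Cfsg.Agent.Classical.OrthForms Cfsg.Agent.Classical.OrthCount Cfsg.Agent.Classical.OmegaCrit
open Cfsg.Agent.AutPOmega.BaseChange

universe u v

/-! ### Transport of centralisers and counts -/

theorem map_inf_centralizer {G G' : Type*} [Group G] [Group G'] (e : G ≃* G') (H : Subgroup G)
    (H' : Subgroup G') (hH : ∀ g, e g ∈ H' ↔ g ∈ H) (x : G) :
    (H ⊓ Subgroup.centralizer {x}).map e.toMonoidHom = H' ⊓ Subgroup.centralizer {e x} := by
  ext y
  obtain ⟨g, rfl⟩ := e.surjective y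
  rw [Subgroup.mem_inf, hH, Subgroup.mem_centralizer_singleton_iff, ← map_mul, ← map_mul,
    e.injective.eq_iff, ← Subgroup.mem_centralizer_singleton_iff, ← Subgroup.mem_inf]
  exact Subgroup.mem_map_iff_mem e.injective

theorem centralizer_transport {G G' : Type*} [Group G] [Group G'] (e : G ≃* G') (H : Subgroup G)
    (H' : Subgroup G') (hH : ∀ g, e g ∈ H' ↔ g ∈ H) (x : G) :
    Nonempty (↥(H ⊓ Subgroup.centralizer {x}) ≃* ↥(H' ⊓ Subgroup.centralizer {e x})) :=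
  ⟨(e.subgroupMap _).trans (MulEquiv.subgroupCongr (map_inf_centralizer e H H' hH x))⟩

theorem count_transport {G G' : Type*} [Group G] [Group G'] (e : G ≃* G') (H K : Subgroup G)
    (H' K' : Subgroup G') [K.Normal] [K'.Normal] (hK : K ≤ H) (hH : ∀ g, e g ∈ H' ↔ g ∈ H)
    (hK' : ∀ g, e g ∈ K' ↔ g ∈ K) (x : G) :
    Cfsg.splitClassCount H K x = Cfsg.splitClassCount H' K' (e x) := by
  have h1 : ∀ (A : Subgroup G) (A' : Subgroup G'), (∀ g, e g ∈ A' ↔ g ∈ A) →
      A.map e.toMonoidHom = A' := fun A A' hA => by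
    ext y
    obtain ⟨g, rfl⟩ := e.surjective y
    rw [hA]
    exact Subgroup.mem_map_iff_mem e.injective
  have hle : K' ≤ H' := by
    rw [← h1 K K' hK', ← h1 H H' hH]
    exact Subgroup.map_mono hK
  rw [AutPSL.SplitClass.splitClassCount_eq _ _ hK, AutPSL.SplitClass.splitClassCount_eq _ _ hle,
    ← map_inf_centralizer e H H' hH x, ← h1 K K' hK', ← Subgroup.map_sup, ← h1 H H' hH,
    Subgroup.relIndex_map_map_of_injective _ _ e.injective]

theorem congr_inn {A B : Type*} [Group A] [Group B] (ψ : A ≃* B) (g : MulAut A) :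
    MulAut.congr ψ g ∈ Cfsg.Inn B ↔ g ∈ Cfsg.Inn A := by
  have key : ∀ a, MulAut.congr ψ (MulAut.conj a) = MulAut.conj (ψ a) := fun a => MulEquiv.ext fun b => by
    show ψ (a * ψ.symm b * a⁻¹) = ψ a * b * (ψ a)⁻¹
    rw [map_mul, map_mul, map_inv, MulEquiv.apply_symm_apply]
  constructor
  · rintro ⟨b, hb⟩
    obtain ⟨a, rfl⟩ := ψ.surjective b
    exact ⟨a, (MulAut.congr ψ).injective ((key a).trans hb)⟩
  · rintro ⟨a, rfl⟩
    exact ⟨ψ a, (key a).symm⟩

theorem conj_inn {A : Type*} [Group A] (α g : MulAut A) :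
    MulAut.conj α g ∈ Cfsg.Inn A ↔ g ∈ Cfsg.Inn A := by
  have h := congr_inn α g
  have e : MulAut.congr α g = MulAut.conj α g := MulEquiv.ext fun _ => rfl
  rwa [e] at h

/-! ### Squares in extensions -/

variable {F : Type u} [Field F] [Fintype F] {K : Type v} [Field K] [Fintype K] {φ : K →+* F}
  {σ : F ≃+* F}

/-- In an extension of odd degree no new squares appear. -/
theorem chi_odd (hfix : ∀ y, σ (φ y) = φ y) (hsur : ∀ x, σ x = x → ∃ y, φ y = x) {r : ℕ}
    (hr : Odd r) (hσr : σ ^ r = 1) {c : K} (hc : c ≠ 0) : chi (φ c) = chi c := by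
  rcases Int.units_eq_one_or (chi c) with h | h
  · rw [h]
    obtain ⟨d, hd⟩ := chi_eq_one_iff.1 h
    exact chi_eq_one_iff.2 ⟨φ d, by rw [hd, map_mul]⟩
  · rw [h, chi_eq_neg_one_iff]
    rintro ⟨x, hx⟩
    have h1 : σ x * σ x = x * x := by rw [← map_mul, ← hx, hfix, hx]
    have h2 : σ (σ x) = x := by
      rcases mul_self_eq_mul_self_iff.1 h1 with e | e
      · rw [e, e]
      · rw [e, map_neg, e, neg_neg]
    have h3 : σ x = x := by
      obtain ⟨k, rfl⟩ := hr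
      have hev : ∀ j, (σ ^ (2 * j)) x = x := fun j => by
        induction j with
        | zero => rfl
        | succ j ih =>
          rw [Nat.mul_succ, pow_add, RingAut.mul_apply, sq, RingAut.mul_apply, h2, ih]
      have h4 := DFunLike.congr_fun hσr x
      rwa [pow_succ', RingAut.mul_apply, hev, RingAut.one_apply] at h4
    obtain ⟨y, hy⟩ := hsur x h3
    exact chi_eq_neg_one_iff.1 h ⟨y, φ.injective (by rw [hx, map_mul, hy])⟩

/-- In a quadratic extension every element of the subfield is a square. -/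
theorem chi_sq (h2 : (2 : K) ≠ 0) (hcard : Fintype.card F = Fintype.card K ^ 2) {c : K}
    (hc : c ≠ 0) : chi (φ c) = 1 := by
  obtain ⟨l, hl⟩ := odd_card_of_two_ne h2
  have hF : ringChar F ≠ 2 := fun h => h2 (by
    have : CharP F 2 := h ▸ ringChar.charP F
    exact φ.injective (by rw [map_ofNat, map_zero]; exact CharTwo.two_eq_zero))
  rw [chi_eq_one_iff, FiniteField.isSquare_iff hF ((map_ne_zero φ).2 hc)]
  have hexp : Fintype.card F / 2 = (Fintype.card K - 1) * (l + 1) := by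
    rw [hcard, hl]
    have : (2 * l + 1) ^ 2 = 2 * ((2 * l + 1 - 1) * (l + 1)) + 1 := by
      rw [Nat.add_sub_cancel]; ring
    rw [this]
    omega
  rw [← map_pow, hexp, pow_mul, FiniteField.pow_card_sub_one_eq_one c hc, one_pow, map_one]

/-- The descent of a standard field automorphism. -/
noncomputable def stdDesc {ι : Type} [Fintype ι] [DecidableEq ι] {Q : QuadraticForm F (ι → F)}
    (P₀ : QuadraticForm K (ι → K)) (hP : Ext φ P₀ Q) : Desc φ P₀ Q σ 1 where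
  L := LinearEquiv.refl F _
  P := Q
  w := 1
  l := 1
  ext := hP
  hP v := by rw [Units.val_one, one_mul]; rfl
  hτ v := by
    rw [mat_one, Matrix.one_mulVec, Units.val_one, one_smul]
    rfl

theorem two_ne_sub (h2 : (2 : F) ≠ 0) (φ : K →+* F) : (2 : K) ≠ 0 := fun h => h2 (by
  rw [← map_ofNat φ 2, h, map_zero])

/-! ### The minus type -/

set_option maxHeartbeats 1600000 in
/-- The field automorphism classes of minus type. -/
theorem minus_field {k : ℕ} (hk : 3 ≤ k) {a b a' b' : F}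
    (hab : ∀ z₁ z₂ : F, z₁ ^ 2 + a * z₁ * z₂ + b * z₂ ^ 2 = 0 → z₁ = 0 ∧ z₂ = 0)
    (hab' : ∀ z₁ z₂ : F, z₁ ^ 2 + a' * z₁ * z₂ + b' * z₂ ^ 2 = 0 → z₁ = 0 ∧ z₂ = 0)
    (x : MulAut (Cfsg.POmega F ⇑(minQ F k a b)))
    (ψ : Cfsg.POmega F ⇑(minQ F k a b) ≃* Cfsg.POmega F ⇑(minQ F k a' b')) (τ : F ≃+* F)
    (ha : τ a' = a') (hb : τ b' = b')
    (hφ : Cfsg.IsFieldAutPOmegaOf ⇑(minQ F k a' b') τ ((ψ.symm.trans x).trans ψ))
    {p f : ℕ} [Fact p.Prime] (hF : Fintype.card F = p ^ f) {r : ℕ} (hr : r.Prime)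
    (hxr : orderOf x = r) (hK : Fintype.card K = p ^ (f / r)) :
    Odd r ∧ r ∣ f ∧ (∃ a₀ b₀ : K,
      (∀ z₁ z₂ : K, z₁ ^ 2 + a₀ * z₁ * z₂ + b₀ * z₂ ^ 2 = 0 → z₁ = 0 ∧ z₂ = 0) ∧
      Nonempty (↥(Plus.inndiagOf ⇑(minQ F k a b) (Cfsg.PreservesSingularClassesMinus k a b) ⊓
          Subgroup.centralizer {x}) ≃*
        ↥(Plus.inndiagOf ⇑(minQ K k a₀ b₀) (Cfsg.PreservesSingularClassesMinus k a₀ b₀)))) ∧
      Cfsg.splitClassCount (Plus.inndiagOf ⇑(minQ F k a b) (Cfsg.PreservesSingularClassesMinus k a b))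
        (Cfsg.Inn (Cfsg.POmega F ⇑(minQ F k a b))) x = 1 := by
  obtain ⟨E⟩ := minusEven hab hk
  obtain ⟨E'⟩ := minusEven hab' hk
  rw [inndiag_minus hab hk E]
  have hσ := FieldStd.rat_minus k ha hb
  obtain ⟨T₀⟩ := FieldStd.exists_semi_minus (k := k) hab hab'
  obtain ⟨Φ, hΦ⟩ := exists_semi (Standard.minBig hk hab) (ψ.trans (semP T₀).symm)
  let e : MulAut (Cfsg.POmega F ⇑(minQ F k a b)) ≃* MulAut (Cfsg.POmega F ⇑(minQ F k a' b')) :=
    MulAut.congr ψ
  have hex : e x = fAut τ hσ := (fAut_iff hσ _).1 hφ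
  have hσr : orderOf τ = r := by
    rw [← orderOf_fAut E'.hQ E'.fr E'.hn5 hσ, ← hex, e.orderOf_eq, hxr]
  have hψ : ∀ y, ψ y = semP T₀ (semP Φ y) := fun y => by
    rw [← hΦ]; exact ((semP T₀).apply_symm_apply (ψ y)).symm
  have he : ∀ A, e (gAut _ A) = gAut _ (semGO T₀ (semGO Φ A)) := fun A => by
    refine MulEquiv.ext fun y => ?_
    obtain ⟨y, rfl⟩ := ψ.surjective y
    show ψ (gAut _ A (ψ.symm (ψ y))) = _
    rw [ψ.symm_apply_apply, hψ, hψ, semP_gAut, semP_gAut]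
  have hN : ∀ g, e g ∈ E'.cls.ker.map (gAut _) ↔ g ∈ E.cls.ker.map (gAut _) := fun g => by
    constructor
    · rintro ⟨A, hA, hAg⟩
      obtain ⟨B, rfl⟩ := ((semGO Φ).trans (semGO T₀)).surjective A
      rw [SetLike.mem_coe, MonoidHom.mem_ker, MulEquiv.trans_apply, clsF_semGO E E',
        clsF_semGO E E] at hA
      exact ⟨B, hA, e.injective ((he B).trans hAg)⟩
    · rintro ⟨A, hA, rfl⟩
      refine ⟨semGO T₀ (semGO Φ A), ?_, (he A).symm⟩
      rw [SetLike.mem_coe, MonoidHom.mem_ker, clsF_semGO E E', clsF_semGO E E]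
      exact hA
  have hv : ∀ i, τ ((minFrame F (show 2 ≤ k by omega) a' b').x₀ i) =
      (minFrame F (show 2 ≤ k by omega) a' b').x₀ i := by
    rintro (i | i)
    · simp [minFrame]
    · fin_cases i <;> simp [minFrame]
  have hodd : Odd r := E'.odd_of_not_plus hσ hr hσr (minFrame F (show 2 ≤ k by omega) a' b').hx hv
    (fun h => QuadClass.plus_ne_min (m := k + 1) (by omega) hab' h.symm)
  obtain ⟨ι, hfix, hsur⟩ := AutPSL.FieldCent.exists_emb (F₀ := K) hF τ hσr hK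
  obtain ⟨a₀, rfl⟩ := hsur a' ha
  obtain ⟨b₀, rfl⟩ := hsur b' hb
  have hab₀ : ∀ z₁ z₂ : K, z₁ ^ 2 + a₀ * z₁ * z₂ + b₀ * z₂ ^ 2 = 0 → z₁ = 0 ∧ z₂ = 0 :=
    fun z₁ z₂ h => by
      obtain ⟨h1, h2⟩ := hab' (ι z₁) (ι z₂) (by
        rw [← map_pow, ← map_mul, ← map_mul, ← map_pow, ← map_mul, ← map_add, ← map_add, h, map_zero])
      exact ⟨(map_eq_zero ι).1 h1, (map_eq_zero ι).1 h2⟩
  obtain ⟨E₀⟩ := minusEven hab₀ hk
  set D : Desc ι (minQ K k a₀ b₀) (minQ F k (ι a₀) (ι b₀)) τ 1 :=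
    stdDesc (σ := τ) (minQ K k a₀ b₀) (ext_minQ ι k a₀ b₀)
  have ok : DescOK D hσ := ⟨hfix, hsur⟩
  have h1 : gAut (minQ F k (ι a₀) (ι b₀)) 1 * fAut τ hσ = e x := by rw [map_one, one_mul, hex]
  refine ⟨hodd, hσr ▸ AutPSL.FieldCent.dvd_degree hF τ, ⟨a₀, b₀, hab₀, ?_⟩, ?_⟩
  · rw [inndiag_minus hab₀ hk E₀]
    obtain ⟨e1⟩ := centralizer_transport e _ _ hN x
    obtain ⟨e2⟩ := D.centralizer_equiv hσ ok E' E₀
    rw [← h1] at e1
    exact ⟨e1.trans e2⟩
  · rw [count_transport e _ _ _ (Cfsg.Inn (Cfsg.POmega F ⇑(minQ F k (ι a₀) (ι b₀)))) E.inn_le hN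
      (congr_inn ψ), ← h1]
    exact D.count_one hσ ok E' E₀ fun c hc =>
      chi_odd hfix hsur hodd (hσr ▸ pow_orderOf_eq_one τ) hc

/-! ### Odd dimension -/

section odd

variable {ι : Type} [Fintype ι] [DecidableEq ι] {Q : QuadraticForm F (ι → F)} {m : ℕ}

theorem muC_ofIso_odd (f : Frame Q) (h : Cfsg.isometryGroup F ⇑Q) : muC (ofIso Q h) = 1 :=
  Units.ext (muC_eq f.hx fun v => by rw [ofIso_mulVec, act_map, Units.val_one, one_mul])

/-- In odd dimension every similarity is a scalar times a rotation. -/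
theorem decomp_odd (h2 : (2 : F) ≠ 0) (hQ : (QuadraticMap.polarBilin Q).Nondegenerate)
    (f : Frame Q) (hM : Fintype.card ι = 2 * m + 1) (g : GO Q) :
    ∃ (a : Fˣ) (h : Cfsg.isometryGroup F ⇑Q), par h = 1 ∧ g = scal Q a * ofIso Q h := by
  have hq : Fintype.card F ≠ 2 ∨ Fintype.card ι ≠ 4 := Or.inr (by omega)
  set μ : F := (muC g : F)
  have hμ : μ ≠ 0 := (muC g).ne_zero
  have hdet0 : (mat g).det ≠ 0 := (Matrix.GeneralLinearGroup.det (g : GL ι F)).ne_zero
  have hsq : (mat g).det * (mat g).det = μ ^ (2 * m + 1) := by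
    let B : LinearMap.BilinForm F (ι → F) := QuadraticMap.polarBilin Q
    have hG : (LinearMap.BilinForm.toMatrix (Pi.basisFun F ι) B).det ≠ 0 :=
      (LinearMap.BilinForm.nondegenerate_iff_det_ne_zero _).1 hQ
    have hB : μ • B = B.compl₁₂ (Matrix.toLin' (mat g)) (Matrix.toLin' (mat g)) :=
      LinearMap.ext₂ fun u v => by simp [B, μ, polar_mat]
    have h := congrArg (fun b : LinearMap.BilinForm F (ι → F) =>
      (LinearMap.BilinForm.toMatrix (Pi.basisFun F ι) b).det) hB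
    simp only [map_smul, det_smul] at h
    rw [show B.compl₁₂ (Matrix.toLin' (mat g)) (Matrix.toLin' (mat g)) =
        LinearMap.BilinForm.comp B (Matrix.toLin' (mat g)) (Matrix.toLin' (mat g)) from rfl,
      LinearMap.BilinForm.toMatrix_comp (Pi.basisFun F ι) (Pi.basisFun F ι),
      LinearMap.toMatrix_eq_toMatrix', LinearMap.toMatrix'_toLin', det_mul, det_mul, det_transpose,
      hM] at h
    exact mul_right_cancel₀ hG (by linear_combination -h)
  set t := (mat g).det / μ ^ m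
  have ht : t ≠ 0 := div_ne_zero hdet0 (pow_ne_zero _ hμ)
  have htt : t * t = μ := by
    simp only [t]
    field_simp
    linear_combination hsq
  set a := Units.mk0 t ht
  have h1 : ∀ v, Q (mat ((scal Q a)⁻¹ * g) *ᵥ v) = Q v := fun v => by
    have e : mat ((scal Q a)⁻¹ * g) *ᵥ v = t⁻¹ • (mat g *ᵥ v) := by
      have e' : t • (mat ((scal Q a)⁻¹ * g) *ᵥ v) = mat g *ᵥ v := by
        rw [show t = (a : F) from rfl, ← scal_mulVec (Q := Q), Matrix.mulVec_mulVec, ← mat_mul,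
          mul_inv_cancel_left]
      rw [← e', smul_smul, inv_mul_cancel₀ ht, one_smul]
    rw [e, QuadraticMap.map_smul, muC_spec, smul_eq_mul, ← mul_assoc, ← mul_inv,
      show t * t = μ from htt, inv_mul_cancel₀ hμ, one_mul]
  refine ⟨a, toIso _ h1, ?_, by rw [ofIso_toIso, mul_inv_cancel_left]⟩
  refine units_cast_eq_one h2 ?_
  rw [← det_eq_par hQ hq]
  show (mat ((scal Q a)⁻¹ * g)).det = 1
  have e : (mat g).det = (mat (scal Q a)).det * (mat ((scal Q a)⁻¹ * g)).det := by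
    rw [← det_mul, ← mat_mul, mul_inv_cancel_left]
  have hs : (mat (scal Q a)).det = t ^ (2 * m + 1) := by
    show (Matrix.scalar ι t).det = _
    rw [Matrix.scalar_apply, det_diagonal, Finset.prod_const, Finset.card_univ, hM]
  rw [hs, pow_succ, pow_mul, sq, htt] at e
  have : t = (mat g).det / μ ^ m := rfl
  have e2 : μ ^ m * t = (mat g).det := by rw [this]; field_simp
  rw [e2] at e
  exact mul_left_cancel₀ hdet0 (e.symm.trans (mul_one _).symm)

variable (h2 : (2 : F) ≠ 0) (hQ : (QuadraticMap.polarBilin Q).Nondegenerate) (f : Frame Q)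
  (hn : 5 ≤ Fintype.card ι) (hM : Fintype.card ι = 2 * m + 1)

include h2 hQ f hn hM

theorem ofIso_mem_innPre_odd {h : Cfsg.isometryGroup F ⇑Q} (hp : par h = 1) :
    ofIso Q h ∈ innPre Q ↔
      (theta hQ (Or.inr (by omega) : Fintype.card F ≠ 2 ∨ Fintype.card ι ≠ 4) h).2 = 1 := by
  set hq : Fintype.card F ≠ 2 ∨ Fintype.card ι ≠ 4 := Or.inr (by omega)
  constructor
  · intro hh
    obtain ⟨a, s, hs, he⟩ := (gAut_mem_inn_iff hQ f hn _).1 hh
    have h1 : ∀ v, act h v = (a : F) • act s v := fun v => by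
      have := congrArg (fun g : GO Q => mat g *ᵥ v) he
      simpa [mat_mul, ← Matrix.mulVec_mulVec, scal_mulVec, ofIso_mulVec] using this
    have ha : (a : F) * a = 1 := by
      have e := h1 f.x₀
      have e2 := congrArg Q e
      rw [act_map, QuadraticMap.map_smul, act_map, smul_eq_mul] at e2
      exact mul_right_cancel₀ f.hx (by linear_combination -e2)
    rcases mul_self_eq_one_iff.1 ha with ha1 | ha1
    · rw [show h = s from Orth.act_ext fun v => by rw [h1, ha1, one_smul]]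
      exact congrArg Prod.snd ((mem_omega_iff hQ hq s).1 hs)
    · exfalso
      have e : ((h : GL ι F) : Matrix ι ι F) = -((s : GL ι F) : Matrix ι ι F) :=
        Matrix.ext_iff_mulVec.2 fun v => by
          rw [← act_apply, h1, ha1, Matrix.neg_mulVec, ← act_apply, neg_smul, one_smul]
      have e2 := congrArg Matrix.det e
      rw [det_eq_par hQ hq, Matrix.det_neg, det_eq_par hQ hq, hp, par_omega hQ hq hs, hM, pow_succ,
        pow_mul, neg_one_sq, one_pow] at e2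
      simp at e2
      exact h2 (by linear_combination e2)
  · intro hh
    exact (gAut_mem_inn_iff hQ f hn _).2
      ⟨1, h, (mem_omega_iff hQ hq h).2 (Prod.ext hp hh), by rw [scal_one, one_mul]⟩

/-- The class of a standard field automorphism in odd dimension. -/
theorem count_odd {P₀ : QuadraticForm K (ι → K)} (D : Desc φ P₀ Q σ 1) (hσ : Rat Q σ)
    (ok : DescOK D hσ) (hQ₀ : (QuadraticMap.polarBilin P₀).Nondegenerate) (f₀ : Frame P₀) :
    ((∀ c : K, c ≠ 0 → chi (φ c) = chi c) →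
      Cfsg.splitClassCount (gAut Q).range (Cfsg.Inn (Cfsg.POmega F ⇑Q)) (fAut σ hσ) = 1) ∧
    ((∀ c : K, c ≠ 0 → chi (φ c) = 1) →
      Cfsg.splitClassCount (gAut Q).range (Cfsg.Inn (Cfsg.POmega F ⇑Q)) (fAut σ hσ) = 2) := by
  have hq : Fintype.card F ≠ 2 ∨ Fintype.card ι ≠ 4 := Or.inr (by omega)
  have hq₀ : Fintype.card K ≠ 2 ∨ Fintype.card ι ≠ 4 := Or.inr (by omega)
  have h2K := two_ne_sub h2 φ
  have hinn : Cfsg.Inn (Cfsg.POmega F ⇑Q) ≤ (gAut Q).range := by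
    rw [← map_innPre_eq Q]
    exact Subgroup.map_le_range _ _
  have heq : Cfsg.splitClassCount (gAut Q).range (Cfsg.Inn (Cfsg.POmega F ⇑Q)) (fAut σ hσ) =
      (innPre Q ⊔ D.map.range).index := by
    have : (Cfsg.Inn (Cfsg.POmega F ⇑Q)).Normal := inferInstance
    have h1 := D.range_centralizer hσ ok hQ f hn f₀.hx
    rw [map_one, one_mul] at h1
    rw [AutPSL.SplitClass.splitClassCount_eq _ _ hinn, ← h1, MonoidHom.range_comp]
    conv_lhs => rw [← map_innPre_eq Q, ← Subgroup.map_sup]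
    rw [MonoidHom.range_eq_map (gAut Q), Subgroup.relIndex_map_map,
      sup_eq_left.2 ((ker_gAut_le_innPre Q).trans le_sup_left), top_sup_eq,
      Subgroup.relIndex_top_right]
  rw [heq]
  have hsc : ∀ (a : Fˣ) (x : GO Q) (H : Subgroup (GO Q)), innPre Q ≤ H →
      (scal Q a * x ∈ H ↔ x ∈ H) := fun a x H hH =>
    H.mul_mem_cancel_left (hH (ker_gAut_le_innPre Q (gAut_scal a)))
  obtain ⟨c, hc0, hc⟩ := exists_nonsquare (F := F) h2
  obtain ⟨v, hv⟩ := Spinor.exists_value hQ h2 (by omega) hc0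
  obtain ⟨w, hw⟩ := Spinor.exists_value hQ h2 (by omega) (one_ne_zero (α := F))
  have ht : theta hQ hq (reflect Q v * reflect Q w) = (1, -1) := by
    rw [map_mul, theta_reflect hQ hq (by rw [hv]; exact hc0),
      theta_reflect hQ hq (by rw [hw]; exact one_ne_zero), hv, hw, hc, chi_one]
    rfl
  refine ⟨fun hchi => ?_, fun hchi => ?_⟩
  · rw [Subgroup.index_eq_one, eq_top_iff]
    intro g _
    obtain ⟨a, h, hp, rfl⟩ := decomp_odd (m := m) h2 hQ f hM g
    rw [hsc a _ _ le_sup_left]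
    rcases Int.units_eq_one_or (theta hQ hq h).2 with e | e
    · exact Subgroup.mem_sup_left ((ofIso_mem_innPre_odd h2 hQ f hn hM hp).2 e)
    · obtain ⟨c₀, hc₀0, hc₀⟩ := exists_nonsquare (F := K) h2K
      obtain ⟨v₀, hv₀⟩ := Spinor.exists_value hQ₀ h2K (by omega) hc₀0
      obtain ⟨w₀, hw₀⟩ := Spinor.exists_value hQ₀ h2K (by omega) (one_ne_zero (α := K))
      set h₀ := reflect P₀ v₀ * reflect P₀ w₀
      have ht₀ : theta hQ₀ hq₀ h₀ = (1, -1) := by
        rw [map_mul, theta_reflect hQ₀ hq₀ (by rw [hv₀]; exact hc₀0),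
          theta_reflect hQ₀ hq₀ (by rw [hw₀]; exact one_ne_zero), hv₀, hw₀, hc₀, chi_one]
        rfl
      have hd := D.theta_mapIso hQ hq hQ₀ hq₀ (MonoidHom.id _) (fun c hc => hchi c hc) h₀
        (congrArg Prod.fst ht₀)
      rw [ht₀] at hd
      have e1 : theta hQ hq (h * D.mapIso h₀) = 1 := by
        rw [map_mul, hd, show theta hQ hq h = (1, -1) from Prod.ext hp e]
        rfl
      rw [show ofIso Q h = ofIso Q (h * D.mapIso h₀) * (D.map (ofIso P₀ h₀))⁻¹ by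
        rw [D.map_ofIso, ← map_inv, ← map_mul, mul_inv_cancel_right]]
      exact mul_mem (Subgroup.mem_sup_left ((ofIso_mem_innPre_odd h2 hQ f hn hM
        (congrArg Prod.fst e1)).2 (congrArg Prod.snd e1)))
        (inv_mem (Subgroup.mem_sup_right ⟨_, rfl⟩))
  · have hle : D.map.range ≤ innPre Q := by
      rintro _ ⟨g₀, rfl⟩
      obtain ⟨a, h₀, hp₀, rfl⟩ := decomp_odd (m := m) h2K hQ₀ f₀ hM g₀
      rw [map_mul, D.map_scal, D.map_ofIso, hsc _ _ _ le_rfl]
      have hd := D.theta_mapIso hQ hq hQ₀ hq₀ 1 (fun c hc => hchi c hc) h₀ hp₀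
      exact (ofIso_mem_innPre_odd h2 hQ f hn hM (congrArg Prod.fst hd)).2 (congrArg Prod.snd hd)
    rw [sup_eq_left.2 hle]
    refine Subgroup.index_eq_two_iff.2 ⟨ofIso Q (reflect Q v * reflect Q w), fun g => ?_⟩
    obtain ⟨a, h, hp, rfl⟩ := decomp_odd (m := m) h2 hQ f hM g
    rw [mul_assoc, ← map_mul, hsc _ _ _ le_rfl, hsc _ _ _ le_rfl,
      ofIso_mem_innPre_odd h2 hQ f hn hM (by
        rw [par_mul_all hQ hq, hp, one_mul]; exact congrArg Prod.fst ht),
      ofIso_mem_innPre_odd h2 hQ f hn hM hp, map_mul, ht, Prod.snd_mul]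
    rcases Int.units_eq_one_or (theta hQ hq h).2 with e | e <;> rw [e] <;> decide

end odd

set_option maxHeartbeats 1600000 in
/-- Field automorphism classes in odd dimension. -/
theorem odd_field {m : ℕ} (hm : 3 ≤ m) (h2 : (2 : F) ≠ 0)
    {Q' : (Unit ⊕ (Fin m ⊕ Fin m) → F) → F} (hQ' : Q' = ⇑(oddQ F m))
    {Q₀' : (Unit ⊕ (Fin m ⊕ Fin m) → K) → K} (hQ₀' : Q₀' = ⇑(oddQ K m))
    (x : MulAut (Cfsg.POmega F Q')) (hx : Cfsg.IsFieldAutClassPOmega Q' x)
    {p f : ℕ} [Fact p.Prime] (hF : Fintype.card F = p ^ f) {r : ℕ} (hr : r.Prime)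
    (hxr : orderOf x = r) (hK : Fintype.card K = p ^ (f / r)) :
    r ∣ f ∧ Nonempty (↥(Cfsg.autSubgroupOf (fun β : Cfsg.POmega F Q' ≃* Cfsg.POmega F Q' =>
          Cfsg.IsSimilarityInducedAutPOmega Q' β) ⊓ Subgroup.centralizer {x}) ≃*
        ↥(Cfsg.autSubgroupOf (fun β : Cfsg.POmega K Q₀' ≃* Cfsg.POmega K Q₀' =>
          Cfsg.IsSimilarityInducedAutPOmega Q₀' β))) ∧
      (Odd r → Cfsg.splitClassCount (Cfsg.autSubgroupOf
        (fun β : Cfsg.POmega F Q' ≃* Cfsg.POmega F Q' => Cfsg.IsSimilarityInducedAutPOmega Q' β))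
        (Cfsg.Inn (Cfsg.POmega F Q')) x = 1) ∧
      (r = 2 → Cfsg.splitClassCount (Cfsg.autSubgroupOf
        (fun β : Cfsg.POmega F Q' ≃* Cfsg.POmega F Q' => Cfsg.IsSimilarityInducedAutPOmega Q' β))
        (Cfsg.Inn (Cfsg.POmega F Q')) x = 2) := by
  subst hQ' hQ₀'
  rw [inndiag_odd, inndiag_odd]
  obtain ⟨α, ψ, τ, -, hφ, hα⟩ := hx
  have hσ := FieldStd.rat_odd τ m
  obtain ⟨rfl, hσr⟩ := FieldStd.field_rep (Standard.oddBig h2 hm) hσ hφ hα hxr
  obtain ⟨Φ, rfl⟩ := exists_semi (Standard.oddBig h2 hm) α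
  set e := MulAut.conj (semP Φ : MulAut (Cfsg.POmega F ⇑(oddQ F m)))
  have hex : e x = fAut τ hσ := hα
  have hN : ∀ g, e g ∈ (gAut (oddQ F m)).range ↔ g ∈ (gAut (oddQ F m)).range := fun g => by
    constructor
    · rintro ⟨A, hA⟩
      obtain ⟨B, rfl⟩ := (semGO Φ).surjective A
      refine ⟨B, ?_⟩
      rw [← mul_inv_cancel_right (gAut (oddQ F m) (semGO Φ B))
        (semP Φ : MulAut (Cfsg.POmega F ⇑(oddQ F m))), ← mul_gAut] at hA
      exact mul_left_cancel (mul_right_cancel hA)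
    · rintro ⟨A, rfl⟩
      exact ⟨semGO Φ A, by rw [MulAut.conj_apply, mul_gAut, mul_inv_cancel_right]⟩
  obtain ⟨ι, hfix, hsur⟩ := AutPSL.FieldCent.exists_emb (F₀ := K) hF τ hσr hK
  have h2K := two_ne_sub h2 ι
  set D : Desc ι (oddQ K m) (oddQ F m) τ 1 := stdDesc (σ := τ) (oddQ K m) (ext_oddQ ι m)
  have ok : DescOK D hσ := ⟨hfix, hsur⟩
  have hn : 5 ≤ Fintype.card (Unit ⊕ (Fin m ⊕ Fin m)) := by simp; omega
  have hM : Fintype.card (Unit ⊕ (Fin m ⊕ Fin m)) = 2 * m + 1 := by simp; omega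
  have hQ := oddQ_nondeg h2 m
  have hQ₀ := oddQ_nondeg h2K m
  have hrf : r ∣ f := hσr ▸ AutPSL.FieldCent.dvd_degree hF τ
  have hcount : Cfsg.splitClassCount (gAut (oddQ F m)).range (Cfsg.Inn (Cfsg.POmega F ⇑(oddQ F m))) x
      = Cfsg.splitClassCount (gAut (oddQ F m)).range (Cfsg.Inn (Cfsg.POmega F ⇑(oddQ F m)))
        (fAut τ hσ) := by
    rw [count_transport e _ _ (gAut (oddQ F m)).range (Cfsg.Inn (Cfsg.POmega F ⇑(oddQ F m)))
      (by rw [← map_innPre_eq]; exact Subgroup.map_le_range _ _) hN (conj_inn _), hex]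
  obtain ⟨hc1, hc2⟩ := count_odd h2 hQ (oddFrame F (by omega)) hn hM D hσ ok hQ₀
    (oddFrame K (by omega))
  refine ⟨hrf, ?_, fun hodd => ?_, fun hr2 => ?_⟩
  · obtain ⟨e1⟩ := centralizer_transport e _ _ hN x
    have h1 := D.range_centralizer hσ ok hQ (oddFrame F (by omega)) hn
      (oddFrame K (show 2 ≤ m by omega)).hx
    rw [map_one, one_mul, ← hex] at h1
    obtain ⟨e2⟩ := image_equiv ((gAut (oddQ F m)).comp D.map) (gAut (oddQ K m))
      (D.ker_eq hQ (oddFrame F (by omega)) hn hQ₀ (oddFrame K (by omega)) hn) ⊤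
    rw [← MonoidHom.range_eq_map, ← MonoidHom.range_eq_map, h1] at e2
    exact ⟨e1.trans e2⟩
  · rw [hcount]
    exact hc1 fun c hc => chi_odd hfix hsur hodd (hσr ▸ pow_orderOf_eq_one τ) hc
  · rw [hcount]
    refine hc2 fun c hc => chi_sq h2K ?_ hc
    rw [hF, hK, hr2, ← pow_mul, Nat.div_mul_cancel (hr2 ▸ hrf)]

end Cfsg.Agent.AutPOmega.FieldCentStd
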