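import Cfsg.Agent.Lib.AutPOmega.Types
import Cfsg.Agent.Lib.AutPOmega.InnDiag

/-!
# Field automorphisms of prime order in their cosets of `Inndiag`, for the standard forms
-/

set_option autoImplicit false
set_option linter.unusedSectionVars false
set_option linter.unusedVariables false

namespace Cfsg.Agent.AutPOmega.FieldStd

open Matrix Cfsg.Agent.Forms Cfsg.Agent.Forms.QuadStd Cfsg.Agent.Forms.Reflections
open Cfsg.Agent.Forms.PlusStd Cfsg.Agent.Classical Cfsg.Agent.Classical.Orth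
open Cfsg.Agent.Classical.OrthForms Cfsg.Agent.Classical.OrthCount
open Cfsg.Agent.AutPOmega.BaseChange

universe u

variable {F : Type u} [Field F] [Fintype F]

theorem rat_plus (σ : F ≃+* F) (m : ℕ) : Rat (plusQ F m) σ := fun v =>
  ext_plusQ σ.toRingHom m v

theorem rat_odd (σ : F ≃+* F) (m : ℕ) : Rat (oddQ F m) σ := fun v =>
  ext_oddQ σ.toRingHom m v

theorem rat_minus {σ : F ≃+* F} (k : ℕ) {a b : F} (ha : σ a = a) (hb : σ b = b) :
    Rat (minQ F k a b) σ := fun v => by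
  have h := ext_minQ σ.toRingHom k a b v
  rw [show σ.toRingHom a = a from ha, show σ.toRingHom b = b from hb] at h
  exact h

/-- A field automorphism class is represented by a standard field automorphism of the same order. -/
theorem field_rep {ι : Type} [Fintype ι] [DecidableEq ι] {Q : QuadraticForm F (ι → F)}
    (S : Fundamental.Big3 Q) {σ : F ≃+* F} (hσ : Rat Q σ)
    {α x φ : MulAut (Cfsg.POmega F ⇑Q)} (hφ : Cfsg.IsFieldAutPOmegaOf ⇑Q σ φ)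
    (hα : α * x * α⁻¹ = φ) {r : ℕ} (hxr : orderOf x = r) :
    φ = fAut σ hσ ∧ orderOf σ = r := by
  have e := (fAut_iff hσ φ).1 hφ
  refine ⟨e, ?_⟩
  rw [← orderOf_fAut S.hQ S.fr (PointStab.hn5 S.toBig) hσ, ← e, ← hα, ← hxr]
  exact (MulAut.conj α).orderOf_eq x

/-- Odd dimension. -/
theorem coset_odd (h2 : (2 : F) ≠ 0) {m : ℕ} (hm : 3 ≤ m) {Q' : (Unit ⊕ (Fin m ⊕ Fin m) → F) → F}
    (hQ' : Q' = ⇑(oddQ F m)) (x δ : MulAut (Cfsg.POmega F Q'))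
    (hx : Cfsg.IsFieldAutClassPOmega Q' x) {r : ℕ} (hxr : orderOf x = r)
    (hδ : δ ∈ Cfsg.autSubgroupOf fun β : Cfsg.POmega F Q' ≃* Cfsg.POmega F Q' =>
      Cfsg.IsSimilarityInducedAutPOmega Q' β) :
    orderOf (δ * x) = r ↔ Cfsg.IsConjUnder (Cfsg.autSubgroupOf
      fun β : Cfsg.POmega F Q' ≃* Cfsg.POmega F Q' => Cfsg.IsSimilarityInducedAutPOmega Q' β)
        x (δ * x) := by
  subst hQ'
  rw [inndiag_odd] at hδ ⊢
  obtain ⟨α, φ, σ, -, hφ, hα⟩ := hx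
  have hσ := rat_odd σ m
  obtain ⟨rfl, hσr⟩ := field_rep (Standard.oddBig h2 hm) hσ hφ hα hxr
  obtain ⟨Φ, rfl⟩ := exists_semi (Standard.oddBig h2 hm) α
  refine coset_iff (MulAut.conj (semP Φ : MulAut (Cfsg.POmega F ⇑(oddQ F m)))) (gAut (oddQ F m)).range
    (gAut (oddQ F m)).range (fun g => ?_) hα hδ hxr ?_
  · rw [MulAut.conj_apply]
    constructor
    · rintro ⟨A, hA⟩
      obtain ⟨B, rfl⟩ := (semGO Φ).surjective A
      refine ⟨B, ?_⟩
      rw [← mul_inv_cancel_right (gAut (oddQ F m) (semGO Φ B))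
        (semP Φ : MulAut (Cfsg.POmega F ⇑(oddQ F m))), ← mul_gAut] at hA
      exact mul_left_cancel (mul_right_cancel hA)
    · rintro ⟨A, rfl⟩
      exact ⟨semGO Φ A, by rw [mul_gAut, mul_inv_cancel_right]⟩
  · rintro _ ⟨A, rfl⟩ hA
    exact conj_odd_dim (oddQ_nondeg h2 m) (oddFrame F (by omega)) (by simp; omega) (M := m)
      (by simp; omega) hσr hA

theorem mem_map_conj_iff {ι : Type} [Fintype ι] [DecidableEq ι] {Q Q' : QuadraticForm F (ι → F)}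
    {M : ℕ} (E : EvenSetup Q M) (E' : EvenSetup Q' M) (Φ : Semi Q Q')
    (e : MulAut (Cfsg.POmega F ⇑Q) ≃* MulAut (Cfsg.POmega F ⇑Q'))
    (he : ∀ A : GO Q, e (gAut Q A) = gAut Q' (semGO Φ A)) (g : MulAut (Cfsg.POmega F ⇑Q)) :
    e g ∈ E'.cls.ker.map (gAut Q') ↔ g ∈ E.cls.ker.map (gAut Q) := by
  constructor
  · rintro ⟨A, hA, hAg⟩
    obtain ⟨B, rfl⟩ := (semGO Φ).surjective A
    rw [SetLike.mem_coe, MonoidHom.mem_ker, clsF_semGO E E'] at hA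
    exact ⟨B, hA, e.injective ((he B).trans hAg)⟩
  · rintro ⟨A, hA, rfl⟩
    refine ⟨semGO Φ A, ?_, (he A).symm⟩
    rw [SetLike.mem_coe, MonoidHom.mem_ker, clsF_semGO E E']
    exact hA

/-- Plus type. -/
theorem coset_plus {m : ℕ} (hm : 5 ≤ m) {Q' : (Fin m ⊕ Fin m → F) → F}
    (hQ' : Q' = ⇑(plusQ F m)) (x δ : MulAut (Cfsg.POmega F Q'))
    (hx : Cfsg.IsFieldAutClassPOmega Q' x ∨
      ∃ (α γ φ : MulAut (Cfsg.POmega F Q')) (σ : F ≃+* F) (v : Fin m ⊕ Fin m → F)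
        (r : GL (Fin m ⊕ Fin m) F),
        σ ≠ RingEquiv.refl F ∧ Q' v ≠ 0 ∧ (∀ i, σ (v i) = v i) ∧
        (r : Matrix (Fin m ⊕ Fin m) (Fin m ⊕ Fin m) F) = Cfsg.reflectionMatrix Q' v ∧
        Cfsg.IsInducedBySemilinearPOmega Q' r (RingEquiv.refl F) γ ∧
        Cfsg.IsFieldAutPOmegaOf Q' σ φ ∧ α * x * α⁻¹ = γ * φ)
    {r : ℕ} (hr : r.Prime) (hxr : orderOf x = r)
    (hδ : δ ∈ Plus.inndiagOf Q' (Cfsg.PreservesSingularClasses Q')) :
    orderOf (δ * x) = r ↔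
      Cfsg.IsConjUnder (Plus.inndiagOf Q' (Cfsg.PreservesSingularClasses Q')) x (δ * x) := by
  subst hQ'
  obtain ⟨E⟩ := plusEven (F := F) (m := m) (by omega)
  rw [inndiag_plus (by omega) E] at hδ ⊢
  have hn := E.hn5
  obtain ⟨α, σ, v₀, A₀, hv0, hv, hA₀, hσr, hα, hpow₀⟩ : ∃ (α : MulAut (Cfsg.POmega F ⇑(plusQ F m)))
      (σ : F ≃+* F) (v₀ : Fin m ⊕ Fin m → F) (A₀ : GO (plusQ F m)),
      plusQ F m v₀ ≠ 0 ∧ (∀ i, σ (v₀ i) = v₀ i) ∧
      (A₀ = 1 ∨ A₀ = ofIso (plusQ F m) (reflect (plusQ F m) v₀)) ∧ orderOf σ = r ∧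
      α * x * α⁻¹ = gAut (plusQ F m) A₀ * fAut σ (rat_plus σ m) ∧
      (gAut (plusQ F m) A₀ * fAut σ (rat_plus σ m)) ^ r = 1 := by
    have hpow : ∀ (α y : MulAut (Cfsg.POmega F ⇑(plusQ F m))), α * x * α⁻¹ = y → y ^ r = 1 :=
      fun α y e => by
        rw [← e, ← (MulAut.conj α).orderOf_eq x |>.trans hxr]
        exact pow_orderOf_eq_one _
    rcases hx with ⟨α, φ, σ, -, hφ, hα⟩ | ⟨α, γ, φ, σ, v, g, hσ1, hv0, hv, hg, hγ, hφ, hα⟩
    · obtain ⟨rfl, hσr⟩ := field_rep (Standard.plusBig hm) (rat_plus σ m) hφ hα hxr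
      refine ⟨α, σ, (plusFrame F (show 3 ≤ m by omega)).x₀, 1, (plusFrame F _).hx, fun i => ?_,
        Or.inl rfl, hσr, by rw [map_one, one_mul, hα], by rw [map_one, one_mul]; exact hpow α _ hα⟩
      simp [plusFrame, Pi.single_apply, apply_ite σ]
    · have hg' : g = (ofIso (plusQ F m) (reflect (plusQ F m) v) : GO (plusQ F m)).1 := Units.ext hg
      subst hg'
      rw [(isInduced_iff _ γ).1 hγ, (fAut_iff (rat_plus σ m) φ).1 hφ] at hα
      have h1 := hpow α _ hα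
      obtain ⟨hev, hs⟩ := E.even_of_cls_neg h1 (E.cls_reflect hv0)
      have hr2 : r = 2 := (Nat.prime_dvd_prime_iff_eq Nat.prime_two hr).1 hev.two_dvd |>.symm
      subst hr2
      haveI : Fact (Nat.Prime 2) := ⟨Nat.prime_two⟩
      exact ⟨α, σ, v, _, hv0, hv, Or.inr rfl, orderOf_eq_prime hs hσ1, hα, h1⟩
  obtain ⟨Φ, rfl⟩ := exists_semi (Standard.plusBig hm) α
  refine coset_iff (MulAut.conj (semP Φ : MulAut (Cfsg.POmega F ⇑(plusQ F m))))
    (E.cls.ker.map (gAut (plusQ F m))) (E.cls.ker.map (gAut (plusQ F m)))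
    (mem_map_conj_iff E E Φ _ fun A => by rw [MulAut.conj_apply, mul_gAut, mul_inv_cancel_right])
    hα hδ hxr ?_
  rintro _ ⟨A, hA, rfl⟩ hpow
  rw [← mul_assoc, ← map_mul] at hpow ⊢
  exact E.conj_in_ker hr hσr hv0 hv hA₀ hpow hpow₀
    (by rw [map_mul, MonoidHom.mem_ker.1 hA, one_mul])

/-- Two minus forms in the same dimension are isometric. -/
theorem exists_semi_minus {k : ℕ} {a b a' b' : F}
    (hab : ∀ z₁ z₂ : F, z₁ ^ 2 + a * z₁ * z₂ + b * z₂ ^ 2 = 0 → z₁ = 0 ∧ z₂ = 0)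
    (hab' : ∀ z₁ z₂ : F, z₁ ^ 2 + a' * z₁ * z₂ + b' * z₂ ^ 2 = 0 → z₁ = 0 ∧ z₂ = 0) :
    Nonempty (Semi (minQ F k a b) (minQ F k a' b')) := by
  have hz : zeros ⇑(minQ F k a b) = zeros ⇑(minQ F k a' b') := by
    have h1 := cast_zeros_min (F := F) rfl k hab
    have h2 := cast_zeros_min (F := F) rfl k hab'
    have hq : (Fintype.card F : ℤ) ≠ 0 := by exact_mod_cast Fintype.card_ne_zero
    exact_mod_cast mul_left_cancel₀ hq (h1.trans h2.symm)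
  obtain ⟨e, he⟩ := QuadClass.exists_isometry_of_zeros (m := k + 1) _ _ (by simp; omega)
    (by simp; omega) (minQ_nondeg k hab) (minQ_nondeg k hab') hz
  exact ⟨⟨glOfEquiv e, 1, 1, fun v => by
    rw [glOfEquiv_mulVec, he, Units.val_one, one_mul]; rfl⟩⟩

set_option maxHeartbeats 1600000 in
/-- Minus type. -/
theorem coset_minus {k : ℕ} (hk : 3 ≤ k) {a b : F}
    (hab : ∀ z₁ z₂ : F, z₁ ^ 2 + a * z₁ * z₂ + b * z₂ ^ 2 = 0 → z₁ = 0 ∧ z₂ = 0)
    {a' b' : F} (hab' : ∀ z₁ z₂ : F, z₁ ^ 2 + a' * z₁ * z₂ + b' * z₂ ^ 2 = 0 → z₁ = 0 ∧ z₂ = 0)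
    (x δ : MulAut (Cfsg.POmega F ⇑(minQ F k a b)))
    (ψ : Cfsg.POmega F ⇑(minQ F k a b) ≃* Cfsg.POmega F ⇑(minQ F k a' b')) (σ : F ≃+* F)
    (ha : σ a' = a') (hb : σ b' = b')
    (hφ : Cfsg.IsFieldAutPOmegaOf ⇑(minQ F k a' b') σ ((ψ.symm.trans x).trans ψ))
    {r : ℕ} (hr : r.Prime) (hxr : orderOf x = r)
    (hδ : δ ∈ Plus.inndiagOf ⇑(minQ F k a b) (Cfsg.PreservesSingularClassesMinus k a b)) :
    orderOf (δ * x) = r ↔ Cfsg.IsConjUnder
      (Plus.inndiagOf ⇑(minQ F k a b) (Cfsg.PreservesSingularClassesMinus k a b)) x (δ * x) := by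
  obtain ⟨E⟩ := minusEven hab hk
  obtain ⟨E'⟩ := minusEven hab' hk
  rw [inndiag_minus hab hk E] at hδ ⊢
  have hσ := rat_minus k ha hb
  obtain ⟨T₀⟩ := exists_semi_minus (k := k) hab hab'
  obtain ⟨Φ, hΦ⟩ := exists_semi (Standard.minBig hk hab) (ψ.trans (semP T₀).symm)
  let e : MulAut (Cfsg.POmega F ⇑(minQ F k a b)) ≃* MulAut (Cfsg.POmega F ⇑(minQ F k a' b')) :=
    MulAut.congr ψ
  have hex : e x = fAut σ hσ := (fAut_iff hσ _).1 hφ
  have hσr : orderOf σ = r := by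
    rw [← orderOf_fAut E'.hQ E'.fr E'.hn5 hσ, ← hex, e.orderOf_eq, hxr]
  have hψ : ∀ y, ψ y = semP T₀ (semP Φ y) := fun y => by
    rw [← hΦ]; exact ((semP T₀).apply_symm_apply (ψ y)).symm
  have he : ∀ A, e (gAut _ A) = gAut _ (semGO T₀ (semGO Φ A)) := fun A => by
    refine MulEquiv.ext fun y => ?_
    obtain ⟨y, rfl⟩ := ψ.surjective y
    show ψ (gAut _ A (ψ.symm (ψ y))) = _
    rw [ψ.symm_apply_apply, hψ, hψ, semP_gAut, semP_gAut]
  have hN : ∀ g, e g ∈ E'.cls.ker.map (gAut _) ↔ g ∈ E.cls.ker.map (gAut _) := fun g => by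
    constructor
    · rintro ⟨A, hA, hAg⟩
      obtain ⟨B, rfl⟩ := ((semGO Φ).trans (semGO T₀)).surjective A
      rw [SetLike.mem_coe, MonoidHom.mem_ker, MulEquiv.trans_apply, clsF_semGO E E',
        clsF_semGO E E] at hA
      exact ⟨B, hA, e.injective ((he B).trans hAg)⟩
    · rintro ⟨A, hA, rfl⟩
      refine ⟨semGO T₀ (semGO Φ A), ?_, (he A).symm⟩
      rw [SetLike.mem_coe, MonoidHom.mem_ker, clsF_semGO E E', clsF_semGO E E]
      exact hA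
  refine coset_iff e (E.cls.ker.map (gAut _)) (E'.cls.ker.map (gAut _)) hN hex hδ hxr ?_
  rintro _ ⟨A, hA, rfl⟩ hpow
  have hv : ∀ i, σ ((minFrame F (show 2 ≤ k by omega) a' b').x₀ i) =
      (minFrame F (show 2 ≤ k by omega) a' b').x₀ i := by
    rintro (i | i)
    · simp [minFrame]
    · fin_cases i <;> simp [minFrame]
  obtain ⟨h, hh, heq⟩ := E'.conj_in_ker (hσ := hσ) (A := A) (A₀ := 1) hr hσr (minFrame F (show 2 ≤ k by omega) a' b').hx
    hv (Or.inl rfl) hpow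
    (by rw [map_one, one_mul, fAut_pow, fAut_congr (hσr ▸ pow_orderOf_eq_one σ) _ Rat.one,
      fAut_one])
    (by rw [map_one]; exact MonoidHom.mem_ker.1 hA)
  exact ⟨h, hh, by rw [heq, map_one, one_mul]⟩

end Cfsg.Agent.AutPOmega.FieldStd
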