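import Cfsg.Agent.Lib.AutPOmega.PointStab

/-!
# The fundamental theorem for quadrics, and `Aut (PΩ) = PΓO`
-/

set_option autoImplicit false
set_option linter.unusedSectionVars false

namespace Cfsg.Agent.AutPOmega.Fundamental

open Matrix Module Cfsg.Agent.Forms Cfsg.Agent.Forms.QuadStd Cfsg.Agent.Forms.Reflections
open Cfsg.Agent.Classical Cfsg.Agent.Classical.Orth Cfsg.Agent.AutPOmega.Unipotent
open Cfsg.Agent.AutPOmega.PointStab

universe u

variable {F : Type u} [Field F] [Fintype F] {ι : Type} [Fintype ι] [DecidableEq ι]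

/-- Hypotheses: a third hyperbolic pair orthogonal to the frame. -/
structure Big3 (Q : QuadraticForm F (ι → F)) extends Big Q where
  a3 : ι → F
  b3 : ι → F
  p3 : IsPair Q a3 b3
  ua : QuadraticMap.polar Q fr.u a3 = 0
  va : QuadraticMap.polar Q fr.v a3 = 0
  u'a : QuadraticMap.polar Q fr.u' a3 = 0
  v'a : QuadraticMap.polar Q fr.v' a3 = 0
  ub : QuadraticMap.polar Q fr.u b3 = 0
  vb : QuadraticMap.polar Q fr.v b3 = 0
  u'b : QuadraticMap.polar Q fr.u' b3 = 0
  v'b : QuadraticMap.polar Q fr.v' b3 = 0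

variable {Q : QuadraticForm F (ι → F)}

local notation "Vec" => (ι → F)
local notation "B" => QuadraticMap.polar Q
local notation "Iso" => Cfsg.isometryGroup F (DFunLike.coe Q)
local notation "Ω" => Cfsg.Omega F (DFunLike.coe Q)

variable (S : Big3 Q)

local notation "f" => S.toBig.fr

include S

/-! ### Geometry inside `W` -/

theorem a3_mem : S.a3 ∈ (f).W := (f).mem_W.2 ⟨S.ua, S.va⟩

theorem b3_mem : S.b3 ∈ (f).W := (f).mem_W.2 ⟨S.ub, S.vb⟩

/-- The singular vectors of `W` orthogonal to `u'` span its orthogonal complement in `W`. -/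
theorem perp_span_u' (K : Submodule F Vec)
    (hK : ∀ y ∈ (f).W, Q y = 0 → B (f).u' y = 0 → y ∈ K) :
    ∀ x ∈ (f).W, B (f).u' x = 0 → x ∈ K := by
  intro x hx hxu
  have hu' : (f).u' ∈ K := hK _ (u'_mem_W _) (f).p'.hu (polar_self_zero (f).p'.hu)
  have e := proj_add (Q := Q) (f).u' (f).v' x
  rw [show B x (f).u' = 0 by rw [QuadraticMap.polar_comm]; exact hxu, zero_smul, add_zero] at e
  set t := proj Q (f).u' (f).v' x
  have htW : t ∈ (f).W := proj_mem (u'_mem_W _) (v'_mem_W _) hx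
  have htu : B (f).u' t = 0 := by
    rw [QuadraticMap.polar_comm]; exact (proj_perp (f).p' x).1
  have ha : S.a3 ∈ K := hK _ (a3_mem S) S.p3.hu S.u'a
  have hb : S.b3 ∈ K := hK _ (b3_mem S) S.p3.hv S.u'b
  set t' := proj Q S.a3 S.b3 t
  have ht'W : t' ∈ (f).W := proj_mem (a3_mem S) (b3_mem S) htW
  have ht'u : B (f).u' t' = 0 := by
    simp [t', proj, QuadraticMap.polar_sub_right, QuadraticMap.polar_smul_right, htu, S.u'a, S.u'b]
  have hp := proj_perp S.p3 t
  set y := S.a3 + t' + (-Q t') • S.b3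
  have hy : y ∈ K := by
    refine hK _ ((f).W.add_mem ((f).W.add_mem (a3_mem S) ht'W) ((f).W.smul_mem _ (b3_mem S))) ?_ ?_
    · simp only [y, map_add', Orth.map_smul', QuadraticMap.polar_add_left,
        QuadraticMap.polar_smul_right, smul_eq_mul, S.p3.hu, S.p3.hv, S.p3.huv,
        QuadraticMap.polar_comm _ S.a3 t', hp.1, hp.2, t']
      ring
    · simp [y, QuadraticMap.polar_add_right, QuadraticMap.polar_smul_right, S.u'a, ht'u, S.u'b]
  have ht' : t' ∈ K := by
    have h1 := K.sub_mem (K.sub_mem hy ha) (K.smul_mem (-Q t') hb)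
    rwa [show y - S.a3 - (-Q t') • S.b3 = t' by simp only [y]; abel] at h1
  have ht : t ∈ K := by
    rw [proj_add (Q := Q) S.a3 S.b3 t]
    exact K.add_mem (K.add_mem (K.smul_mem _ ha) (K.smul_mem _ hb)) ht'
  rw [e]
  exact K.add_mem (K.smul_mem _ hu') ht

/-- The singular vectors of `W` orthogonal to a singular vector span its orthogonal complement. -/
theorem perp_span {z : Vec} (hz : z ∈ (f).W) (hqz : Q z = 0) (hz0 : z ≠ 0) (K : Submodule F Vec)
    (hK : ∀ y ∈ (f).W, Q y = 0 → B z y = 0 → y ∈ K) :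
    ∀ x ∈ (f).W, B z x = 0 → x ∈ K := by
  intro x hx hxz
  obtain ⟨g, hg, a, ha, hga⟩ := point_move (f).p' (S := (f).W) (u'_mem_W _) (v'_mem_W _)
    ((f).W_nondeg S.hQ) (w := (f).x₀) ((f).mem_W.2 ⟨(f).ux, (f).vx⟩) (f).u'x (f).v'x (f).hx
    hz hz0 hqz
  have h1 : act g x ∈ K.map (act g) := by
    refine perp_span_u' S _ (fun y hy hqy hyu => ?_) _ (act_mem hg hx) ?_
    · refine ⟨act g⁻¹ y, hK _ (act_mem (inv_mem hg) hy) (by rw [act_map]; exact hqy) ?_,
        Orth.act_cancel_inv g y⟩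
      rw [← act_polar g, Orth.act_cancel_inv, hga, QuadraticMap.polar_smul_left, hyu, smul_zero]
    · have h2 := act_polar g z x
      rw [hga, QuadraticMap.polar_smul_left, hxz, smul_eq_mul] at h2
      exact (mul_eq_zero.1 h2).resolve_left ha
  obtain ⟨k, hk, hke⟩ := h1
  exact Orth.act_injective g hke ▸ hk

/-- `W` is spanned by singular vectors. -/
theorem W_span (K : Submodule F Vec) (hK : ∀ y ∈ (f).W, Q y = 0 → y ∈ K) :
    ∀ x ∈ (f).W, x ∈ K := by
  intro x hx
  have hu : (f).u' ∈ K := hK _ (u'_mem_W _) (f).p'.hu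
  have hv : (f).v' ∈ K := hK _ (v'_mem_W _) (f).p'.hv
  rw [proj_add (Q := Q) (f).u' (f).v' x]
  refine K.add_mem (K.add_mem (K.smul_mem _ hu) (K.smul_mem _ hv)) ?_
  refine perp_span_u' S K (fun y hy hqy _ => hK y hy hqy) _
    (proj_mem (u'_mem_W _) (v'_mem_W _) hx) ?_
  rw [QuadraticMap.polar_comm]
  exact (proj_perp (f).p' x).1

/-- A vector orthogonal to all singular vectors orthogonal to `z` is a multiple of `z`. -/
theorem mem_line {z y : Vec} (hz : z ∈ (f).W) (hqz : Q z = 0) (hz0 : z ≠ 0) (hy : y ∈ (f).W)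
    (h : ∀ x ∈ (f).W, Q x = 0 → B z x = 0 → B y x = 0) : ∃ a : F, y = a • z := by
  obtain ⟨s, hs, hzs⟩ : ∃ s ∈ (f).W, B z s ≠ 0 := by
    by_contra h'
    push Not at h'
    exact hz0 ((f).W_nondeg S.hQ z hz h')
  refine ⟨B y s / B z s, sub_eq_zero.1
    ((f).W_nondeg S.hQ _ ((f).W.sub_mem hy ((f).W.smul_mem _ hz)) fun t ht => ?_)⟩
  have h1 : t - (B z t / B z s) • s ∈ LinearMap.ker (polB Q y) := by
    refine perp_span S hz hqz hz0 _ (fun x hx hqx hzx => h x hx hqx hzx) _
      ((f).W.sub_mem ht ((f).W.smul_mem _ hs)) ?_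
    rw [QuadraticMap.polar_sub_right, QuadraticMap.polar_smul_right, smul_eq_mul,
      div_mul_cancel₀ _ hzs, sub_self]
  rw [LinearMap.mem_ker, polB_apply, QuadraticMap.polar_sub_right, QuadraticMap.polar_smul_right,
    smul_eq_mul] at h1
  rw [QuadraticMap.polar_sub_left, QuadraticMap.polar_smul_left, smul_eq_mul]
  field_simp at h1 ⊢
  linear_combination h1

/-- A function on singular vectors agreeing on independent orthogonal pairs is constant. -/
theorem const_of_orth {α : Sort*} (Φ : Vec → α)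
    (h : ∀ z ∈ (f).W, ∀ y ∈ (f).W, Q z = 0 → Q y = 0 → z ≠ 0 → y ≠ 0 → B z y = 0 →
      (∀ a : F, y ≠ a • z) → Φ z = Φ y) :
    ∀ y ∈ (f).W, Q y = 0 → y ≠ 0 → Φ y = Φ (f).u' := by
  intro y hy hqy hy0
  have hu := u'_mem_W (Q := Q) f
  have hu0 := (f).p'.ne_zero.1
  by_cases hB : B (f).u' y = 0
  · by_cases hind : ∀ a : F, y ≠ a • (f).u'
    · exact (h _ hu _ hy (f).p'.hu hqy hu0 hy0 hB hind).symm
    · push Not at hind
      obtain ⟨c, rfl⟩ := hind
      have h0 := S.p3.ne_zero.1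
      have hno : ∀ (d : F), d ≠ 0 → ∀ a : F, S.a3 ≠ a • (d • (f).u') := fun d _ a ha => by
        have h1 := S.p3.huv
        rw [ha, smul_smul, QuadraticMap.polar_smul_left, S.u'b, smul_zero] at h1
        exact zero_ne_one h1
      have hc : c ≠ 0 := fun h' => hy0 (by rw [h', zero_smul])
      rw [h _ hy _ (a3_mem S) hqy S.p3.hu hy0 h0
        (by rw [QuadraticMap.polar_smul_left, S.u'a, smul_zero]) (hno c hc)]
      exact (h _ hu _ (a3_mem S) (f).p'.hu S.p3.hu hu0 h0 S.u'a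
        (fun a => by simpa using hno 1 one_ne_zero a)).symm
  · set z := B S.a3 y • (f).u' - B (f).u' y • S.a3
    have hzW : z ∈ (f).W := (f).W.sub_mem ((f).W.smul_mem _ hu) ((f).W.smul_mem _ (a3_mem S))
    have hqz : Q z = 0 := by
      simp [z, Orth.map_sub', Orth.map_smul', QuadraticMap.polar_smul_left,
        QuadraticMap.polar_smul_right, (f).p'.hu, S.p3.hu, S.u'a]
    have hzu : B (f).u' z = 0 := by
      simp [z, QuadraticMap.polar_sub_right, QuadraticMap.polar_smul_right,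
        polar_self_zero (f).p'.hu, S.u'a]
    have hzy : B z y = 0 := by
      simp [z, QuadraticMap.polar_sub_left, QuadraticMap.polar_smul_left, mul_comm]
    have hzind : ∀ a : F, z ≠ a • (f).u' := fun a ha => hB (by
      have h1 := congrArg (fun x => B x S.b3) ha
      simpa [z, QuadraticMap.polar_sub_left, QuadraticMap.polar_smul_left, S.u'b, S.p3.huv] using h1)
    have hz0 : z ≠ 0 := fun h' => hzind 0 (by rw [h', zero_smul])
    have hyind : ∀ a : F, y ≠ a • z := fun a ha => hB (by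
      rw [ha, QuadraticMap.polar_smul_right, hzu, smul_zero])
    rw [← h z hzW y hy hqz hqy hz0 hy0 hzy hyind]
    exact (h _ hu _ hzW (f).p'.hu hqz hu0 hz0 hzu hzind).symm

/-! ### Points opposite `u` -/

/-- The vector opposite to `u` attached to `w ∈ W`. -/
def opp (w : Vec) : Vec := (f).v + w - Q w • (f).u

theorem opp_eq {w : Vec} (hw : w ∈ (f).W) :
    opp S w = act (eich (f).u w (f).p.hu ((f).mem_W.1 hw).1) (f).v :=
  (act_eich_v S.toBig hw).symm

theorem opp_ne {w : Vec} (hw : w ∈ (f).W) : opp S w ≠ 0 := by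
  rw [opp_eq S hw]; exact Orth.act_ne_zero _ (f).p.ne_zero.2

theorem opp_sing {w : Vec} (hw : w ∈ (f).W) : Q (opp S w) = 0 := by
  rw [opp_eq S hw, act_map]; exact (f).p.hv

/-- The point opposite `u` attached to `w`. -/
noncomputable def oppPt (w : ↥(f).W) : SPt Q := spt (opp S w) (opp_ne S w.2) (opp_sing S w.2)

theorem polar_u_opp {w : Vec} (hw : w ∈ (f).W) : B (f).u (opp S w) = 1 := by
  simp [opp, QuadraticMap.polar_sub_right, QuadraticMap.polar_add_right,
    QuadraticMap.polar_smul_right, (f).p.huv, ((f).mem_W.1 hw).1, polar_self_zero (f).p.hu]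

theorem polar_opp_opp {w w' : Vec} (hw : w ∈ (f).W) (hw' : w' ∈ (f).W) :
    B (opp S w) (opp S w') = -Q (w - w') := by
  obtain ⟨h1, h2⟩ := (f).mem_W.1 hw
  obtain ⟨h1', h2'⟩ := (f).mem_W.1 hw'
  simp only [opp, QuadraticMap.polar_sub_right, QuadraticMap.polar_add_right,
    QuadraticMap.polar_smul_right, QuadraticMap.polar_sub_left, QuadraticMap.polar_add_left,
    QuadraticMap.polar_smul_left, Orth.map_sub', polar_self_zero (f).p.hu, polar_self_zero (f).p.hv,
    (f).p.huv, (f).p.hvu, h1', h2', QuadraticMap.polar_comm _ w (f).u,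
    QuadraticMap.polar_comm _ w (f).v, h1, h2, smul_eq_mul]
  ring

theorem oppPt_injective : Function.Injective (oppPt S) := by
  intro w w' h
  obtain ⟨c, hc⟩ := spt_eq.1 h
  exact Subtype.ext (eich_orbit_injective S.toBig w.2 w'.2 hc)

theorem exists_oppPt {x : SPt Q} (h : ¬ sorth (pt0 S.toBig) x) : ∃ w, oppPt S w = x := by
  obtain ⟨a, ha, hqa, rfl⟩ := exists_spt x
  rw [pt0, sorth_spt] at h
  set c := B (f).u a
  refine ⟨⟨proj Q (f).u (f).v (c⁻¹ • a), proj_mem_W _ _⟩, spt_eq.2 ⟨c⁻¹, ?_⟩⟩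
  have e := proj_add (Q := Q) (f).u (f).v (c⁻¹ • a)
  have h1 : B (c⁻¹ • a) (f).u = 1 := by
    rw [QuadraticMap.polar_smul_left, QuadraticMap.polar_comm _ a]
    exact inv_mul_cancel₀ h
  rw [h1, one_smul] at e
  set w := proj Q (f).u (f).v (c⁻¹ • a)
  have hq := congrArg Q e
  have p1 : B (f).u w = 0 := by rw [QuadraticMap.polar_comm]; exact (proj_perp (f).p _).1
  have p2 : B (f).v w = 0 := by rw [QuadraticMap.polar_comm]; exact (proj_perp (f).p _).2
  simp [Orth.map_smul', map_add', hqa, (f).p.hu, (f).p.hv, QuadraticMap.polar_add_left,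
    QuadraticMap.polar_smul_left, QuadraticMap.polar_smul_right, (f).p.huv, p1, p2] at hq
  rw [show B (c⁻¹ • a) (f).v = -Q w by
    rw [QuadraticMap.polar_smul_left, smul_eq_mul]; linear_combination -hq] at e
  show c⁻¹ • a = opp S w
  rw [e, opp]
  module

theorem eich_smul_oppPt (w z : ↥(f).W) :
    (⟨eich (f).u w.1 (f).p.hu ((f).mem_W.1 w.2).1,
      eGroup_mem_omega S.hQ f (hn5 S.toBig) (eich_mem _ _ trivial trivial)⟩ : Ω) • oppPt S z =
      oppPt S (w + z) := by
  rw [oppPt, smul_spt]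
  refine spt_eq.2 ⟨1, ?_⟩
  rw [one_smul]
  show opp S (w.1 + z.1) = _
  rw [opp_eq S z.2, ← act_mul, eich_mul, opp_eq S ((f).W.add_mem w.2 z.2)]

/-- Points orthogonal to `u` are told apart by their relations with the opposite points. -/
theorem eq_of_opp_rel {x y : SPt Q} (hx : sorth (pt0 S.toBig) x) (hy : sorth (pt0 S.toBig) y)
    (hx0 : x ≠ pt0 S.toBig) (hy0 : y ≠ pt0 S.toBig)
    (h : ∀ w, sorth (oppPt S w) x ↔ sorth (oppPt S w) y) : x = y := by
  obtain ⟨a, ha, hqa, rfl⟩ := exists_spt x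
  obtain ⟨b, hb, hqb, rfl⟩ := exists_spt y
  rw [pt0, sorth_spt] at hx hy
  have hd : ∀ (a : Vec) (ha : a ≠ 0) (hqa : Q a = 0), B (f).u a = 0 →
      spt a ha hqa ≠ pt0 S.toBig →
      ∃ z ∈ (f).W, z ≠ 0 ∧ a = B a (f).v • (f).u + z ∧
        ∀ w : ↥(f).W, B (opp S w) a = B a (f).v + B w.1 z := by
    intro a ha hqa hua hne
    have e := proj_add (Q := Q) (f).u (f).v a
    rw [show B a (f).u = 0 by rw [QuadraticMap.polar_comm]; exact hua, zero_smul, add_zero] at e
    refine ⟨_, proj_mem_W _ a, fun h0 => hne (spt_eq.2 ⟨B a (f).v, ?_⟩), e, fun w => ?_⟩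
    · rw [h0, add_zero] at e
      exact e.symm
    · obtain ⟨h1, h2⟩ := (f).mem_W.1 w.2
      obtain ⟨h3, h4⟩ := (f).mem_W.1 (proj_mem_W f a)
      nth_rw 1 [e]
      simp only [opp, QuadraticMap.polar_sub_left, QuadraticMap.polar_add_left,
        QuadraticMap.polar_smul_left, QuadraticMap.polar_add_right, QuadraticMap.polar_smul_right,
        polar_self_zero (f).p.hu, (f).p.hvu, h3, h4, QuadraticMap.polar_comm _ w.1 (f).u, h1,
        smul_eq_mul]
      ring
  obtain ⟨z, hzW, hz0, hae, hz⟩ := hd a ha hqa hx hx0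
  obtain ⟨z', hz'W, hz'0, hbe, hz'⟩ := hd b hb hqb hy hy0
  have hrel : ∀ w : ↥(f).W, B a (f).v + B w.1 z = 0 ↔ B b (f).v + B w.1 z' = 0 := fun w => by
    rw [← hz, ← hz', ← sorth_spt (opp_ne S w.2) ha (opp_sing S w.2) hqa,
      ← sorth_spt (opp_ne S w.2) hb (opp_sing S w.2) hqb]
    exact h w
  obtain ⟨s, hsW, hzs⟩ : ∃ s ∈ (f).W, B z s ≠ 0 := by
    by_contra h'; push Not at h'
    exact hz0 ((f).W_nondeg S.hQ z hzW h')
  set w0 : Vec := (-B a (f).v / B z s) • s
  have hw0 : w0 ∈ (f).W := (f).W.smul_mem _ hsW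
  have e0 : B a (f).v + B w0 z = 0 := by
    rw [QuadraticMap.polar_smul_left, QuadraticMap.polar_comm _ s z, smul_eq_mul,
      div_mul_cancel₀ _ hzs, add_neg_cancel]
  have e0' := (hrel ⟨w0, hw0⟩).1 e0
  have hk : ∀ k ∈ (f).W, B k z = 0 → B k z' = 0 := fun k hk hkz => by
    have h1 := (hrel ⟨w0 + k, (f).W.add_mem hw0 hk⟩).1 (by
      rw [QuadraticMap.polar_add_left, hkz, add_zero, e0])
    rw [QuadraticMap.polar_add_left] at h1
    linear_combination h1 - e0'
  set d := B s z' / B s z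
  have hsz : B s z ≠ 0 := by rw [QuadraticMap.polar_comm]; exact hzs
  have he : z' = d • z := by
    refine sub_eq_zero.1 ((f).W_nondeg S.hQ _ ((f).W.sub_mem hz'W ((f).W.smul_mem _ hzW))
      fun t ht => ?_)
    have h1 := hk (t - (B t z / B s z) • s) ((f).W.sub_mem ht ((f).W.smul_mem _ hsW)) (by
      rw [QuadraticMap.polar_sub_left, QuadraticMap.polar_smul_left, smul_eq_mul,
        div_mul_cancel₀ _ hsz, sub_self])
    rw [QuadraticMap.polar_sub_left, QuadraticMap.polar_smul_left, smul_eq_mul] at h1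
    rw [QuadraticMap.polar_comm, QuadraticMap.polar_sub_right, QuadraticMap.polar_smul_right,
      smul_eq_mul]
    field_simp at h1 ⊢
    simp only [d]
    field_simp
    linear_combination h1
  have hd0 : d ≠ 0 := fun h0 => hz'0 (by rw [he, h0, zero_smul])
  refine (spt_eq.2 ⟨d, ?_⟩).symm
  rw [hae, hbe, smul_add, smul_smul, ← he]
  congr 2
  rw [he, QuadraticMap.polar_smul_right, smul_eq_mul] at e0'
  linear_combination d * e0 - e0'

/-! ### The semilinear map -/

theorem exists_semilinear (φ : ↥(f).W → ↥(f).W) (hφ : Function.Bijective φ)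
    (hadd : ∀ w z, φ (w + z) = φ w + φ z)
    (hq : ∀ z, Q (φ z).1 = 0 ↔ Q z.1 = 0) :
    ∃ (σ : F ≃+* F) (c : F), c ≠ 0 ∧ (∀ (t : F) (z : ↥(f).W), φ (t • z) = σ t • φ z) ∧
      ∀ z : ↥(f).W, Q (φ z).1 = c * σ (Q z.1) := by
  classical
  let φh : ↥(f).W →+ ↥(f).W := AddMonoidHom.mk' φ hadd
  have hφ0 : φ 0 = 0 := map_zero φh
  have hφne : ∀ z, z ≠ 0 → φ z ≠ 0 := fun z hz h => hz (hφ.1 (h.trans hφ0.symm))
  have horth : ∀ z y : ↥(f).W, Q z.1 = 0 → Q y.1 = 0 →
      (B (φ z).1 (φ y).1 = 0 ↔ B z.1 y.1 = 0) := by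
    intro z y hz hy
    have h1 := hq (z + y)
    rw [hadd, Submodule.coe_add, Submodule.coe_add, map_add', map_add', (hq z).2 hz, (hq y).2 hy,
      hz, hy] at h1
    simpa using h1
  -- lines go to lines
  have hline : ∀ (z : ↥(f).W) (t : F), Q z.1 = 0 → z ≠ 0 → ∃ s : F, φ (t • z) = s • φ z := by
    intro z t hz hz0
    refine (mem_line S (φ z).2 ((hq z).2 hz) (fun h => hφne z hz0 (Subtype.ext h))
      (φ (t • z)).2 (fun x hx hqx hzx => ?_)).imp fun s hs => Subtype.ext hs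
    · obtain ⟨y, hy⟩ := hφ.2 ⟨x, hx⟩
      have hqy : Q y.1 = 0 := (hq y).1 (by rw [hy]; exact hqx)
      have hxe : (φ y).1 = x := congrArg Subtype.val hy
      rw [← hxe] at hzx ⊢
      have hqt : Q (t • z).1 = 0 := by
        rw [Submodule.coe_smul, Orth.map_smul', hz, mul_zero]
      rw [horth _ _ hqt hqy, Submodule.coe_smul, QuadraticMap.polar_smul_left,
        (horth _ _ hz hqy).1 hzx, smul_zero]
  have hline' : ∀ (z : ↥(f).W) (t : F), ∃ s : F, Q z.1 = 0 → z ≠ 0 → φ (t • z) = s • φ z := by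
    intro z t
    by_cases h : Q z.1 = 0 ∧ z ≠ 0
    · obtain ⟨s, hs⟩ := hline z t h.1 h.2
      exact ⟨s, fun _ _ => hs⟩
    · exact ⟨0, fun h1 h2 => absurd ⟨h1, h2⟩ h⟩
  choose σz hσz using hline'
  let Φ : Vec → (F → F) := fun x => if hx : x ∈ (f).W then σz ⟨x, hx⟩ else fun _ => 0
  have hΦ : ∀ z : ↥(f).W, Φ z.1 = σz z := fun z => by simp [Φ, z.2]
  have hsame : ∀ z y : ↥(f).W, Q z.1 = 0 → Q y.1 = 0 → z ≠ 0 → y ≠ 0 → B z.1 y.1 = 0 →
      (∀ a : F, y.1 ≠ a • z.1) → σz z = σz y := by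
    intro z y hz hy hz0 hy0 hzy hind
    funext t
    have hsum : Q (z + y).1 = 0 := by rw [Submodule.coe_add, map_add', hz, hy, hzy]; simp
    have hsum0 : z + y ≠ 0 := fun h => hind (-1) (by
      have h1 := congrArg Subtype.val h
      simp at h1
      rw [neg_one_smul]
      exact eq_neg_of_add_eq_zero_right h1)
    have e1 := hσz (z + y) t hsum hsum0
    rw [smul_add, hadd, hadd, hσz z t hz hz0, hσz y t hy hy0, smul_add] at e1
    have h2 : (σz z t - σz (z + y) t) • φ z = (σz (z + y) t - σz y t) • φ y := by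
      linear_combination (norm := module) e1
    by_cases hc : σz (z + y) t - σz y t = 0
    · rw [hc, zero_smul] at h2
      have := (smul_eq_zero.1 h2).resolve_right (hφne z hz0)
      linear_combination this + hc
    · exfalso
      obtain ⟨r, hr⟩ : ∃ r : F, φ y = r • φ z :=
        ⟨(σz (z + y) t - σz y t)⁻¹ * (σz z t - σz (z + y) t), by
          rw [mul_smul, h2, smul_smul, inv_mul_cancel₀ hc, one_smul]⟩
      -- so `y` is on the line of `z`
      obtain ⟨a, ha⟩ := mem_line S z.2 hz (fun h => hz0 (Subtype.ext h)) y.2 (fun x hx hqx hzx => by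
        have h3 := (horth z ⟨x, hx⟩ hz hqx).2 hzx
        refine (horth y ⟨x, hx⟩ hy hqx).1 ?_
        rw [hr, Submodule.coe_smul, QuadraticMap.polar_smul_left, h3, smul_zero])
      exact hind a ha
  have hu'W := u'_mem_W (Q := Q) f
  set z1 : ↥(f).W := ⟨(f).u', hu'W⟩
  have hz1 : z1 ≠ 0 := fun h => (f).p'.ne_zero.1 (congrArg Subtype.val h)
  have hconst : ∀ y : ↥(f).W, Q y.1 = 0 → y ≠ 0 → σz y = σz z1 := by
    intro y hy hy0
    have h := const_of_orth S Φ (fun z hz w hw hqz hqw hz0 hw0 hzw hind => by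
      show Φ (⟨z, hz⟩ : ↥(f).W).1 = Φ (⟨w, hw⟩ : ↥(f).W).1
      rw [hΦ, hΦ]
      exact hsame _ _ hqz hqw (fun h => hz0 (congrArg Subtype.val h))
        (fun h => hw0 (congrArg Subtype.val h)) hzw hind) y.1 y.2 hy (fun h => hy0 (Subtype.ext h))
    rw [hΦ] at h
    rwa [show Φ (f).u' = σz z1 from hΦ z1] at h
  set τ := σz z1
  have hτ : ∀ (z : ↥(f).W) (t : F), Q z.1 = 0 → φ (t • z) = τ t • φ z := by
    intro z t hz
    by_cases hz0 : z = 0
    · rw [hz0, smul_zero, hφ0, smul_zero]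
    · rw [hσz z t hz hz0, hconst z hz hz0]
  have hz1q : Q z1.1 = 0 := (f).p'.hu
  have hcancel : ∀ {r s : F}, r • φ z1 = s • φ z1 → r = s := fun {r s} h =>
    sub_eq_zero.1 ((smul_eq_zero.1 (show (r - s) • φ z1 = 0 from (sub_smul r s (φ z1)).trans (by rw [h, sub_self]))).resolve_right
      (hφne z1 hz1))
  have τ1 : τ 1 = 1 := hcancel (by rw [← hτ z1 1 hz1q, one_smul, one_smul])
  have τ0 : τ 0 = 0 := hcancel (by rw [← hτ z1 0 hz1q, zero_smul, zero_smul, hφ0])
  have τadd : ∀ s t, τ (s + t) = τ s + τ t := fun s t => hcancel (by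
    rw [← hτ z1 _ hz1q, add_smul, hadd, hτ z1 s hz1q, hτ z1 t hz1q, add_smul])
  have τmul : ∀ s t, τ (s * t) = τ s * τ t := fun s t => hcancel (by
    rw [← hτ z1 _ hz1q, mul_smul, hτ (t • z1) s (by rw [Submodule.coe_smul, Orth.map_smul', hz1q,
      mul_zero]), hτ z1 t hz1q, smul_smul])
  let τh : F →+* F := { toFun := τ, map_one' := τ1, map_zero' := τ0, map_add' := τadd, map_mul' := τmul }
  let σ : F ≃+* F := RingEquiv.ofBijective τh
    (Finite.injective_iff_bijective.1 τh.injective)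
  have hσ : ∀ t, σ t = τ t := fun _ => rfl
  -- semilinearity
  have hsemi : ∀ (z : ↥(f).W) (t : F), φ (t • z) = σ t • φ z := by
    let K : Submodule F Vec :=
      { carrier := {x | ∃ hx : x ∈ (f).W, ∀ t : F, φ (t • ⟨x, hx⟩) = σ t • φ ⟨x, hx⟩}
        zero_mem' := ⟨(f).W.zero_mem, fun t => by
          rw [show (⟨0, (f).W.zero_mem⟩ : ↥(f).W) = 0 from rfl, smul_zero, hφ0, smul_zero]⟩
        add_mem' := fun {x y} hx hy => by
          obtain ⟨hx, ex⟩ := hx
          obtain ⟨hy, ey⟩ := hy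
          refine ⟨(f).W.add_mem hx hy, fun t => ?_⟩
          rw [show (⟨x + y, (f).W.add_mem hx hy⟩ : ↥(f).W) = ⟨x, hx⟩ + ⟨y, hy⟩ from rfl, smul_add,
            hadd, hadd, ex, ey, smul_add]
        smul_mem' := fun a x hx => by
          obtain ⟨hx, ex⟩ := hx
          refine ⟨(f).W.smul_mem a hx, fun t => ?_⟩
          rw [show (⟨a • x, (f).W.smul_mem a hx⟩ : ↥(f).W) = a • ⟨x, hx⟩ from rfl, smul_smul, ex,
            ex a, smul_smul, map_mul] }
    intro z t
    obtain ⟨_, h⟩ := W_span S K (fun y hy hqy => ⟨hy, fun t => by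
      rw [hτ _ t hqy, hσ]⟩) z.1 z.2
    exact h t
  -- the multiplier
  have hcy : ∀ y : ↥(f).W, ∃ c : F, Q y.1 = 0 → y ≠ 0 →
      ∀ x : ↥(f).W, B (φ x).1 (φ y).1 = c * σ (B x.1 y.1) := by
    intro y
    by_cases h : Q y.1 = 0 ∧ y ≠ 0
    swap
    · exact ⟨0, fun h1 h2 => absurd ⟨h1, h2⟩ h⟩
    obtain ⟨hy, hy0⟩ := h
    obtain ⟨s0, hs0, hys⟩ : ∃ s ∈ (f).W, B y.1 s ≠ 0 := by
      by_contra h'; push Not at h'
      exact hy0 (Subtype.ext ((f).W_nondeg S.hQ y.1 y.2 h'))
    set s : ↥(f).W := (B y.1 s0)⁻¹ • ⟨s0, hs0⟩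
    have hsy : B s.1 y.1 = 1 := by
      rw [Submodule.coe_smul, QuadraticMap.polar_smul_left, QuadraticMap.polar_comm _ s0,
        smul_eq_mul, inv_mul_cancel₀ hys]
    refine ⟨B (φ s).1 (φ y).1, fun _ _ x => ?_⟩
    let K : Submodule F Vec :=
      { carrier := {x | ∃ hx : x ∈ (f).W, B (φ ⟨x, hx⟩).1 (φ y).1 = 0}
        zero_mem' := ⟨(f).W.zero_mem, by
          rw [show (⟨0, (f).W.zero_mem⟩ : ↥(f).W) = 0 from rfl, hφ0]; simp⟩
        add_mem' := fun {x z} hx hz => by
          obtain ⟨hx, ex⟩ := hx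
          obtain ⟨hz, ez⟩ := hz
          refine ⟨(f).W.add_mem hx hz, ?_⟩
          rw [show (⟨x + z, (f).W.add_mem hx hz⟩ : ↥(f).W) = ⟨x, hx⟩ + ⟨z, hz⟩ from rfl, hadd,
            Submodule.coe_add, QuadraticMap.polar_add_left, ex, ez, add_zero]
        smul_mem' := fun a x hx => by
          obtain ⟨hx, ex⟩ := hx
          refine ⟨(f).W.smul_mem a hx, ?_⟩
          rw [show (⟨a • x, (f).W.smul_mem a hx⟩ : ↥(f).W) = a • ⟨x, hx⟩ from rfl, hsemi,
            Submodule.coe_smul, QuadraticMap.polar_smul_left, ex, smul_zero] }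
    set x' : ↥(f).W := x - B x.1 y.1 • s
    obtain ⟨_, h0⟩ := perp_span S y.2 hy (fun h => hy0 (Subtype.ext h)) K (fun z hz hqz hyz =>
      ⟨hz, by rw [horth _ _ hqz hy, QuadraticMap.polar_comm]; exact hyz⟩) x'.1 x'.2 (by
      rw [QuadraticMap.polar_comm]
      show B (x.1 - B x.1 y.1 • s.1) y.1 = 0
      rw [QuadraticMap.polar_sub_left, QuadraticMap.polar_smul_left, hsy, smul_eq_mul, mul_one,
        sub_self])
    have h1 : φ x = φ x' + σ (B x.1 y.1) • φ s := by
      rw [← hsemi, ← hadd, sub_add_cancel]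
    rw [h1, Submodule.coe_add, Submodule.coe_smul, QuadraticMap.polar_add_left,
      QuadraticMap.polar_smul_left, show B (φ x').1 (φ y).1 = 0 from h0, smul_eq_mul, zero_add,
      mul_comm]
  choose C hC using hcy
  let CΦ : Vec → F := fun x => if hx : x ∈ (f).W then C ⟨x, hx⟩ else 0
  have hCΦ : ∀ z : ↥(f).W, CΦ z.1 = C z := fun z => by simp [CΦ, z.2]
  have hCconst : ∀ y : ↥(f).W, Q y.1 = 0 → y ≠ 0 → C y = C z1 := by
    intro y hy hy0
    have key : ∀ z w : ↥(f).W, Q z.1 = 0 → Q w.1 = 0 → z ≠ 0 → w ≠ 0 → B z.1 w.1 = 0 →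
        (∀ a : F, w.1 ≠ a • z.1) → C (z + w) = C w := by
      intro z w hz hw hz0 hw0 hzw hind
      have hsum : Q (z + w).1 = 0 := by rw [Submodule.coe_add, map_add', hz, hw, hzw]; simp
      have hsum0 : z + w ≠ 0 := fun h => hind (-1) (by
        have h1 := congrArg Subtype.val h
        simp at h1
        rw [neg_one_smul]
        exact eq_neg_of_add_eq_zero_right h1)
      obtain ⟨x, hx, hxz, hxw⟩ : ∃ x ∈ (f).W, B z.1 x = 0 ∧ B w.1 x ≠ 0 := by
        by_contra hcon
        push Not at hcon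
        obtain ⟨a, ha⟩ := mem_line S z.2 hz (fun h => hz0 (Subtype.ext h)) w.2
          (fun x hx _ hzx => hcon x hx hzx)
        exact hind a ha
      have e1 := hC (z + w) hsum hsum0 ⟨x, hx⟩
      rw [hadd, Submodule.coe_add, Submodule.coe_add, QuadraticMap.polar_add_right,
        QuadraticMap.polar_add_right, hC z hz hz0, hC w hw hw0,
        QuadraticMap.polar_comm _ x z.1, hxz, map_zero, mul_zero, zero_add, zero_add] at e1
      refine (mul_right_cancel₀ ?_ e1).symm
      rw [QuadraticMap.polar_comm _ x]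
      exact (map_ne_zero σ).2 hxw
    have h := const_of_orth S CΦ (fun z hz w hw hqz hqw hz0 hw0 hzw hind => by
      show CΦ (⟨z, hz⟩ : ↥(f).W).1 = CΦ (⟨w, hw⟩ : ↥(f).W).1
      rw [hCΦ, hCΦ]
      have k1 := key ⟨z, hz⟩ ⟨w, hw⟩ hqz hqw (fun h => hz0 (congrArg Subtype.val h))
        (fun h => hw0 (congrArg Subtype.val h)) hzw hind
      have k2 := key ⟨w, hw⟩ ⟨z, hz⟩ hqw hqz (fun h => hw0 (congrArg Subtype.val h))
        (fun h => hz0 (congrArg Subtype.val h)) (by rw [QuadraticMap.polar_comm]; exact hzw)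
        (fun a ha => by
          have ha' : z = a • w := ha
          by_cases h0 : a = 0
          · exact hz0 (by rw [ha', h0, zero_smul])
          · refine hind a⁻¹ ?_
            show w = a⁻¹ • z
            rw [ha', smul_smul, inv_mul_cancel₀ h0, one_smul])
      rw [← k1, add_comm, k2]) y.1 y.2 hy (fun h => hy0 (Subtype.ext h))
    rw [hCΦ] at h
    rwa [show CΦ (f).u' = C z1 from hCΦ z1] at h
  set c := C z1
  have hpol : ∀ x y : ↥(f).W, B (φ x).1 (φ y).1 = c * σ (B x.1 y.1) := by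
    intro x y
    let K : Submodule F Vec :=
      { carrier := {z | ∃ hz : z ∈ (f).W, B (φ x).1 (φ ⟨z, hz⟩).1 = c * σ (B x.1 z)}
        zero_mem' := ⟨(f).W.zero_mem, by
          rw [show (⟨0, (f).W.zero_mem⟩ : ↥(f).W) = 0 from rfl, hφ0]; simp⟩
        add_mem' := fun {a b} ha hb => by
          obtain ⟨ha, ea⟩ := ha
          obtain ⟨hb, eb⟩ := hb
          refine ⟨(f).W.add_mem ha hb, ?_⟩
          rw [show (⟨a + b, (f).W.add_mem ha hb⟩ : ↥(f).W) = ⟨a, ha⟩ + ⟨b, hb⟩ from rfl, hadd,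
            Submodule.coe_add, QuadraticMap.polar_add_right, ea, eb, QuadraticMap.polar_add_right,
            map_add, mul_add]
        smul_mem' := fun r a ha => by
          obtain ⟨ha, ea⟩ := ha
          refine ⟨(f).W.smul_mem r ha, ?_⟩
          rw [show (⟨r • a, (f).W.smul_mem r ha⟩ : ↥(f).W) = r • ⟨a, ha⟩ from rfl, hsemi,
            Submodule.coe_smul, QuadraticMap.polar_smul_right, ea, QuadraticMap.polar_smul_right,
            smul_eq_mul, smul_eq_mul, map_mul]
          ring }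
    obtain ⟨_, h⟩ := W_span S K (fun z hz hqz => ⟨hz, by
      by_cases h0 : z = 0
      · subst h0
        rw [show (⟨0, hz⟩ : ↥(f).W) = 0 from rfl, hφ0]
        simp
      · have h0' : (⟨z, hz⟩ : ↥(f).W) ≠ 0 := fun h => h0 (congrArg Subtype.val h)
        rw [hC ⟨z, hz⟩ hqz h0' x, hCconst _ hqz h0']⟩) y.1 y.2
    exact h
  have hc0 : c ≠ 0 := by
    intro hc
    obtain ⟨x, hx⟩ := hφ.2 ⟨(f).u', hu'W⟩
    obtain ⟨y, hy⟩ := hφ.2 ⟨(f).v', v'_mem_W f⟩
    have h1 := hpol x y
    rw [hx, hy, hc, zero_mul] at h1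
    exact one_ne_zero ((f).p'.huv.symm.trans h1)
  refine ⟨σ, c, hc0, fun t z => hsemi z t, fun z => ?_⟩
  let K : Submodule F Vec :=
    { carrier := {y | ∃ hy : y ∈ (f).W, Q (φ ⟨y, hy⟩).1 = c * σ (Q y)}
      zero_mem' := ⟨(f).W.zero_mem, by
        rw [show (⟨0, (f).W.zero_mem⟩ : ↥(f).W) = 0 from rfl, hφ0]; simp⟩
      add_mem' := fun {a b} ha hb => by
        obtain ⟨ha, ea⟩ := ha
        obtain ⟨hb, eb⟩ := hb
        refine ⟨(f).W.add_mem ha hb, ?_⟩
        rw [show (⟨a + b, (f).W.add_mem ha hb⟩ : ↥(f).W) = ⟨a, ha⟩ + ⟨b, hb⟩ from rfl, hadd,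
          Submodule.coe_add, map_add', ea, eb, hpol, map_add', map_add, map_add]
        ring
      smul_mem' := fun r a ha => by
        obtain ⟨ha, ea⟩ := ha
        refine ⟨(f).W.smul_mem r ha, ?_⟩
        rw [show (⟨r • a, (f).W.smul_mem r ha⟩ : ↥(f).W) = r • ⟨a, ha⟩ from rfl, hsemi,
          Submodule.coe_smul, Orth.map_smul', ea, Orth.map_smul', map_mul, map_mul]
        ring }
  obtain ⟨_, h⟩ := W_span S K (fun y hy hqy => ⟨hy, by
    rw [(hq ⟨y, hy⟩).2 hqy, hqy, map_zero, mul_zero]⟩) z.1 z.2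
  exact h

/-! ### The theorem -/

/-- Every automorphism of `PΩ` is induced by a semisimilarity. -/
theorem exists_semisimilarity (p : ℕ) [Fact p.Prime] [CharP F p]
    (β : MulAut (Cfsg.POmega F ⇑Q)) :
    ∃ (g : GL ι F) (σ : F ≃+* F), Cfsg.IsSemisimilarityPair ⇑Q g σ ∧
      Cfsg.IsInducedBySemilinearPOmega ⇑Q g σ β := by
  classical
  have := omega_isPretransitive S.hQ f (hn5 S.toBig)
  obtain ⟨π, hπe, hπo⟩ := exists_perm S.toBig p β
  set v0 : SPt Q := spt (f).v (f).p.ne_zero.2 (f).p.hv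
  have hpv : ¬ sorth (pt0 S.toBig) v0 := fun h => by
    rw [pt0, sorth_spt, (f).p.huv] at h
    exact one_ne_zero h
  have hsmul : ∀ (g : Ω) (x y : SPt Q), sorth (g • x) (g • y) ↔ sorth x y := by
    intro g x y
    obtain ⟨a, ha, hqa, rfl⟩ := exists_spt x
    obtain ⟨b, hb, hqb, rfl⟩ := exists_spt y
    rw [smul_spt, smul_spt, sorth_spt, sorth_spt, act_polar]
  have hself : ∀ x : SPt Q, sorth x x := fun x => by
    obtain ⟨a, ha, hqa, rfl⟩ := exists_spt x
    rw [sorth_spt]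
    exact polar_self_zero hqa
  obtain ⟨h, hh0, hhv⟩ : ∃ h : Ω, h • π (pt0 S.toBig) = pt0 S.toBig ∧ h • π v0 = v0 := by
    obtain ⟨h₁, hh₁⟩ := MulAction.exists_smul_eq Ω (π (pt0 S.toBig)) (pt0 S.toBig)
    have hno : ¬ sorth (pt0 S.toBig) (h₁ • π v0) := fun h => hpv (by
      rw [← hh₁, hsmul] at h
      exact (hπo _ _).1 h)
    obtain ⟨k, hk, hkv⟩ := exists_stab S.hQ f (hn5 S.toBig) (pt0 S.toBig) (h₁ • π v0) v0
      (fun h => hno (h ▸ hself _)) (fun h => hpv (h ▸ hself _)) (iff_of_false hno hpv)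
    exact ⟨k * h₁, by rw [mul_smul, hh₁, hk], by rw [mul_smul, hkv]⟩
  set P : SPt Q → SPt Q := fun x => h • π x
  have hPinj : Function.Injective P := fun a b e => π.injective (MulAction.injective h e)
  have hPsurj : Function.Surjective P := fun y => ⟨π.symm (h⁻¹ • y), by simp [P]⟩
  have hPo : ∀ x y, sorth (P x) (P y) ↔ sorth x y := fun x y => by rw [hsmul, hπo]
  have hPe : ∀ (g g' : Ω) (x : SPt Q), qP Q g' = β (qP Q g) →
      P (g • x) = (h * g' * h⁻¹) • P x := fun g g' x hg => by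
    simp only [P, hπe g g' x hg, mul_smul, inv_smul_smul]
  -- the map on opposite points
  have hφex : ∀ w : ↥(f).W, ∃ w', oppPt S w' = P (oppPt S w) := fun w =>
    exists_oppPt S (fun h1 => by
      rw [← hh0] at h1
      have h2 := (hPo (pt0 S.toBig) (oppPt S w)).1 h1
      rw [pt0, oppPt, sorth_spt, polar_u_opp S w.2] at h2
      exact one_ne_zero h2)
  choose φ hφ using hφex
  have hφbij : Function.Bijective φ := by
    refine Finite.injective_iff_bijective.1 fun a b e => oppPt_injective S (hPinj ?_)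
    rw [← hφ, ← hφ, e]
  have hzero : φ 0 = 0 := by
    refine oppPt_injective S ?_
    have e : oppPt S 0 = v0 := spt_eq.2 ⟨1, by simp [opp]⟩
    rw [hφ, e]
    exact hhv
  -- translations go to translations
  obtain ⟨N, hNp, hNle, hNn, -, hNl⟩ := lift_pgroup (qP Q) (QuotientGroup.mk'_surjective _)
      (QuotientGroup.ker_mk' _).le p (card_center_coprime S.toBig p)
      (MulAut.conj (qP Q h) * β) (MulAction.stabilizer Ω (pt0 S.toBig)) (E0 S.toBig)
      (E0_pgroup S.toBig p) (E0_le S.toBig) (E0_norm S.toBig)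
  have hA : (((MulAction.stabilizer Ω (pt0 S.toBig)).map (qP Q)).map
      (MulAut.conj (qP Q h) * β).toMonoidHom).comap (qP Q) =
      MulAction.stabilizer Ω (pt0 S.toBig) := by
    have hstab : ((MulAction.stabilizer Ω (pt0 S.toBig)).map (qP Q)).map β.toMonoidHom =
        PS (π (pt0 S.toBig)) := by
      obtain ⟨y, hy⟩ := exists_PS_image S.toBig p β (pt0 S.toBig)
      show (PS (pt0 S.toBig)).map β.toMonoidHom = _
      rw [hy]
      congr 1
      refine stab_injective S.toBig ?_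
      ext g
      obtain ⟨g0, hg0⟩ := QuotientGroup.mk'_surjective _ (β.symm (qP Q g))
      have hg : qP Q g = β (qP Q g0) := by rw [hg0, β.apply_symm_apply]
      rw [← comap_PS S.toBig y, Subgroup.mem_comap, ← hy, hg, Subgroup.mem_map]
      constructor
      · rintro ⟨z, hz, hze⟩
        rw [show z = qP Q g0 from β.injective hze] at hz
        have hz' : g0 ∈ (PS (pt0 S.toBig)).comap (qP Q) := hz
        rw [comap_PS S.toBig] at hz'
        show g • π (pt0 S.toBig) = π (pt0 S.toBig)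
        rw [← hπe g0 g _ hg, show g0 • pt0 S.toBig = pt0 S.toBig from hz']
      · intro hz
        refine ⟨qP Q g0, ?_, rfl⟩
        refine Subgroup.mem_map_of_mem _ ?_
        show g0 • pt0 S.toBig = pt0 S.toBig
        apply π.injective
        rw [hπe g0 g _ hg]
        exact hz
    rw [show (MulAut.conj (qP Q h) * β).toMonoidHom =
      (MulAut.conj (qP Q h)).toMonoidHom.comp β.toMonoidHom from rfl, ← Subgroup.map_map, hstab,
      ← PS_smul S.toBig, hh0, comap_PS S.toBig]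
  rw [hA] at hNle hNn
  have hNE := (card_normal_le S.toBig p N hNp hNle hNn).1
  have hadd : ∀ w z, φ (w + z) = φ w + φ z := by
    intro w
    set e : Ω := ⟨eich (f).u w.1 (f).p.hu ((f).mem_W.1 w.2).1,
      eGroup_mem_omega S.hQ f (hn5 S.toBig) (eich_mem _ _ trivial trivial)⟩ with he
    obtain ⟨n, hn, hne⟩ := hNl e (eich_mem_E0 S.toBig ((f).mem_W.1 w.2).1)
    obtain ⟨e', he'⟩ := QuotientGroup.mk'_surjective _ (β (qP Q e))
    set a : ↥(f).W := ⟨proj Q (f).u (f).v (act n.1 (f).v), proj_mem_W _ _⟩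
    have hna : n = ⟨eich (f).u a.1 (f).p.hu ((f).mem_W.1 a.2).1,
        eGroup_mem_omega S.hQ f (hn5 S.toBig) (eich_mem _ _ trivial trivial)⟩ := by
      refine Subtype.ext (NR_injective f (hNE hn) (eich_mem_E0 S.toBig ((f).mem_W.1 a.2).1) ?_)
      show a.1 = proj Q (f).u (f).v (act (eich (f).u a.1 (f).p.hu ((f).mem_W.1 a.2).1) (f).v)
      rw [act_eich_v S.toBig a.2]
      obtain ⟨h1, h2⟩ := (f).mem_W.1 a.2
      simp [proj, QuadraticMap.polar_sub_left, QuadraticMap.polar_add_left,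
        QuadraticMap.polar_smul_left, (f).p.huv, (f).p.hvu, polar_self_zero (f).p.hu,
        polar_self_zero (f).p.hv, QuadraticMap.polar_comm _ a.1 (f).u, h1,
        QuadraticMap.polar_comm _ a.1 (f).v, h2]
    have hact : ∀ z : ↥(f).W, φ (w + z) = a + φ z := by
      intro z
      refine oppPt_injective S ?_
      rw [hφ, ← eich_smul_oppPt S w z, ← he, hPe e e' _ he', ← eich_smul_oppPt S a (φ z), ← hna, hφ]
      have hz : (h * e' * h⁻¹)⁻¹ * n ∈ Subgroup.center Ω := by
        rw [← QuotientGroup.ker_mk' (Subgroup.center Ω), MonoidHom.mem_ker]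
        simp only [map_mul, map_inv]
        rw [hne, MulAut.mul_apply, MulAut.conj_apply, ← he']
        group
      calc (h * e' * h⁻¹) • P (oppPt S z)
          = (h * e' * h⁻¹) • (((h * e' * h⁻¹)⁻¹ * n) • P (oppPt S z)) := by
            rw [fixes_of_central S.hQ f (hn5 S.toBig) hz]
        _ = n • P (oppPt S z) := by rw [← mul_smul, mul_inv_cancel_left]
    intro z
    have h0 := hact 0
    rw [add_zero, hzero, add_zero] at h0
    rw [hact z, h0]
  have hq : ∀ z, Q (φ z).1 = 0 ↔ Q z.1 = 0 := by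
    intro z
    have h1 := hPo (oppPt S z) (oppPt S 0)
    rw [← hφ, ← hφ, hzero, oppPt, oppPt, oppPt, sorth_spt, sorth_spt, polar_opp_opp S (φ z).2 (0 : ↥(f).W).2,
      polar_opp_opp S z.2 (0 : ↥(f).W).2] at h1
    simpa using h1
  obtain ⟨σ, c, hc, hsemi, hQφ⟩ := exists_semilinear S φ hφbij hadd hq
  -- the semilinear map on the whole space
  let pW : Vec → ↥(f).W := fun x => ⟨proj Q (f).u (f).v x, proj_mem_W _ _⟩
  let T : Vec → Vec := fun x =>
    (c * σ (B x (f).v)) • (f).u + σ (B x (f).u) • (f).v + (φ (pW x)).1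
  have hpW_add : ∀ x y, pW (x + y) = pW x + pW y := fun x y => Subtype.ext (by
    simp only [pW, proj, Submodule.coe_add, QuadraticMap.polar_add_left, add_smul]
    abel)
  have hpW_smul : ∀ (t : F) x, pW (t • x) = t • pW x := fun t x => Subtype.ext (by
    simp only [pW, proj, Submodule.coe_smul, QuadraticMap.polar_smul_left, smul_eq_mul, smul_sub,
      smul_smul])
  have hTadd : ∀ x y, T (x + y) = T x + T y := fun x y => by
    simp only [T, hpW_add, hadd, Submodule.coe_add, QuadraticMap.polar_add_left, map_add, mul_add,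
      add_smul]
    abel
  have hTsmul : ∀ (t : F) x, T (t • x) = σ t • T x := fun t x => by
    simp only [T, hpW_smul, hsemi, Submodule.coe_smul, QuadraticMap.polar_smul_left, smul_eq_mul,
      map_mul, smul_add, smul_smul]
    congr 2
    congr 1
    ring
  have hTQ : ∀ x, Q (T x) = c * σ (Q x) := by
    intro x
    have e := proj_add (Q := Q) (f).u (f).v x
    have h1 : ∀ (a b : F) (w : Vec), w ∈ (f).W →
        Q (a • (f).u + b • (f).v + w) = a * b + Q w := by
      intro a b w hw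
      obtain ⟨h1, h2⟩ := (f).mem_W.1 hw
      rw [map_add', pair_value (f).p, QuadraticMap.polar_add_left, QuadraticMap.polar_smul_left,
        QuadraticMap.polar_smul_left, h1, h2]
      simp
    conv_rhs => rw [e]
    rw [h1 _ _ _ (φ (pW x)).2, h1 _ _ _ (proj_mem_W _ x), hQφ, map_add, map_mul]
    ring
  have hTinj : ∀ x, T x = 0 → x = 0 := by
    intro x hx
    obtain ⟨h1, h2⟩ := (f).mem_W.1 (φ (pW x)).2
    have e1 := congrArg (fun y => B (f).u y) hx
    have e2 := congrArg (fun y => B (f).v y) hx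
    simp [T, QuadraticMap.polar_add_right, QuadraticMap.polar_smul_right,
      polar_self_zero (f).p.hu, (f).p.huv, h1] at e1
    simp [T, QuadraticMap.polar_add_right, QuadraticMap.polar_smul_right,
      polar_self_zero (f).p.hv, (f).p.hvu, h2, hc] at e2
    have e3 : φ (pW x) = 0 := Subtype.ext (by
      have := hx
      simp [T, e1, e2] at this
      simpa using this)
    have e4 : pW x = 0 := hφbij.1 (e3.trans hzero.symm)
    rw [proj_add (Q := Q) (f).u (f).v x, e1, e2, zero_smul, zero_smul, zero_add, zero_add]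
    exact congrArg Subtype.val e4
  let L : Vec →ₗ[F] Vec :=
    { toFun := fun x => T (fun i => σ.symm (x i))
      map_add' := fun x y => by
        rw [← hTadd]; congr 1; funext i; simp
      map_smul' := fun t x => by
        rw [RingHom.id_apply, show (fun i => σ.symm ((t • x) i)) = σ.symm t • fun i => σ.symm (x i) by
          funext i; simp, hTsmul, σ.apply_symm_apply] }
  have hLinj : Function.Injective L := by
    rw [← LinearMap.ker_eq_bot]
    refine LinearMap.ker_eq_bot'.2 fun x hx => ?_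
    have h1 := hTinj _ hx
    funext i
    simpa using congrFun h1 i
  have hdet : (LinearMap.toMatrix' L).det ≠ 0 := by
    intro h0
    obtain ⟨x, hx, hx'⟩ := Matrix.exists_mulVec_eq_zero_iff.2 h0
    rw [LinearMap.toMatrix'_mulVec] at hx'
    exact hx (hLinj (hx'.trans (map_zero L).symm))
  set G : GL ι F := Matrix.GeneralLinearGroup.mkOfDetNeZero _ hdet
  have hG : ∀ x : Vec, (G : Matrix ι ι F) *ᵥ (fun i => σ (x i)) = T x := fun x => by
    show LinearMap.toMatrix' L *ᵥ _ = _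
    rw [LinearMap.toMatrix'_mulVec]
    show T (fun i => σ.symm (σ (x i))) = _
    simp
  -- `P` is the point map of `T`
  have hTne : ∀ {x : Vec}, x ≠ 0 → T x ≠ 0 := fun hx h0 => hx (hTinj _ h0)
  have hTs : ∀ {x : Vec}, Q x = 0 → Q (T x) = 0 := fun hx => by rw [hTQ, hx, map_zero, mul_zero]
  have hTB : ∀ x y, B (T x) (T y) = c * σ (B x y) := fun x y => by
    simp only [QuadraticMap.polar, ← hTadd, hTQ, map_sub]
    ring
  have hPT : ∀ (x : Vec) (hx : x ≠ 0) (hq : Q x = 0),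
      P (spt x hx hq) = spt (T x) (hTne hx) (hTs hq) := by
    have hopp : ∀ w : ↥(f).W,
        P (oppPt S w) = spt (T (opp S w)) (hTne (opp_ne S w.2)) (hTs (opp_sing S w.2)) := by
      intro w
      rw [← hφ, oppPt]
      refine spt_eq.2 ⟨1, ?_⟩
      obtain ⟨h1, h2⟩ := (f).mem_W.1 w.2
      have e1 : B (opp S w) (f).v = -Q w.1 := by
        simp [opp, QuadraticMap.polar_sub_left, QuadraticMap.polar_add_left,
          QuadraticMap.polar_smul_left, polar_self_zero (f).p.hv, (f).p.huv,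
          QuadraticMap.polar_comm _ w.1 (f).v, h2]
      have e2 : B (opp S w) (f).u = 1 := by
        rw [QuadraticMap.polar_comm]; exact polar_u_opp S w.2
      have e3 : pW (opp S w) = w := Subtype.ext (by
        show proj Q _ _ _ = _
        rw [proj, e1, e2, opp]
        module)
      rw [one_smul]
      show T (opp S w) = opp S (φ w).1
      simp only [T, e1, e2, e3, map_one, map_neg]
      simp only [opp, hQφ]
      module
    intro x hx hq
    by_cases hux : B (f).u x = 0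
    swap
    · obtain ⟨w, hw⟩ := exists_oppPt S (x := spt x hx hq) (by rw [pt0, sorth_spt]; exact hux)
      rw [← hw, hopp]
      obtain ⟨a, ha⟩ := spt_eq.1 hw
      refine spt_eq.2 ⟨σ a, ?_⟩
      rw [← hTsmul, ha]
    by_cases hpu : spt x hx hq = pt0 S.toBig
    · rw [hpu]
      show h • π (pt0 S.toBig) = _
      rw [hh0]
      obtain ⟨a, ha⟩ := spt_eq.1 hpu
      have ha0 : a ≠ 0 := fun h0 => hx (by rw [← ha, h0, zero_smul])
      refine spt_eq.2 ⟨(σ a * c)⁻¹, ?_⟩
      have e : T x = (σ a * c) • (f).u := by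
        rw [← ha, hTsmul]
        have e3 : pW (f).u = 0 := Subtype.ext (by
          show proj Q _ _ _ = 0
          simp [proj, (f).p.huv, polar_self_zero (f).p.hu])
        simp [T, e3, hzero, (f).p.huv, polar_self_zero (f).p.hu, smul_smul]
      rw [e, smul_smul, inv_mul_cancel₀ (mul_ne_zero ((map_ne_zero σ).2 ha0) hc), one_smul]
    have hTu : T (f).u = c • (f).u := by
      have e3 : pW (f).u = 0 := Subtype.ext (by
        show proj Q _ _ _ = 0
        simp [proj, (f).p.huv, polar_self_zero (f).p.hu])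
      simp [T, e3, hzero, (f).p.huv, polar_self_zero (f).p.hu]
    have hBu : ∀ y, c * B (f).u (T y) = c * σ (B (f).u y) := fun y => by
      rw [← hTB, hTu, QuadraticMap.polar_smul_left, smul_eq_mul]
    refine eq_of_opp_rel S ?_ ?_ ?_ ?_ ?_
    · rw [← hh0, hPo, pt0, sorth_spt]; exact hux
    · rw [pt0, sorth_spt, mul_left_cancel₀ hc (hBu x), hux, map_zero]
    · intro he
      rw [← hh0] at he
      exact hpu (hPinj he)
    · intro he
      obtain ⟨a, ha⟩ := spt_eq.1 he
      apply hpu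
      refine spt_eq.2 ⟨σ.symm (a / c), ?_⟩
      have h5 : T (x - σ.symm (a / c) • (f).u) = 0 := by
        rw [sub_eq_add_neg, ← neg_smul, hTadd, hTsmul, hTu, map_neg, σ.apply_symm_apply, smul_smul,
          neg_mul, div_mul_cancel₀ _ hc, neg_smul, ha, add_neg_cancel]
      exact (sub_eq_zero.1 (hTinj _ h5)).symm
    · intro w
      obtain ⟨w0, rfl⟩ := hφbij.2 w
      have h1 := hPo (oppPt S w0) (spt x hx hq)
      rw [← hφ] at h1
      rw [h1, hφ, hopp, oppPt, sorth_spt, sorth_spt, hTB, mul_eq_zero, or_iff_right hc,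
        map_eq_zero]
  -- composition with `h`
  set g0 : GL ι F := ((h⁻¹ : Ω) : Iso).1 * G
  refine ⟨g0, σ, ⟨Units.mk0 c hc, fun x => ?_⟩, ?_⟩
  · rw [Units.val_mul, ← Matrix.mulVec_mulVec, hG, Units.val_mk0]
    exact (iso_mulVec _ _).trans (hTQ x)
  intro s s' hs
  -- compare `s'` with a lift of `β`
  obtain ⟨t, ht⟩ := QuotientGroup.mk'_surjective _ (β (qP Q s))
  show β (qP Q s) = qP Q s'
  rw [← ht]
  refine QuotientGroup.eq.2 ((Orth.mem_center_iff S.hQ f (hn5 S.toBig) _).2 ?_)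
  refine scalar_of_fixes S.hQ f _ fun y => ?_
  rw [mul_smul, inv_smul_eq_iff]
  -- both agree on the image of every point
  obtain ⟨x, rfl⟩ : ∃ x, π x = y := ⟨π.symm y, π.apply_symm_apply y⟩
  rw [← hπe s t x ht]
  obtain ⟨a, ha, hqa, rfl⟩ := exists_spt x
  have hπT : ∀ (a : Vec) (ha : a ≠ 0) (hqa : Q a = 0),
      π (spt a ha hqa) = h⁻¹ • spt (T a) (hTne ha) (hTs hqa) := fun a ha hqa => by
    rw [← hPT a ha hqa, inv_smul_smul]
  rw [hπT a ha hqa, smul_spt, smul_spt, smul_spt, hπT, smul_spt]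
  refine spt_eq.2 ⟨1, ?_⟩
  have eσ : (fun i => σ (((((s : Ω) : Iso) : GL ι F) : Matrix ι ι F).mulVec a i)) =
      ((((s : Ω) : Iso) : GL ι F) : Matrix ι ι F).map σ *ᵥ (fun i => σ (a i)) :=
    funext fun i => RingHom.map_mulVec σ.toRingHom _ a i
  have e2 : (((h⁻¹ : Ω) : Iso).1 : Matrix ι ι F) * (G : Matrix ι ι F) = (g0 : Matrix ι ι F) := rfl
  simp only [act_apply, one_smul, ← hG, Matrix.mulVec_mulVec]
  rw [eσ, Matrix.mulVec_mulVec]
  congr 1
  rw [hs, e2, Matrix.mul_assoc _ _ (g0 : Matrix ι ι F), g0.inv_mul, Matrix.mul_one]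

theorem gammaPOmega_eq_top (p : ℕ) [Fact p.Prime] [CharP F p] :
    Cfsg.gammaPOmega F ⇑Q = ⊤ :=
  eq_top_iff.2 fun β _ => by
    obtain ⟨g, σ, h1, h2⟩ := exists_semisimilarity S p β
    exact Subgroup.subset_closure ⟨g, σ, h1, h2⟩

end Cfsg.Agent.AutPOmega.Fundamental
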