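import Cfsg.Agent.Lib.AutPOmega.OuterBalance
import Cfsg.Agent.Lib.AutPSL.SplitClass

/-!
# Splitting of the classes of involutory graph automorphisms of `PΩ`

The class of an involution that exchanges the two classes of maximal singular subspaces splits in
two exactly when no inner-diagonal automorphism with non-square factor centralises it.
-/

set_option autoImplicit false
set_option linter.unusedSectionVars false
set_option linter.unusedVariables false
set_option maxHeartbeats 1600000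

namespace Cfsg.Agent.AutPOmega.GraphClasses

open Matrix Module Cfsg.Agent.Forms Cfsg.Agent.Forms.QuadStd Cfsg.Agent.Forms.Reflections
open Cfsg.Agent.Classical Cfsg.Agent.Classical.Orth Cfsg.Agent.Classical.OmegaCrit
open Cfsg.Agent.AutPOmega.Outer

universe u

variable {F : Type u} [Field F] {ι : Type} [Fintype ι] [DecidableEq ι]
variable {Q : QuadraticForm F (ι → F)}

/-- A similarity conjugates reflections to reflections. -/
theorem mul_reflect (g : GO Q) {v : ι → F} :
    g * ofIso Q (reflect Q v) = ofIso Q (reflect Q (mat g *ᵥ v)) * g := by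
  refine go_ext fun x => ?_
  rw [mat_mul, mat_mul, ← Matrix.mulVec_mulVec, ← Matrix.mulVec_mulVec, ofIso_mulVec, ofIso_mulVec,
    act_reflect, act_reflect, muC_spec, polar_mat, Matrix.mulVec_sub, Matrix.mulVec_smul, mul_inv]
  congr 2
  have := (muC g).ne_zero
  field_simp

theorem reflect_smul {v : ι → F} {a : F} (ha : a ≠ 0) : reflect Q (a • v) = reflect Q v := by
  refine Orth.act_ext fun x => ?_
  rw [act_reflect, act_reflect, QuadraticMap.polar_smul_left, Orth.map_smul', smul_smul, mul_inv,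
    smul_eq_mul]
  congr 2
  field_simp

theorem reflect_commute {v w : ι → F} (h : QuadraticMap.polar Q v w = 0) :
    reflect Q v * reflect Q w = reflect Q w * reflect Q v := by
  have h' : QuadraticMap.polar Q w v = 0 := (QuadraticMap.polar_comm _ w v).trans h
  refine Orth.act_ext fun x => ?_
  rw [act_mul, act_mul, act_reflect, act_reflect, act_reflect, act_reflect,
    QuadraticMap.polar_sub_right, QuadraticMap.polar_sub_right, QuadraticMap.polar_smul_right,
    QuadraticMap.polar_smul_right, h, h']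
  module

section model

variable [Fintype F] {g : GO Q} {P : Semi Q Q → Prop} {K : Type u} [Field K] [Fintype K]
  {W : Type u} [AddCommGroup W] [Module K W] {n : ℕ} (M' : Model Q g P K W)
  (b : Basis (Fin n) K W) (h2 : (2 : F) ≠ 0)

include b h2

theorem exists_orth (hn : 1 ≤ n) : ∃ e : Fin n → W,
    (∀ i, M'.β (e i) (e i) ≠ 0) ∧ ∀ i k, i ≠ k → M'.β (e i) (e k) = 0 := by
  set D := M'.data b h2
  have hD : ¬ AutPSL.ReflForm.IsAlt D := fun h => by
    have h1 : (1 : K) = -1 := (AutPSL.ReflForm.alt_facts D hn h).2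
    exact D.two (by linear_combination h1)
  obtain ⟨e, he, -⟩ := AutPSL.ReflForm.exists_ortho_basis D hD (k := 0) ![]
    ⟨fun i => i.elim0, fun i => i.elim0⟩ (Nat.zero_le n)
  refine ⟨fun i => b.equivFun.symm (e i), fun i => ?_, fun i k hik => ?_⟩
  · rw [← M'.data_form b h2]; exact he.1 i
  · rw [← M'.data_form b h2]; exact he.2 i k hik

theorem represent {u w : W} (hu : M'.β u u ≠ 0) (hw : M'.β w w ≠ 0) (huw : M'.β u w = 0) (c : K) :
    ∃ x y : K, M'.β (x • u + y • w) (x • u + y • w) = c := by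
  have hodd : Fintype.card K % 2 = 1 := by
    have := AutPSL.ReflForm.two_ne_char (M'.data b h2)
    rwa [Nat.card_eq_fintype_card, Nat.odd_iff] at this
  obtain ⟨x, y, hxy⟩ := FiniteField.exists_root_sum_quadratic
    (f := Polynomial.C (M'.β u u) * Polynomial.X ^ 2)
    (g := Polynomial.C (M'.β w w) * Polynomial.X ^ 2 - Polynomial.C c)
    (Polynomial.degree_C_mul_X_pow 2 hu) (by
      rw [Polynomial.degree_sub_C] <;> rw [Polynomial.degree_C_mul_X_pow 2 hw]
      · rfl
      · exact WithBot.coe_lt_coe.2 (by norm_num)) hodd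
  simp at hxy
  refine ⟨x, y, ?_⟩
  simp only [map_add, map_smul, LinearMap.add_apply, LinearMap.smul_apply, smul_eq_mul, huw,
    M'.symm w u]
  linear_combination hxy

end model

variable {M : ℕ} [Fintype F] (E : EvenSetup Q M) (h2 : (2 : F) ≠ 0)

include E h2

omit [Fintype F] in
/-- A singular subspace has dimension at most `M`. -/
theorem singular_le {R : Submodule F (ι → F)} (hR : ∀ r ∈ R, Q r = 0) : finrank F R ≤ M := by
  have hle : R ≤ (polB Q).orthogonal R := fun x hx => mem_orth.2 fun y hy => by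
    simp [QuadraticMap.polar, hR _ hx, hR _ hy, hR _ (add_mem hy hx)]
  have h1 := Submodule.finrank_mono hle
  rw [LinearMap.BilinForm.finrank_orthogonal (show (polB Q).Nondegenerate from E.hQ),
    Module.finrank_pi, E.hM] at h1
  omega

/-- Normal form of an outer involution with square multiplier. -/
theorem exists_normal {g : GO Q} {l : Fˣ} (hl : g * g = scal Q l) (hsq : IsSquare (l : F))
    (hcls : E.cls g = -1) :
    ∃ (a : Fˣ) (g' : GO Q), g = scal Q a * g' ∧ g' * g' = 1 ∧ (muC g' : F) = 1 ∧ E.cls g' = -1 := by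
  obtain ⟨s, hs⟩ := hsq
  have hs0 : s ≠ 0 := fun h => l.ne_zero (by rw [hs, h, mul_zero])
  set a := Units.mk0 s hs0
  set g' := scal Q a⁻¹ * g with hg'
  have hcls' : E.cls g' = -1 := by rw [map_mul, E.cls_scal, one_mul, hcls]
  have hgg : g' * g' = 1 := by
    have hu : a⁻¹ * a⁻¹ * l = 1 := Units.ext (by
      simp only [a, Units.val_mul, Units.val_inv_eq_inv_val, Units.val_mk0, Units.val_one, hs]
      field_simp)
    calc g' * g' = scal Q a⁻¹ * scal Q a⁻¹ * (g * g) := by
          rw [hg', mul_assoc, ← mul_assoc g, ← scal_comm]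
          simp only [mul_assoc]
      _ = 1 := by rw [hl, ← scal_mul, ← scal_mul, hu, scal_one]
  refine ⟨a, g', by rw [hg', ← mul_assoc, ← scal_mul, mul_inv_cancel, scal_one, one_mul], hgg,
    ?_, hcls'⟩
  have hμμ : (muC g' : F) * muC g' = 1 := mul_right_cancel₀ E.fr.hx (by
    rw [mul_assoc, ← muC_spec, ← muC_spec, g_g hgg, one_mul])
  rcases mul_self_eq_one_iff.1 hμμ with h | h
  · exact h
  exfalso
  have hz : ∀ s : F, (s = 1 ∨ s = -1) → ∀ v ∈ eig g' s, Q v = 0 := fun s hs v hv => by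
    have e := muC_spec g' v
    rw [mem_eig.1 hv, Orth.map_smul', h] at e
    have hss : s * s = 1 := by rcases hs with rfl | rfl <;> ring
    exact (mul_eq_zero.1 (show (2 : F) * Q v = 0 by linear_combination e - Q v * hss)).resolve_left h2
  have h1 := singular_le E h2 (hz 1 (Or.inl rfl))
  have h2' := singular_le E h2 (hz (-1) (Or.inr rfl))
  have h3 := Submodule.finrank_add_eq_of_isCompl (Outer.isCompl E h2 hgg)
  rw [Module.finrank_pi, E.hM] at h3
  refine det_neg_of_cls E h2 hcls' ?_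
  rw [det_eq E h2 hgg, h, show finrank F ↥(eig g' (-1)) = M by omega]

theorem eig_dims {g : GO Q} (hg : g * g = 1) (hμ : (muC g : F) = 1) (hcls : E.cls g = -1) :
    Odd (finrank F ↥(eig g 1)) ∧ Odd (finrank F ↥(eig g (-1))) ∧
      finrank F ↥(eig g 1) + finrank F ↥(eig g (-1)) = 2 * M := by
  have hdet := det_neg_of_cls E h2 hcls
  rw [hμ, one_pow, det_eq E h2 hg] at hdet
  have hsum : finrank F ↥(eig g 1) + finrank F ↥(eig g (-1)) = 2 * M := by
    rw [Submodule.finrank_add_eq_of_isCompl (Outer.isCompl E h2 hg), Module.finrank_pi, E.hM]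
  have hodd : Odd (finrank F ↥(eig g (-1))) := by
    rcases Nat.even_or_odd (finrank F ↥(eig g (-1))) with h | h
    · exact absurd h.neg_one_pow hdet
    · exact h
  refine ⟨?_, hodd, hsum⟩
  obtain ⟨l, hl⟩ := hodd
  exact ⟨M - l - 1, by omega⟩

/-- The involution centralises a rotation with non-trivial spinor norm. -/
theorem exists_rotation {g : GO Q} (hord : orderOf (gAut Q g) = 2) (hcls : E.cls g = -1) :
    ∃ h : Cfsg.isometryGroup F ⇑Q,
      ofIso Q h * g = g * ofIso Q h ∧ theta E.hQ E.hq h = (1, -1) := by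
  obtain ⟨l, hl⟩ := (gAut_eq_one_iff E.hQ E.fr E.hn5 (g * g)).1 (by
    rw [map_mul, ← sq, ← hord, pow_orderOf_eq_one])
  have hn := E.hn
  rw [E.hM] at hn
  have hθ : ∀ v w : ι → F, Q v ≠ 0 → Q w ≠ 0 → chi (Q v * Q w) = -1 →
      theta E.hQ E.hq (reflect Q v * reflect Q w) = (1, -1) := fun v w hv hw h => by
    rw [map_mul, theta_reflect E.hQ E.hq hv, theta_reflect E.hQ E.hq hw]
    refine Prod.ext ?_ ?_
    · show (-1 : ℤˣ) * -1 = 1
      decide
    show chi (Q v) * chi (Q w) = -1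
    rw [← chi_mul hv hw, h]
  by_cases hsq : IsSquare (l : F)
  · obtain ⟨a, g', rfl, hgg, hμ, hcls'⟩ := exists_normal E h2 hl hsq hcls
    obtain ⟨h1, h1', hsum⟩ := eig_dims E h2 hgg hμ hcls'
    obtain ⟨s, hs, h3⟩ : ∃ s : F, (s = 1 ∨ s = -1) ∧ 3 ≤ finrank F ↥(eig g' s) := by
      by_cases h : 3 ≤ finrank F ↥(eig g' 1)
      · exact ⟨1, Or.inl rfl, h⟩
      · exact ⟨-1, Or.inr rfl, by omega⟩
    obtain ⟨M', -, hβ⟩ := exists_model E h2 hgg hμ hs
    obtain ⟨e, he, hee⟩ := exists_orth M' (Module.finBasis F _) h2 (by omega)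
    obtain ⟨ν, hν, hν'⟩ := exists_nonsquare (F := F) h2
    set v := e ⟨0, by omega⟩
    obtain ⟨x, y, hxy⟩ := represent M' (Module.finBasis F _) h2 (he ⟨1, by omega⟩)
      (he ⟨2, by omega⟩) (hee _ _ (by simp [Fin.ext_iff])) (M'.β v v * ν)
    set w := x • e ⟨1, by omega⟩ + y • e ⟨2, by omega⟩
    have hvw : QuadraticMap.polar Q v.1 w.1 = 0 := by
      rw [← hβ]
      simp only [w, v, map_add, map_smul, hee ⟨0, by omega⟩ ⟨1, by omega⟩ (by simp [Fin.ext_iff]),
        hee ⟨0, by omega⟩ ⟨2, by omega⟩ (by simp [Fin.ext_iff]), smul_zero, add_zero]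
    have hself : ∀ z : ↥(eig g' s), M'.β z z = 2 * Q z.1 := fun z => by
      rw [hβ, QuadraticMap.polar_self, two_nsmul, two_mul]
    have hv : Q v.1 ≠ 0 := fun h => he ⟨0, by omega⟩ (by rw [hself, h, mul_zero])
    rw [hself, hself, mul_assoc] at hxy
    have hw : Q w.1 = Q v.1 * ν := mul_left_cancel₀ h2 hxy
    have hw0 : Q w.1 ≠ 0 := by rw [hw]; exact mul_ne_zero hv hν
    refine ⟨reflect Q v.1 * reflect Q w.1, ?_, hθ _ _ hv hw0 ?_⟩
    · have hs0 : s ≠ 0 := by rcases hs with rfl | rfl <;> simp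
      have hc : ∀ z : ↥(eig g' s), g' * ofIso Q (reflect Q z.1) = ofIso Q (reflect Q z.1) * g' :=
        fun z => by rw [mul_reflect, mem_eig.1 z.2, reflect_smul hs0]
      have hh : ofIso Q (reflect Q v.1 * reflect Q w.1) * g' =
          g' * ofIso Q (reflect Q v.1 * reflect Q w.1) := by
        rw [map_mul, ← mul_assoc, hc, mul_assoc, ← hc, ← mul_assoc]
      rw [mul_assoc (scal Q a), ← hh, ← mul_assoc, ← scal_comm, mul_assoc]
    · rw [hw, ← mul_assoc, chi_mul (mul_ne_zero hv hv) hν, chi_eq_one_iff.2 ⟨Q v.1, rfl⟩, hν',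
        one_mul]
  · obtain ⟨K, _, _, _, M', b, ω, ⟨hμ, -⟩, hj, hsm, hω⟩ := inert_model E h2 hsq hl hcls
    obtain ⟨e, he, hee⟩ := exists_orth M' b h2 (by omega)
    obtain ⟨x, y, hxy⟩ := represent M' b h2 (he ⟨0, by omega⟩) (he ⟨1, by omega⟩)
      (hee _ _ (by simp [Fin.ext_iff])) ω
    obtain ⟨h0, h1⟩ := hω _ hxy
    set v := x • e ⟨0, by omega⟩ + y • e ⟨1, by omega⟩
    have hv : Q v ≠ 0 := fun h => by
      rw [QuadraticMap.polar_self, h, smul_zero] at h1
      exact one_ne_zero h1.symm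
    have hgv : Q (mat g *ᵥ v) ≠ 0 := by
      rw [muC_spec]; exact mul_ne_zero (muC g).ne_zero hv
    have hggv : mat g *ᵥ (mat g *ᵥ v) = (l : F) • v := by
      rw [Matrix.mulVec_mulVec, ← mat_mul, hl, scal_mulVec]
    refine ⟨reflect Q v * reflect Q (mat g *ᵥ v), ?_, hθ _ _ hv hgv ?_⟩
    · rw [map_mul, ← mul_assoc g, mul_reflect g, mul_assoc (ofIso Q (reflect Q (mat g *ᵥ v))) g,
        mul_reflect g, hggv, reflect_smul l.ne_zero, ← mul_assoc, ← map_mul, ← map_mul,
        reflect_commute h0]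
    · rw [muC_spec, show Q v * ((muC g : F) * Q v) = (muC g : F) * (Q v * Q v) by ring,
        chi_mul (muC g).ne_zero (mul_ne_zero hv hv), chi_eq_one_iff.2 ⟨Q v, rfl⟩, mul_one, hμ]
      exact chi_eq_neg_one_iff.2 hsq

theorem chi_eq_one_of_even {g : GO Q} (hord : orderOf (gAut Q g) = 2) (hcls : E.cls g = -1)
    (hM : Even M) {c : GO Q} (hc : gAut Q c * gAut Q g = gAut Q g * gAut Q c) :
    chi (muC c : F) = 1 := by
  obtain ⟨l, hl⟩ := (gAut_eq_one_iff E.hQ E.fr E.hn5 (g * g)).1 (by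
    rw [map_mul, ← sq, ← hord, pow_orderOf_eq_one])
  have hsq : IsSquare (l : F) := by
    by_contra hsq
    obtain ⟨K, _, _, _, M', b, ω, ⟨hμ, hdet⟩, -⟩ := inert_model E h2 hsq hl hcls
    exact det_neg_of_cls E h2 hcls (by rw [hdet, hμ, hM.neg_pow])
  obtain ⟨a, g', rfl, hgg, hμ, hcls'⟩ := exists_normal E h2 hl hsq hcls
  obtain ⟨h1, h1', hsum⟩ := eig_dims E h2 hgg hμ hcls'
  rw [map_mul (gAut Q) (scal Q a), gAut_scal, one_mul] at hc
  obtain ⟨e, he⟩ := fn_comm E.hQ E.fr E.hn5 (Φ := gSemi c) (H := g') (by rw [semP_gSemi]; exact hc)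
  simp only [gSemi_fn] at he
  have hinj : Function.Injective (Matrix.toLin' (mat c)) := fun x y h => by
    have h' := congrArg (mat c⁻¹ *ᵥ ·) h
    simpa only [toLin'_apply, inv_mulVec'] using h'
  have hmap : ∀ s : F, ∀ v ∈ eig g' s, mat c *ᵥ v ∈ eig g' ((e : F)⁻¹ * s) := fun s v hv => by
    rw [mem_eig, mul_smul, ← Matrix.mulVec_smul, ← mem_eig.1 hv, he, inv_smul_smul₀ e.ne_zero]
  have hee : (e : F) * e = 1 := by
    have h := he (mat g' *ᵥ E.fr.x₀)
    rw [g_g hgg, he, Matrix.mulVec_smul, g_g hgg, smul_smul] at h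
    refine smul_left_injective F (fun h0 : mat c *ᵥ E.fr.x₀ = 0 => E.fr.hx ?_)
      (h.symm.trans (one_smul F _).symm)
    rw [← inv_mulVec' c E.fr.x₀, h0, Matrix.mulVec_zero, map_zero]
  have hle : ∀ s : F, finrank F ↥(eig g' s) ≤ finrank F ↥(eig g' ((e : F)⁻¹ * s)) := fun s => by
    rw [(Submodule.equivMapOfInjective _ hinj (eig g' s)).finrank_eq]
    refine Submodule.finrank_mono ?_
    rintro _ ⟨v, hv, rfl⟩
    exact hmap s v hv
  have he1 : (e : F) = 1 := by
    rcases mul_self_eq_one_iff.1 hee with h | h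
    · exact h
    exfalso
    have i1 := hle 1
    have i2 := hle (-1)
    rw [h, inv_neg, inv_one, mul_one] at i1
    rw [h, inv_neg, inv_one, neg_mul_neg, mul_one] at i2
    rw [show finrank F ↥(eig g' 1) = M by omega] at h1
    exact Nat.not_even_iff_odd.2 h1 hM
  set W := eig g' 1
  let L : W →ₗ[F] W := (Matrix.toLin' (mat c)).restrict fun v hv => by
    have h := hmap 1 v hv
    rw [he1, inv_one, one_mul] at h
    exact h
  let B : LinearMap.BilinForm F W := (polB Q).compl₁₂ W.subtype W.subtype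
  have hB : B.Nondegenerate := ⟨fun u hu => Subtype.ext (nondeg_eig E h2 hgg hμ (Or.inl rfl) u.2
      fun w hw => hu ⟨w, hw⟩),
    fun u hu => Subtype.ext (nondeg_eig E h2 hgg hμ (Or.inl rfl) u.2 fun w hw =>
      (QuadraticMap.polar_comm _ _ _).trans (hu ⟨w, hw⟩))⟩
  let bW := Module.finBasis F W
  have hG : (LinearMap.BilinForm.toMatrix bW B).det ≠ 0 :=
    (LinearMap.BilinForm.nondegenerate_iff_det_ne_zero bW).1 hB
  have hBL : (muC c : F) • B = B.comp L L := LinearMap.ext₂ fun u v =>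
    (polar_mat c u.1 v.1).symm
  have h := congrArg (fun b : LinearMap.BilinForm F W => (LinearMap.BilinForm.toMatrix bW b).det) hBL
  simp only [map_smul, det_smul, Fintype.card_fin, LinearMap.BilinForm.toMatrix_comp bW bW,
    det_mul, det_transpose] at h
  set t := (LinearMap.toMatrix bW bW L).det
  obtain ⟨k, hk⟩ := h1
  have hμ0 : (muC c : F) ^ k ≠ 0 := pow_ne_zero _ (muC c).ne_zero
  have h' : (muC c : F) ^ (2 * k + 1) = t * t := by
    rw [← hk]
    exact mul_right_cancel₀ hG (by linear_combination h)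
  refine chi_eq_one_iff.2 ⟨t / (muC c : F) ^ k, ?_⟩
  field_simp
  linear_combination h'

/-! ### Counting -/

theorem map_dsg (S : Setup Q M) :
    E.cls.ker.map (gAut Q) = S.dsgH.ker.map (gAut Q) := by
  congr 1
  ext x
  rw [MonoidHom.mem_ker, MonoidHom.mem_ker, E.cls_apply, E.clsF_odd h2, (E.toSetup h2).dsgH_eq_one_iff,
    S.dsgH_eq_one_iff]

theorem psi_relIndex :
    ((E.toSetup h2).psi.ker.map (gAut Q)).relIndex (E.cls.ker.map (gAut Q)) = 2 := by
  set S := E.toSetup h2
  rw [map_dsg E h2 S, ← Subgroup.relIndex_comap, Subgroup.comap_map_eq,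
    sup_eq_left.2 S.ker_gAut_le_psi]
  have hle : S.psi.ker ≤ S.dsgH.ker := fun g hg =>
    MonoidHom.mem_ker.2 (congrArg Prod.snd (MonoidHom.mem_ker.1 hg))
  have h1 := Subgroup.relIndex_mul_index hle
  rw [Subgroup.index_ker, Subgroup.index_ker, MonoidHom.range_eq_top.2 S.psi_surjective,
    (MonoidHom.range_eq_top (f := S.dsgH)).2 fun y => ?_, Subgroup.card_top, Subgroup.card_top] at h1
  · simp at h1
    omega
  · obtain ⟨g, hg⟩ := S.psi_surjective (1, y)
    exact ⟨g, congrArg Prod.snd hg⟩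

theorem inn_relIndex :
    (Cfsg.Inn (Cfsg.POmega F ⇑Q)).relIndex (E.cls.ker.map (gAut Q)) =
      2 * (innPre Q).relIndex (E.toSetup h2).psi.ker := by
  rw [map_dsg E h2 (E.toSetup h2), ← Subgroup.relIndex_comap]
  exact (E.toSetup h2).index_innPre_dsg

theorem inn_le : Cfsg.Inn (Cfsg.POmega F ⇑Q) ≤ (E.toSetup h2).psi.ker.map (gAut Q) := by
  rw [← (E.toSetup h2).map_innPre]
  exact Subgroup.map_mono (E.toSetup h2).innPre_le

theorem psi_le : (E.toSetup h2).psi.ker.map (gAut Q) ≤ E.cls.ker.map (gAut Q) := by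
  rw [map_dsg E h2 (E.toSetup h2)]
  exact Subgroup.map_mono fun g hg =>
    MonoidHom.mem_ker.2 (congrArg Prod.snd (MonoidHom.mem_ker.1 hg))

/-- A class preserving similarity in the centraliser has square factor, given `−1 ∈ Ω`. -/
theorem chi_eq_one_of_neg (hneg : NegMem Q) {g : GO Q} (hcls : E.cls g = -1) {c : GO Q}
    (hc1 : E.cls c = 1) (hc : gAut Q c * gAut Q g = gAut Q g * gAut Q c) :
    chi (muC c : F) = 1 := by
  set S := E.toSetup h2
  have hclsd : ∀ y : GO Q, E.cls y = S.dsgH y := fun y => by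
    rw [E.cls_apply, E.clsF_odd h2]
  refine (Int.units_eq_one_or _).resolve_right fun hχ => ?_
  have hψc : S.psi c = (-1, 1) := by rw [S.psi_apply, hχ, ← hclsd, hc1]
  set q := QuotientGroup.mk' (innPre Q)
  -- the kernel of `psi` is central in the quotient
  have hz : ∀ z ∈ S.psi.ker, q c * q z = q z * q c := fun z hz => by
    have h2' : ((innPre Q).subgroupOf S.psi.ker).index = 2 := S.relIndex_two hneg
    have hz' : c * z * c⁻¹ ∈ S.psi.ker := (inferInstance : S.psi.ker.Normal).conj_mem z hz c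
    have hmem : c * z * c⁻¹ * z⁻¹ ∈ innPre Q := by
      have := (Subgroup.mul_mem_iff_of_index_two h2' (a := ⟨_, hz'⟩)
        (b := ⟨_, inv_mem hz⟩)).2 (by
        show c * z * c⁻¹ ∈ innPre Q ↔ z⁻¹ ∈ innPre Q
        rw [inv_mem_iff]
        exact ⟨fun h => by
            have h' := (inferInstance : (innPre Q).Normal).conj_mem _ h c⁻¹
            rwa [show c⁻¹ * (c * z * c⁻¹) * c⁻¹⁻¹ = z by group] at h',
          fun h => (inferInstance : (innPre Q).Normal).conj_mem z h c⟩)
      exact this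
    have h1 : q (c * z * c⁻¹ * z⁻¹) = 1 := (QuotientGroup.eq_one_iff _).2 hmem
    rw [map_mul, map_mul, map_mul, map_inv, map_inv, mul_inv_eq_one, mul_inv_eq_iff_eq_mul] at h1
    exact h1
  set r := ofIso Q (reflect Q E.fr.x₀)
  have hr : S.psi r = (1, -1) := by
    rw [S.psi_apply, S.muC_ofIso, S.dsgH_ofIso, par_reflect S.hQ E.fr.hx, Units.val_one, chi_one]
  have hqg : q c * q g = q g * q c := by
    rw [← map_mul, ← map_mul]
    refine QuotientGroup.eq.2 ?_
    show gAut Q ((c * g)⁻¹ * (g * c)) ∈ Cfsg.Inn _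
    rw [map_mul, map_inv, map_mul, map_mul, hc, inv_mul_cancel]
    exact one_mem _
  -- `g` is the reflection times an element commuting with `c`
  have hg1 : q c * q (r⁻¹ * g) = q (r⁻¹ * g) * q c := by
    rcases Int.units_eq_one_or (chi (muC g : F)) with hs | hs
    · refine hz _ ?_
      rw [MonoidHom.mem_ker, map_mul, map_inv, hr, S.psi_apply g, hs, ← hclsd, hcls]
      rfl
    · have h' : c⁻¹ * (r⁻¹ * g) ∈ S.psi.ker := by
        rw [MonoidHom.mem_ker, map_mul, map_mul, map_inv, map_inv, hr, hψc, S.psi_apply g, hs,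
          ← hclsd, hcls]
        rfl
      have h1 := hz _ h'
      rw [map_mul, map_inv, mul_inv_cancel_left, mul_assoc] at h1
      calc q c * q (r⁻¹ * g) = q c * ((q c)⁻¹ * (q (r⁻¹ * g) * q c)) := by rw [← h1]
        _ = _ := mul_inv_cancel_left _ _
  have hqr : q c * q r = q r * q c := by
    have e : q r = q g * (q (r⁻¹ * g))⁻¹ := by
      rw [map_mul, map_inv, _root_.mul_inv_rev, inv_inv, mul_inv_cancel_left]
    rw [e, ← mul_assoc, hqg, mul_assoc, mul_assoc]
    congr 1
    exact (Commute.inv_right hg1).eq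
  refine S.commutator_not_inner hneg hχ E.fr.hx ((QuotientGroup.eq_one_iff _).1 ?_)
  show q (c * r * c⁻¹ * r⁻¹) = 1
  rw [map_mul, map_mul, map_mul, map_inv, map_inv, hqr, mul_inv_cancel_right, mul_inv_cancel]

theorem split_le_two_of_not_neg (hneg : ¬ NegMem Q) (x : MulAut (Cfsg.POmega F ⇑Q)) :
    Cfsg.splitClassCount (E.cls.ker.map (gAut Q)) (Cfsg.Inn (Cfsg.POmega F ⇑Q)) x = 1 ∨
      Cfsg.splitClassCount (E.cls.ker.map (gAut Q)) (Cfsg.Inn (Cfsg.POmega F ⇑Q)) x = 2 := by
  have hK := (inn_le E h2).trans (psi_le E h2)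
  rw [AutPSL.SplitClass.splitClassCount_eq _ _ hK]
  have h := Subgroup.relIndex_mul_relIndex _ _ _ (le_sup_left : _ ≤ Cfsg.Inn (Cfsg.POmega F ⇑Q) ⊔
    (E.cls.ker.map (gAut Q) ⊓ Subgroup.centralizer {x})) (sup_le hK inf_le_left)
  rw [inn_relIndex E h2, (E.toSetup h2).relIndex_one hneg, mul_one] at h
  exact (Nat.dvd_prime Nat.prime_two).1 (Dvd.intro_left _ h)

theorem split_eq_two {g : GO Q} (hord : orderOf (gAut Q g) = 2) (hcls : E.cls g = -1)
    (hcase : NegMem Q ∨ Even M) :
    Cfsg.splitClassCount (E.cls.ker.map (gAut Q)) (Cfsg.Inn (Cfsg.POmega F ⇑Q)) (gAut Q g) = 2 := by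
  set S := E.toSetup h2
  set H := E.cls.ker.map (gAut Q)
  set K := Cfsg.Inn (Cfsg.POmega F ⇑Q)
  have hK := (inn_le E h2).trans (psi_le E h2)
  rw [AutPSL.SplitClass.splitClassCount_eq _ _ hK]
  set D := K ⊔ (H ⊓ Subgroup.centralizer {gAut Q g})
  have hD : D ≤ S.psi.ker.map (gAut Q) := by
    refine sup_le (inn_le E h2) ?_
    rintro _ ⟨⟨c, hc1, rfl⟩, hc⟩
    have hc' := Subgroup.mem_centralizer_singleton_iff.1 hc
    refine ⟨c, ?_, rfl⟩
    have hχ : chi (muC c : F) = 1 := by
      rcases hcase with h | h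
      · exact chi_eq_one_of_neg E h2 h hcls (MonoidHom.mem_ker.1 hc1) hc'
      · exact chi_eq_one_of_even E h2 hord hcls h hc'
    have hd : S.dsgH c = 1 := by
      rw [← E.clsF_odd h2, ← E.cls_apply]
      exact hc1
    rw [SetLike.mem_coe, MonoidHom.mem_ker, S.psi_apply, hχ, hd]
    rfl
  have hKD : K ≤ D := le_sup_left
  have h := Subgroup.relIndex_mul_relIndex _ _ _ hKD (hD.trans (psi_le E h2))
  have hP := Subgroup.relIndex_mul_relIndex _ _ _ hD (psi_le E h2)
  rw [psi_relIndex E h2] at hP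
  rw [inn_relIndex E h2] at h
  by_cases hneg : NegMem Q
  · rw [S.relIndex_two hneg] at h
    have hne : K.relIndex D ≠ 1 := by
      obtain ⟨z, hz, hθ⟩ := exists_rotation E h2 hord hcls
      intro h1
      rw [Subgroup.relIndex_eq_one] at h1
      have hzD : gAut Q (ofIso Q z) ∈ D := by
        refine Subgroup.mem_sup_right ⟨⟨_, ?_, rfl⟩, ?_⟩
        · rw [SetLike.mem_coe, MonoidHom.mem_ker, E.cls_ofIso]
          exact congrArg Prod.fst hθ
        · refine Subgroup.mem_centralizer_singleton_iff.2 ?_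
          rw [← map_mul, ← map_mul, hz]
      have h3 := (mem_omega_iff E.hQ E.hq z).1 ((S.ofIso_mem_innPre_iff hneg z).1 (h1 hzD))
      rw [hθ] at h3
      exact absurd h3 (by decide)
    rw [← hP] at h ⊢
    have : K.relIndex D * (D.relIndex (S.psi.ker.map (gAut Q))) = 2 := by
      have := h
      rw [← mul_assoc] at this
      omega
    rcases (Nat.dvd_prime Nat.prime_two).1 (Dvd.intro _ this) with h' | h'
    · exact absurd h' hne
    · rw [h'] at this
      rw [show D.relIndex (S.psi.ker.map (gAut Q)) = 1 by omega]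
  · rw [S.relIndex_one hneg] at h
    rw [← hP] at h ⊢
    rcases Nat.eq_zero_or_pos (D.relIndex (S.psi.ker.map (gAut Q))) with h0 | h0
    · rw [h0] at h; omega
    · have hKpos : 0 < K.relIndex D := Nat.pos_of_ne_zero fun h1 => by rw [h1] at h; omega
      nlinarith

end Cfsg.Agent.AutPOmega.GraphClasses
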