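import Cfsg.Agent.Lib.AutPOmega.FieldCentStd
import Cfsg.Agent.Lib.AutPSL.GraphFieldCent

/-!
# Involutory graph-field automorphisms of `PΩ⁺`

The reference involution is `γ σ` with `γ` the reflection in `e₀ + f₀`; its fixed vectors form a
space over the fixed field carrying the negative of a form of minus type.
-/

set_option autoImplicit false
set_option linter.unusedSectionVars false
set_option linter.unusedVariables false

namespace Cfsg.Agent.AutPOmega.GraphFieldCent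

open Matrix Cfsg.Agent.Forms Cfsg.Agent.Forms.QuadStd Cfsg.Agent.Forms.Reflections
open Cfsg.Agent.Forms.PlusStd Cfsg.Agent.Classical Cfsg.Agent.Classical.Orth
open Cfsg.Agent.Classical.OrthForms Cfsg.Agent.Classical.OrthCount Cfsg.Agent.Classical.OmegaCrit
open Cfsg.Agent.AutPOmega.BaseChange Cfsg.Agent.AutPOmega.FieldCentStd

universe u v

variable {F : Type u} [Field F] [Fintype F]

/-! ### Semisimilarities of a rational form -/

/-- A semisimilarity of a rational form is a similarity times a field automorphism. -/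
theorem semP_eq {ι : Type} [Fintype ι] [DecidableEq ι] {Q : QuadraticForm F (ι → F)}
    (Φ : Semi Q Q) (hτ : Rat Q Φ.σ) :
    ∃ G : GO Q, (semP Φ : MulAut (Cfsg.POmega F ⇑Q)) = gAut Q G * fAut Φ.σ hτ := by
  have hg : Φ.g ∈ GO Q := ⟨Φ.c, fun v => by
    obtain ⟨u, rfl⟩ : ∃ u : ι → F, (fun i => Φ.σ (u i)) = v := ⟨fun i => Φ.σ.symm (v i), by simp⟩
    rw [Φ.h, hτ]⟩
  refine ⟨⟨Φ.g, hg⟩, MulEquiv.ext fun x => ?_⟩
  induction x using QuotientGroup.induction_on with | H s => ?_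
  refine congrArg QuotientGroup.mk (Subtype.ext (Subtype.ext ?_))
  show Φ.g * fld Φ.σ _ * Φ.g⁻¹ = Φ.g * (1 * fld Φ.σ _ * 1⁻¹) * Φ.g⁻¹
  rw [one_mul, inv_one, mul_one]

/-! ### The reference involution -/

variable {k : ℕ}

/-- `e₀ + f₀`. -/
def v₀ (F : Type u) [Field F] (k : ℕ) : Fin (k + 1) ⊕ Fin (k + 1) → F :=
  Sum.elim (Fin.cons 1 fun _ => 0) (Fin.cons 1 fun _ => 0)

theorem plusQ_v₀ : plusQ F (k + 1) (v₀ F k) = 1 := by
  simp [plusQ_apply, Cfsg.quadFormPlus, v₀, Fin.sum_univ_succ]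

theorem v₀_fix (σ : F ≃+* F) (i) : σ (v₀ F k i) = v₀ F k i := by
  rcases i with i | i <;> refine Fin.cases ?_ (fun j => ?_) i <;> simp [v₀]

theorem act_reflect_v₀ (u : Fin (k + 1) ⊕ Fin (k + 1) → F) :
    act (reflect (plusQ F (k + 1)) (v₀ F k)) u =
      Sum.elim (Fin.cons (-u (.inr 0)) fun i => u (.inl i.succ))
        (Fin.cons (-u (.inl 0)) fun i => u (.inr i.succ)) := by
  have hp : QuadraticMap.polar (plusQ F (k + 1)) (v₀ F k) u = u (.inr 0) + u (.inl 0) := by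
    rw [plusQ_polar]
    simp [v₀, Fin.sum_univ_succ]
  rw [act_reflect, plusQ_v₀, hp]
  funext i
  rcases i with i | i <;> refine Fin.cases ?_ (fun j => ?_) i <;> simp [v₀] <;> ring

variable {K : Type v} [Field K] [Fintype K] {φ : K →+* F} {σ : F ≃+* F}

/-- The coordinates on the fixed vectors. -/
noncomputable def coordL (k : ℕ) (θ θ' : F) (h : θ - θ' ≠ 0) :
    ((Fin k ⊕ Fin k) ⊕ Fin 2 → F) ≃ₗ[F] (Fin (k + 1) ⊕ Fin (k + 1) → F) where
  toFun v := Sum.elim (Fin.cons (v (.inr 0) + θ * v (.inr 1)) fun i => v (.inl (.inl i)))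
    (Fin.cons (-(v (.inr 0) + θ' * v (.inr 1))) fun i => -v (.inl (.inr i)))
  map_add' v w := by
    funext i
    rcases i with i | i <;> refine Fin.cases ?_ (fun j => ?_) i <;> simp <;> ring
  map_smul' t v := by
    funext i
    rcases i with i | i <;> refine Fin.cases ?_ (fun j => ?_) i <;> simp <;> ring
  invFun u := Sum.elim (Sum.elim (fun i => u (.inl i.succ)) fun i => -u (.inr i.succ))
    ![u (.inl 0) - θ * ((u (.inl 0) + u (.inr 0)) / (θ - θ')),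
      (u (.inl 0) + u (.inr 0)) / (θ - θ')]
  left_inv v := by
    funext i
    rcases i with (i | i) | i
    · simp
    · simp
    · fin_cases i
      · simp; field_simp; ring
      · simp; field_simp; ring
  right_inv u := by
    funext i
    rcases i with i | i <;> refine Fin.cases ?_ (fun j => ?_) i
    · simp
    · simp
    · simp; field_simp; ring
    · simp

theorem coordL_apply (θ θ' : F) (h : θ - θ' ≠ 0) (v : (Fin k ⊕ Fin k) ⊕ Fin 2 → F) :
    coordL k θ θ' h v =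
      Sum.elim (Fin.cons (v (.inr 0) + θ * v (.inr 1)) fun i => v (.inl (.inl i)))
        (Fin.cons (-(v (.inr 0) + θ' * v (.inr 1))) fun i => -v (.inl (.inr i))) := rfl

/-- The descent of the reference involution. -/
noncomputable def refDesc (hσ2 : ∀ t, σ (σ t) = t) {θ : F} (hθ : σ θ ≠ θ) {a₀ b₀ : K}
    (ha : φ a₀ = θ + σ θ) (hb : φ b₀ = θ * σ θ) :
    Desc φ (minQ K k a₀ b₀) (plusQ F (k + 1)) σ
      (ofIso (plusQ F (k + 1)) (reflect (plusQ F (k + 1)) (v₀ F k))) where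
  L := coordL k θ (σ θ) (sub_ne_zero.2 fun h => hθ h.symm)
  P := minQ F k (φ a₀) (φ b₀)
  w := -1
  l := 1
  ext := ext_minQ φ k a₀ b₀
  hP v := by
    rw [coordL_apply, ha, hb, minQ_apply, plusQ_apply, plusQ_apply, Cfsg.quadFormPlus,
      Cfsg.quadFormPlus, Fin.sum_univ_succ]
    simp [Finset.sum_neg_distrib]
    ring
  hτ v := by
    rw [ofIso_mulVec, act_reflect_v₀, coordL_apply, coordL_apply, Units.val_one, one_smul]
    funext i
    rcases i with i | i <;> refine Fin.cases ?_ (fun j => ?_) i <;> simp [hσ2]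

theorem map_dilMat (a b c x y : K) :
    (Minus.dilMat k a b c x y).map φ = Minus.dilMat k (φ a) (φ b) (φ c) (φ x) (φ y) := by
  ext i j
  rcases i with (i | i) | i <;> rcases j with (j | j) | j
  all_goals simp [Minus.dilMat, Plus.dvec, Matrix.diagonal_apply, apply_ite φ]
  fin_cases i <;> fin_cases j <;> simp

theorem chi_pow {a : F} (ha : a ≠ 0) : ∀ n : ℕ, chi (a ^ n) = chi a ^ n
  | 0 => by rw [pow_zero, pow_zero, chi_one]
  | n + 1 => by rw [pow_succ, pow_succ, chi_mul (pow_ne_zero _ ha) ha, chi_pow ha n]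

/-- In a quadratic extension squares are detected by the norm. -/
theorem chi_norm (hσ2 : ∀ t, σ (σ t) = t) (hfix : ∀ y, σ (φ y) = φ y)
    (hsur : ∀ x, σ x = x → ∃ y, φ y = x) {ρ : F} {c : K} (hρ : φ c = ρ * σ ρ) (hc : chi c = -1) :
    chi ρ = -1 ∧ ∀ {z : F} {n : K}, z ≠ 0 → φ n = z * σ z → chi z = chi n := by
  have hsq : ∀ (z : F) (n : K), φ n = z * σ z → IsSquare z → IsSquare n := by
    rintro z n hn ⟨r, rfl⟩
    obtain ⟨e, he⟩ := hsur (r * σ r) (by rw [map_mul, hσ2, mul_comm])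
    exact ⟨e, φ.injective (by rw [hn, map_mul, map_mul, he]; ring)⟩
  have h1 : chi ρ = -1 :=
    chi_eq_neg_one_iff.2 fun h => chi_eq_neg_one_iff.1 hc (hsq ρ c hρ h)
  have hc0 : c ≠ 0 := fun h => chi_eq_neg_one_iff.1 hc (h ▸ IsSquare.zero)
  have hρ0 : ρ ≠ 0 := fun h => hc0 (φ.injective (by rw [hρ, h, zero_mul, map_zero]))
  refine ⟨h1, fun {z n} hz hn => ?_⟩
  have hn0 : n ≠ 0 := fun h => by
    rw [h, map_zero] at hn
    exact mul_ne_zero hz ((map_ne_zero σ).2 hz) hn.symm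
  rcases Int.units_eq_one_or (chi z) with e | e
  · rw [e, chi_eq_one_iff.2 (hsq z n hn (chi_eq_one_iff.1 e))]
  · have hsq' := hsq (z * ρ) (n * c) (by rw [map_mul, hn, hρ, map_mul]; ring)
      (chi_eq_one_iff.1 (by rw [chi_mul hz hρ0, e, h1]; rfl))
    have h2 := chi_eq_one_iff.2 hsq'
    rw [chi_mul hn0 hc0, hc] at h2
    rcases Int.units_eq_one_or (chi n) with e' | e' <;> rw [e'] at h2 ⊢
    · exact absurd h2 (by decide)
    · exact e

/-- A multiple of an isometry of determinant known spinor norm represents the dilatation. -/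
theorem dil_image (hσ2 : ∀ t, σ (σ t) = t) {θ : F} (hθ : σ θ ≠ θ) {a₀ b₀ : K}
    (ha : φ a₀ = θ + σ θ) (hb : φ b₀ = θ * σ θ) (hfix : ∀ y, σ (φ y) = φ y)
    {c x y : K} (hxy : x ^ 2 + a₀ * x * y + b₀ * y ^ 2 = c) (hc : c ≠ 0)
    {d : GO (minQ K k a₀ b₀)} (hd : mat d = Minus.dilMat k a₀ b₀ c x y) {s : F}
    (hs : s * s = φ c) (hk : 4 ≤ k) :
    ∃ (u : Fˣ) (h : Cfsg.isometryGroup F ⇑(plusQ F (k + 1))),
      (refDesc (k := k) hσ2 hθ ha hb).map d = scal (plusQ F (k + 1)) u * ofIso (plusQ F (k + 1)) h ∧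
      φ c = (φ x + θ * φ y) * σ (φ x + θ * φ y) ∧
      theta (plusQ_nondeg F (k + 1))
          (Or.inr (by simp; omega) : Fintype.card F ≠ 2 ∨
            Fintype.card (Fin (k + 1) ⊕ Fin (k + 1)) ≠ 4) h =
        (1, chi (φ x + θ * φ y) * chi s ^ (k + 1)) := by
  set ρ := φ x + θ * φ y with hρdef
  have hσρ : σ ρ = φ x + σ θ * φ y := by rw [hρdef, map_add, map_mul, hfix, hfix]
  have hnorm : φ c = ρ * σ ρ := by
    rw [hσρ, ← hxy, map_add, map_add, map_pow, map_mul, map_mul, map_mul, map_pow, ha, hb]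
    ring
  have hs0 : s ≠ 0 := fun h => by
    rw [h, zero_mul] at hs
    exact hc ((map_eq_zero φ).1 hs.symm)
  have hρ0 : ρ ≠ 0 := fun h => by
    rw [h, zero_mul] at hnorm
    exact hc ((map_eq_zero φ).1 hnorm)
  set e : Fin (k + 1) → F := Fin.cons (ρ / s) fun _ => s with he
  have he0 : ∀ i, e i ≠ 0 := fun i => by
    refine Fin.cases ?_ (fun j => ?_) i <;> simp [he, hρ0, hs0]
  let A : GL (Fin (k + 1)) F := Matrix.GeneralLinearGroup.mkOfDetNeZero (Matrix.diagonal e)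
    (by rw [det_diagonal]; exact Finset.prod_ne_zero_iff.2 fun i _ => he0 i)
  have hA : (A : Matrix (Fin (k + 1)) (Fin (k + 1)) F) = Matrix.diagonal e := rfl
  have hAi : ((A : Matrix (Fin (k + 1)) (Fin (k + 1)) F)⁻¹)ᵀ = Matrix.diagonal fun i => (e i)⁻¹ := by
    rw [hA, Matrix.inv_eq_right_inv (B := Matrix.diagonal fun i => (e i)⁻¹)
      (by simp [diagonal_mul_diagonal, he0]), diagonal_transpose]
  refine ⟨Units.mk0 s hs0, OmegaPlus.leviIso A, go_ext fun v => ?_, hnorm, ?_⟩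
  · obtain ⟨u, rfl⟩ := (refDesc (k := k) hσ2 hθ ha hb).L.surjective v
    rw [Desc.mat_map, hd, map_dilMat, Minus.dilMat_mulVec, mat_mul, ← Matrix.mulVec_mulVec,
      scal_mulVec, ofIso_mulVec, OmegaPlus.act_levi, hAi, hA, Units.val_mk0]
    simp only [refDesc, coordL_apply]
    funext i
    rcases i with i | i <;> refine Fin.cases ?_ (fun j => ?_) i
    · simp [mulVec_diagonal, he, Plus.dvec, hρdef]
      field_simp
      rw [ha, hb]
      ring
    · simp [mulVec_diagonal, he, Plus.dvec]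
      linear_combination (-(u (Sum.inl (Sum.inl j)))) * hs
    · simp [mulVec_diagonal, he, Plus.dvec]
      field_simp
      rw [ha, hb]
      have h1 : s * s = (φ x + θ * φ y) * (φ x + σ θ * φ y) := by rw [hs, hnorm, hσρ]
      linear_combination (u (Sum.inr 0) + σ θ * u (Sum.inr 1)) * h1
    · simp [mulVec_diagonal, he, Plus.dvec, hs0]
  · rw [OmegaPlus.theta_levi, hA, det_diagonal, Fin.prod_univ_succ]
    refine Prod.ext rfl ?_
    simp only [he, Fin.cons_zero, Fin.cons_succ, Finset.prod_const, Finset.card_univ,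
      Fintype.card_fin]
    rw [div_eq_mul_inv, chi_mul (mul_ne_zero hρ0 (inv_ne_zero hs0)) (pow_ne_zero _ hs0),
      chi_mul hρ0 (inv_ne_zero hs0), chi_inv hs0, chi_pow hs0, pow_succ' (chi s), mul_assoc]

/-! ### The theorem -/

set_option maxHeartbeats 6400000 in
/-- Involutory graph-field automorphisms of the plus type group. -/
theorem graph_field (hk : 4 ≤ k) {Q' : (Fin (k + 1) ⊕ Fin (k + 1) → F) → F}
    (hQ' : Q' = ⇑(plusQ F (k + 1))) (x : MulAut (Cfsg.POmega F Q'))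
    (hx : ∃ (α γ φ : MulAut (Cfsg.POmega F Q')) (σ : F ≃+* F) (v : Fin (k + 1) ⊕ Fin (k + 1) → F)
        (r : GL (Fin (k + 1) ⊕ Fin (k + 1)) F),
        σ ≠ RingEquiv.refl F ∧ Q' v ≠ 0 ∧ (∀ i, σ (v i) = v i) ∧
        (r : Matrix (Fin (k + 1) ⊕ Fin (k + 1)) (Fin (k + 1) ⊕ Fin (k + 1)) F) =
          Cfsg.reflectionMatrix Q' v ∧
        Cfsg.IsInducedBySemilinearPOmega Q' r (RingEquiv.refl F) γ ∧
        Cfsg.IsFieldAutPOmegaOf Q' σ φ ∧ α * x * α⁻¹ = γ * φ)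
    (hx2 : orderOf x = 2)
    {p f : ℕ} [Fact p.Prime] (hF : Fintype.card F = p ^ f) (hf : 1 ≤ f)
    {Q₁ : K → K → ((Fin k ⊕ Fin k) ⊕ Fin 2 → K) → K}
    (hQ₁ : Q₁ = fun a₀ b₀ => ⇑(minQ K k a₀ b₀)) (hK : Fintype.card K = p ^ (f / 2)) :
    Even f ∧
    (∀ y : MulAut (Cfsg.POmega F Q'),
      (∃ (α γ φ : MulAut (Cfsg.POmega F Q')) (σ : F ≃+* F) (v : Fin (k + 1) ⊕ Fin (k + 1) → F)
        (r : GL (Fin (k + 1) ⊕ Fin (k + 1)) F),
        σ ≠ RingEquiv.refl F ∧ Q' v ≠ 0 ∧ (∀ i, σ (v i) = v i) ∧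
        (r : Matrix (Fin (k + 1) ⊕ Fin (k + 1)) (Fin (k + 1) ⊕ Fin (k + 1)) F) =
          Cfsg.reflectionMatrix Q' v ∧
        Cfsg.IsInducedBySemilinearPOmega Q' r (RingEquiv.refl F) γ ∧
        Cfsg.IsFieldAutPOmegaOf Q' σ φ ∧ α * y * α⁻¹ = γ * φ) →
      orderOf y = 2 →
      Cfsg.IsConjUnder (Plus.inndiagOf Q' (Cfsg.PreservesSingularClasses Q')) x y) ∧
    (∃ a₀ b₀ : K, (∀ z₁ z₂ : K, z₁ ^ 2 + a₀ * z₁ * z₂ + b₀ * z₂ ^ 2 = 0 → z₁ = 0 ∧ z₂ = 0) ∧
      Nonempty (↥(Plus.inndiagOf Q' (Cfsg.PreservesSingularClasses Q') ⊓ Subgroup.centralizer {x}) ≃*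
        ↥(Plus.inndiagOf (Q₁ a₀ b₀) (Cfsg.PreservesSingularClassesMinus k a₀ b₀)))) ∧
    (p = 2 → Cfsg.splitClassCount (Plus.inndiagOf Q' (Cfsg.PreservesSingularClasses Q'))
      (Cfsg.Inn (Cfsg.POmega F Q')) x = 1) ∧
    ((p ≠ 2 ∧ Odd (k + 1) ∧ p ^ (f / 2) % 4 = 1) →
      Cfsg.splitClassCount (Plus.inndiagOf Q' (Cfsg.PreservesSingularClasses Q'))
        (Cfsg.Inn (Cfsg.POmega F Q')) x = 4) ∧
    ((p ≠ 2 ∧ ¬ (Odd (k + 1) ∧ p ^ (f / 2) % 4 = 1)) →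
      Cfsg.splitClassCount (Plus.inndiagOf Q' (Cfsg.PreservesSingularClasses Q'))
        (Cfsg.Inn (Cfsg.POmega F Q')) x = 2) := by
  subst hQ' hQ₁
  obtain ⟨E⟩ := plusEven (F := F) (m := k + 1) (by omega)
  rw [inndiag_plus (show 4 ≤ k + 1 by omega) E]
  haveI : Fact (Nat.Prime 2) := ⟨Nat.prime_two⟩
  set N := E.cls.ker.map (gAut (plusQ F (k + 1))) with hN
  set R := ofIso (plusQ F (k + 1)) (reflect (plusQ F (k + 1)) (v₀ F k)) with hR
  have hv0 : plusQ F (k + 1) (v₀ F k) ≠ 0 := by rw [plusQ_v₀]; exact one_ne_zero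
  -- every such involution is conjugate to the reference one
  have key : ∀ y : MulAut (Cfsg.POmega F ⇑(plusQ F (k + 1))),
      (∃ (α γ φ : MulAut (Cfsg.POmega F ⇑(plusQ F (k + 1)))) (σ : F ≃+* F)
        (v : Fin (k + 1) ⊕ Fin (k + 1) → F) (r : GL (Fin (k + 1) ⊕ Fin (k + 1)) F),
        σ ≠ RingEquiv.refl F ∧ plusQ F (k + 1) v ≠ 0 ∧ (∀ i, σ (v i) = v i) ∧
        (r : Matrix (Fin (k + 1) ⊕ Fin (k + 1)) (Fin (k + 1) ⊕ Fin (k + 1)) F) =
          Cfsg.reflectionMatrix ⇑(plusQ F (k + 1)) v ∧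
        Cfsg.IsInducedBySemilinearPOmega ⇑(plusQ F (k + 1)) r (RingEquiv.refl F) γ ∧
        Cfsg.IsFieldAutPOmegaOf ⇑(plusQ F (k + 1)) σ φ ∧ α * y * α⁻¹ = γ * φ) →
      orderOf y = 2 → ∃ (σ : F ≃+* F) (h : MulAut (Cfsg.POmega F ⇑(plusQ F (k + 1)))),
        orderOf σ = 2 ∧ h ∈ N ∧
        y = h * (gAut (plusQ F (k + 1)) R * fAut σ (FieldStd.rat_plus σ (k + 1))) * h⁻¹ := by
    rintro y ⟨α, γ, φ', σ, v, g, hσ1, hv0', hv, hg, hγ, hφ, hα⟩ hy
    have hσ := FieldStd.rat_plus σ (k + 1)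
    have hg' : g = (ofIso (plusQ F (k + 1)) (reflect (plusQ F (k + 1)) v) : GO (plusQ F (k + 1))).1 := Units.ext hg
    subst hg'
    rw [(isInduced_iff _ γ).1 hγ, (fAut_iff hσ φ').1 hφ] at hα
    have h1 : (gAut (plusQ F (k + 1)) (ofIso (plusQ F (k + 1)) (reflect (plusQ F (k + 1)) v)) * fAut σ hσ) ^ 2 = 1 := by
      rw [← hα, conj_pow, ← hy, pow_orderOf_eq_one, mul_one, mul_inv_cancel]
    have hσ2 : orderOf σ = 2 :=
      orderOf_eq_prime (E.even_of_cls_neg h1 (E.cls_reflect hv0')).2 hσ1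
    obtain ⟨Φ, hΦ⟩ := exists_semi (Standard.plusBig (show 5 ≤ k + 1 by omega)) α⁻¹
    have hτ : Rat (plusQ F (k + 1)) Φ.σ := FieldStd.rat_plus Φ.σ (k + 1)
    obtain ⟨G, hG⟩ := semP_eq Φ hτ
    have hy' : y = gAut (plusQ F (k + 1)) (G * fGO Φ.σ hτ (ofIso (plusQ F (k + 1)) (reflect (plusQ F (k + 1)) v)) * (fGO σ hσ G)⁻¹) *
        fAut σ hσ := by
      have e : y = α⁻¹ * (gAut (plusQ F (k + 1)) (ofIso (plusQ F (k + 1)) (reflect (plusQ F (k + 1)) v)) * fAut σ hσ) * α := by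
        rw [← hα]; group
      rw [e, show α = α⁻¹⁻¹ from (inv_inv α).symm, inv_inv α⁻¹, hΦ, hG, mul_inv_eq_iff_eq_mul,
        mul_assoc _ (fAut σ hσ), ← mul_assoc (fAut σ hσ), fAut_mul_gAut, mul_assoc _ (fAut σ hσ),
        fAut_mul, ← mul_assoc (gAut _ (G * fGO Φ.σ hτ _ * _)), ← map_mul, inv_mul_cancel_right,
        mul_assoc (gAut _ G) (fAut Φ.σ hτ), ← mul_assoc (fAut Φ.σ hτ), fAut_mul_gAut,
        mul_assoc _ (fAut Φ.σ hτ), fAut_mul, ← mul_assoc (gAut _ G), ← map_mul]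
      exact congrArg _ (fAut_congr (AutPSL.GraphFieldCent.ringAut_comm hF _ _) _ _)
    have hpow : (gAut (plusQ F (k + 1)) (G * fGO Φ.σ hτ (ofIso (plusQ F (k + 1)) (reflect (plusQ F (k + 1)) v)) * (fGO σ hσ G)⁻¹) *
        fAut σ hσ) ^ 2 = 1 := by rw [← hy', ← hy, pow_orderOf_eq_one]
    obtain ⟨h, hh, he⟩ := E.conj_in_ker (A₀ := R) Nat.prime_two hσ2 hv0 (v₀_fix σ) (Or.inr rfl)
      hpow (E.reflect_pow (v₀_fix σ) (hσ2 ▸ pow_orderOf_eq_one σ)) (by
        rw [map_mul, map_mul, map_inv, E.cls_fGO, E.cls_fGO, E.cls_reflect hv0', hR,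
          E.cls_reflect hv0, mul_comm (E.cls G), mul_inv_cancel_right])
    exact ⟨σ, h, hσ2, hh, hy'.trans he⟩
  obtain ⟨σ, h, hσ2, hh, hxe⟩ := key x hx hx2
  have hσ := FieldStd.rat_plus σ (k + 1)
  set z := gAut (plusQ F (k + 1)) R * fAut σ hσ with hz
  have hev : 2 ∣ f := hσ2 ▸ AutPSL.FieldCent.dvd_degree hF σ
  refine ⟨even_iff_two_dvd.2 hev, fun y hy hy2 => ?_, ?_⟩
  · obtain ⟨σ', h', hσ', hh', hye⟩ := key y hy hy2
    obtain rfl := AutPSL.GraphFieldCent.eq_of_orderOf_two hF hf hσ' hσ2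
    refine ⟨h' * h⁻¹, mul_mem hh' (inv_mem hh), ?_⟩
    rw [hye, hxe, hz]
    group
  obtain ⟨φ, hfix, hsur⟩ := AutPSL.FieldCent.exists_emb (F₀ := K) hF σ hσ2 hK
  have hinv : ∀ t, σ (σ t) = t := fun t => by
    have h1 := DFunLike.congr_fun (hσ2 ▸ pow_orderOf_eq_one σ : σ ^ 2 = 1) t
    rwa [sq, RingAut.mul_apply, RingAut.one_apply] at h1
  obtain ⟨θ, hθ⟩ : ∃ θ, σ θ ≠ θ := by
    by_contra hc
    push Not at hc
    rw [show σ = 1 from RingEquiv.ext hc, orderOf_one] at hσ2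
    exact absurd hσ2 (by decide)
  obtain ⟨a₀, ha⟩ := hsur (θ + σ θ) (by rw [map_add, hinv, add_comm])
  obtain ⟨b₀, hb⟩ := hsur (θ * σ θ) (by rw [map_mul, hinv, mul_comm])
  have hab₀ : ∀ z₁ z₂ : K, z₁ ^ 2 + a₀ * z₁ * z₂ + b₀ * z₂ ^ 2 = 0 → z₁ = 0 ∧ z₂ = 0 := by
    intro z₁ z₂ h0
    by_cases hz₂ : z₂ = 0
    · refine ⟨eq_zero_of_pow_eq_zero (n := 2) ?_, hz₂⟩
      simpa [hz₂] using h0
    exfalso
    have h1 : (φ z₁ + θ * φ z₂) * (φ z₁ + σ θ * φ z₂) = 0 := by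
      rw [← map_zero φ, ← h0, map_add, map_add, map_pow, map_mul, map_mul, map_mul, map_pow, ha, hb]
      ring
    have h2 : φ z₂ ≠ 0 := (map_ne_zero φ).2 hz₂
    rcases mul_eq_zero.1 h1 with e | e
    · have e2 := congrArg σ e
      rw [map_add, map_mul, hfix, hfix, map_zero] at e2
      exact hθ (mul_right_cancel₀ h2 (by linear_combination e2 - e))
    · have e2 := congrArg σ e
      rw [map_add, map_mul, hfix, hfix, map_zero, hinv] at e2
      exact hθ (mul_right_cancel₀ h2 (by linear_combination e - e2))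
  obtain ⟨E₀⟩ := minusEven hab₀ (show 3 ≤ k by omega)
  set D := refDesc (k := k) hinv hθ ha hb
  have ok : DescOK D hσ := ⟨hfix, hsur⟩
  set e : MulAut (Cfsg.POmega F ⇑(plusQ F (k + 1))) ≃* _ := MulAut.conj h⁻¹
  have hex : e x = z := by
    rw [hxe]
    show h⁻¹ * _ * h⁻¹⁻¹ = _
    group
  have hNe : ∀ g, e g ∈ N ↔ g ∈ N := fun g => by
    rw [MulAut.conj_apply, inv_inv, Subgroup.mul_mem_cancel_right _ hh,
      Subgroup.mul_mem_cancel_left _ (inv_mem hh)]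
  refine ⟨⟨a₀, b₀, hab₀, ?_⟩, ?_⟩
  · rw [inndiag_minus hab₀ (show 3 ≤ k by omega) E₀]
    obtain ⟨e1⟩ := centralizer_transport e N N hNe x
    rw [hex, hz] at e1
    obtain ⟨e2⟩ := D.centralizer_equiv hσ ok E E₀
    exact ⟨e1.trans e2⟩
  have hcount : Cfsg.splitClassCount N (Cfsg.Inn (Cfsg.POmega F ⇑(plusQ F (k + 1)))) x =
      Cfsg.splitClassCount N (Cfsg.Inn (Cfsg.POmega F ⇑(plusQ F (k + 1)))) z := by
    rw [count_transport e N _ N (Cfsg.Inn _) E.inn_le hNe (conj_inn _), hex]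
  rw [hcount]
  have hp2 : (2 : F) = 0 ↔ p = 2 := by
    constructor
    · intro h0
      have : CharP F 2 := CharTwo.of_one_ne_zero_of_two_eq_zero one_ne_zero h0
      obtain ⟨n, -, hn⟩ := FiniteField.card F 2
      have h2 : 2 ∣ p ^ f := hF ▸ hn ▸ dvd_pow_self 2 n.ne_zero
      exact ((Nat.prime_dvd_prime_iff_eq Nat.prime_two Fact.out).1
        (Nat.prime_two.dvd_of_dvd_pow h2)).symm
    · rintro rfl
      by_contra h0
      obtain ⟨l, hl⟩ := odd_card_of_two_ne h0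
      have h2 : 2 ∣ Fintype.card F := hF ▸ dvd_pow_self 2 (by omega)
      omega
  refine ⟨fun hp => D.count_two hσ ok E E₀ (hp2.2 hp), ?_⟩
  by_cases hp : p = 2
  · exact ⟨fun hh => absurd hp hh.1, fun hh => absurd hp hh.1⟩
  have h2F : (2 : F) ≠ 0 := fun h0 => hp (hp2.1 h0)
  have h2K := two_ne_sub h2F φ
  have hoddK : Odd (Fintype.card K) := odd_card_of_two_ne h2K
  have hcard : Fintype.card F = Fintype.card K ^ 2 := by
    rw [hF, hK, ← pow_mul, Nat.div_mul_cancel hev]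
  obtain ⟨c, hc0, hc⟩ := exists_nonsquare (F := K) h2K
  obtain ⟨x₁, y₁, d, hxy, hdm, hmu⟩ :=
    Minus.exists_dil (k := k) hoddK hab₀ (by omega) (Units.mk0 c hc0)
  rw [Units.val_mk0] at hxy hdm
  obtain ⟨s, hs⟩ := chi_eq_one_iff.1 (chi_sq h2K hcard hc0 : chi (φ c) = 1)
  obtain ⟨u, t, hdt, hnorm, hth⟩ :=
    dil_image (k := k) hinv hθ ha hb hfix hxy hc0 hdm hs.symm hk
  obtain ⟨hρ, hchin⟩ := chi_norm hinv hfix hsur hnorm hc
  have hs0 : s ≠ 0 := fun h0 => by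
    rw [h0, zero_mul] at hs
    exact hc0 ((map_eq_zero φ).1 hs)
  have hσs : σ s = -s := by
    have h1 : σ s * σ s = s * s := by rw [← map_mul, ← hs, hfix]
    rcases mul_self_eq_mul_self_iff.1 h1 with e1 | e1
    · obtain ⟨r, hr⟩ := hsur s e1
      exact absurd ⟨r, φ.injective (by rw [hs, map_mul, hr])⟩ (chi_eq_neg_one_iff.1 hc)
    · exact e1
  have hchis : chi s = chi (-1 : K) * -1 := by
    rw [hchin hs0 (show φ (-c) = s * σ s by rw [map_neg, hσs, hs, mul_neg]),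
      ← neg_one_mul c, chi_mul (neg_ne_zero.2 one_ne_zero) hc0, hc]
  have hneg1 : chi (-1 : K) = 1 ↔ p ^ (f / 2) % 4 = 1 := by
    obtain ⟨l, hl⟩ := hoddK
    rw [chi_eq_one_iff, FiniteField.isSquare_neg_one_iff, ← hK]
    omega
  have hd1 : E₀.cls d = 1 := (E₀.cls_eq_one_iff d).2 (Or.inl ⟨h2K, by
    rw [hdm, Minus.det_dilMat hxy, hmu]; rfl⟩)
  have hnm : NegMem (plusQ F (k + 1)) := by
    refine (Plus.negMem_iff (odd_card_of_two_ne h2F) (by omega)).2 fun h3 => ?_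
    obtain ⟨l, hl⟩ := hoddK
    rw [hcard, hl] at h3
    have h4 := h3.2
    rw [Nat.pow_mod] at h4
    rcases (show (2 * l + 1) % 4 = 1 ∨ (2 * l + 1) % 4 = 3 by omega) with e1 | e1 <;>
      rw [e1] at h4 <;> exact absurd h4 (by decide)
  obtain ⟨h4, h2⟩ := D.count_sq hσ ok E E₀ h2K hnm
    (fun c' hc' => chi_sq h2K hcard hc') hd1 (by rw [hmu, Units.val_mk0, hc]) hdt hth
  have hε : chi (φ x₁ + θ * φ y₁) * chi s ^ (k + 1) = 1 ↔ Odd (k + 1) ∧ p ^ (f / 2) % 4 = 1 := by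
    rw [hρ, hchis, ← hneg1]
    rcases Int.units_eq_one_or (chi (-1 : K)) with e1 | e1 <;>
      rcases Nat.even_or_odd (k + 1) with e2 | e2 <;>
      simp [e1, e2, e2.neg_one_pow, Nat.not_odd_iff_even.2]
  exact ⟨fun hh => h4 (hε.2 hh.2), fun hh => h2 fun e1 => hh.2 (hε.1 e1)⟩

end Cfsg.Agent.AutPOmega.GraphFieldCent
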