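import Cfsg.Agent.Lib.AutPOmega.OuterBalance

/-!
# Local balance for `PΩ` of minus type
-/

set_option autoImplicit false
set_option linter.unusedSectionVars false
set_option linter.unusedVariables false
set_option maxHeartbeats 1600000

namespace Cfsg.Agent.AutPOmega.MinusBalance

open Matrix Cfsg.Agent.Forms Cfsg.Agent.Forms.QuadStd Cfsg.Agent.Forms.Reflections
open Cfsg.Agent.Forms.PlusStd Cfsg.Agent.Classical Cfsg.Agent.Classical.Orth
open Cfsg.Agent.Classical.OrthForms Cfsg.Agent.Classical.OmegaCrit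
open Cfsg.Agent.AutPOmega.BaseChange

universe u

variable {F : Type u} [Field F] [Fintype F]

theorem exists_sim {ι : Type} [Fintype ι] [DecidableEq ι] {Q : QuadraticForm F (ι → F)}
    (Φ : Semi Q Q) (Φ₀ : Semi Q Q) (hσ : Φ.σ = Φ₀.σ) :
    ∃ G : GO Q, ∀ v, Φ.fn v = mat G *ᵥ Φ₀.fn v := by
  have h1 : (Φ.comp Φ₀.inv).σ = 1 := RingEquiv.ext fun x => by
    show Φ.σ (Φ₀.σ.symm x) = x
    rw [hσ, RingEquiv.apply_symm_apply]
  have hfn : ∀ v, (Φ.comp Φ₀.inv).fn v = ((Φ.comp Φ₀.inv).g : Matrix ι ι F) *ᵥ v := fun v => by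
    rw [Semi.fn, h1]
    rfl
  let G : GO Q := ⟨(Φ.comp Φ₀.inv).g, (Φ.comp Φ₀.inv).c, fun v => by
    rw [← hfn, Semi.fn_map, h1]
    rfl⟩
  refine ⟨G, fun v => ?_⟩
  show _ = ((Φ.comp Φ₀.inv).g : Matrix ι ι F) *ᵥ _
  rw [← hfn, Semi.comp_fn, Semi.inv_fn]

theorem isSquare_of_fix (h2 : (2 : F) ≠ 0) {σ : F ≃+* F} (hσ : orderOf σ = 2) {w : F}
    (hw : σ w = w) (hw0 : w ≠ 0) : IsSquare w := by
  classical
  have : Finite (F ≃+* F) := Finite.of_injective (fun e => (e : F → F)) DFunLike.coe_injective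
  let G : Subgroup (RingAut F) := Subgroup.zpowers σ
  have : Fintype G := Fintype.ofFinite _
  let K := FixedPoints.subfield G F
  have hmem : w ∈ K := by
    rintro ⟨g, hg⟩
    obtain ⟨k, rfl⟩ := Subgroup.mem_zpowers_iff.1 hg
    change (σ ^ k) • w = w
    exact MulAction.mem_fixedBy_zpow (show w ∈ MulAction.fixedBy F (σ : RingAut F) from hw) k
  have hcard : Fintype.card F = Fintype.card K ^ 2 := by
    have h1 := Module.natCard_eq_pow_finrank (K := K) (V := F)
    rwa [FixedPoints.finrank_eq_card, ← Nat.card_eq_fintype_card (α := G), Nat.card_zpowers, hσ,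
      Nat.card_eq_fintype_card, Nat.card_eq_fintype_card] at h1
  exact chi_eq_one_iff.1 (FieldCentStd.chi_sq (φ := K.subtype)
    (FieldCentStd.two_ne_sub h2 K.subtype) hcard (c := ⟨w, hmem⟩)
    (fun h => hw0 (congrArg Subtype.val h)))

variable {k : ℕ} (hk : 3 ≤ k) {a b : F}
  (hab : ∀ z₁ z₂ : F, z₁ ^ 2 + a * z₁ * z₂ + b * z₂ ^ 2 = 0 → z₁ = 0 ∧ z₂ = 0)

include hk hab

theorem transport (x : MulAut (Cfsg.POmega F ⇑(minQ F k a b))) (Φ : Semi (minQ F k a b) (minQ F k a b))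
    (hx : x = semP Φ) {a' b' : F} (T : Semi (minQ F k a b) (minQ F k a' b')) :
    (semP ((T.comp Φ).comp T.inv) : MulAut (Cfsg.POmega F ⇑(minQ F k a' b'))) =
      MulAut.congr (semP T) x := by
  refine MulEquiv.ext fun y => ?_
  rw [semP_comp, semP_inv, semP_comp, hx]
  rfl

/-- No involution of minus type involves a field automorphism in odd characteristic. -/
theorem no_involution (h2 : (2 : F) ≠ 0) (x : MulAut (Cfsg.POmega F ⇑(minQ F k a b)))
    (Φ : Semi (minQ F k a b) (minQ F k a b)) (hx : x = semP Φ) (hσ : orderOf Φ.σ = 2) :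
    x ^ 2 ≠ 1 := by
  intro hx2
  obtain ⟨ν, hν⟩ := FiniteField.exists_nonsquare (F := F) (fun h => h2 (by
    have : CharP F 2 := h ▸ ringChar.charP F
    exact CharTwo.two_eq_zero))
  have hν0 : ν ≠ 0 := fun h => hν (h ▸ IsSquare.zero)
  set σ := Φ.σ with hσdef
  have hσσ : ∀ z, σ (σ z) = z := fun z => by
    have h := DFunLike.congr_fun (pow_orderOf_eq_one σ) z
    rwa [hσ, sq, RingAut.mul_apply] at h
  have hσν : ¬ IsSquare (σ ν) := fun ⟨r, hr⟩ => hν ⟨σ r, by rw [← map_mul, ← hr, hσσ]⟩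
  obtain ⟨s, hs⟩ := Bases.isSquare_mul_of_not hσν (show ¬ IsSquare ν⁻¹ from fun h => hν (by
    obtain ⟨r, hr⟩ := h
    exact ⟨r⁻¹, by rw [← mul_inv, ← hr, inv_inv]⟩))
  have hs0 : s ≠ 0 := fun h => by
    rw [h, mul_zero] at hs
    exact mul_ne_zero ((map_ne_zero σ).2 hν0) (inv_ne_zero hν0) hs
  have hs' : ν * (s * s) = σ ν := by rw [← hs]; field_simp
  have hN : s * σ s = -1 := by
    have h1 : (s * σ s) * (s * σ s) = 1 := by
      have h := congrArg σ hs'
      rw [map_mul, map_mul, hσσ] at h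
      refine mul_right_cancel₀ hν0 ?_
      linear_combination h + (σ s * σ s) * hs'
    rcases mul_self_eq_one_iff.1 h1 with h | h
    · exfalso
      -- `s = z / σ z`
      obtain ⟨z, hz0, hz⟩ : ∃ z : F, z ≠ 0 ∧ (σ ν * σ z * σ z) = ν * z * z := by
        by_cases hs1 : s = -1
        · exact ⟨1, one_ne_zero, by rw [map_one, ← hs', hs1]; ring⟩
        · refine ⟨1 + s, fun h0 => hs1 (by linear_combination h0), ?_⟩
          rw [map_add, map_one, ← hs']
          linear_combination ν * (s * σ s + 1 + 2 * s) * h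
      have hfix : σ (ν * z * z) = ν * z * z := by rw [map_mul, map_mul, hz]
      obtain ⟨t, ht⟩ := isSquare_of_fix h2 hσ hfix (mul_ne_zero (mul_ne_zero hν0 hz0) hz0)
      exact hν ⟨t / z, by field_simp; linear_combination ht⟩
    · exact h
  -- the standard semisimilarity
  have hab' : ∀ z₁ z₂ : F, z₁ ^ 2 + 0 * z₁ * z₂ + (-ν) * z₂ ^ 2 = 0 → z₁ = 0 ∧ z₂ = 0 := by
    intro z₁ z₂ h
    by_cases hz : z₂ = 0
    · subst hz
      exact ⟨eq_zero_of_pow_eq_zero (n := 2) (by linear_combination h), rfl⟩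
    · exact absurd ⟨z₁ / z₂, by field_simp; linear_combination -h⟩ hν
  obtain ⟨E⟩ := minusEven hab' hk
  obtain ⟨T⟩ := FieldStd.exists_semi_minus (k := k) hab hab'
  set Φ₁ := (T.comp Φ).comp T.inv
  have hΦ₁ : Φ₁.σ = σ := by
    refine RingEquiv.ext fun z => ?_
    show T.σ (Φ.σ (T.σ.symm z)) = σ z
    have hc : T.σ * Φ.σ = Φ.σ * T.σ := RingEquiv.ext fun y => by
      obtain ⟨p, hp⟩ := CharP.exists F
      haveI : Fact p.Prime := ⟨CharP.char_is_prime F p⟩
      obtain ⟨f, -, hf⟩ := FiniteField.card F p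
      obtain ⟨e⟩ := AutPSL.Out.exists_ringAut_equiv (F := F) hf
      exact DFunLike.congr_fun (e.injective (by rw [map_mul, map_mul, mul_comm])) y
    have := DFunLike.congr_fun hc (T.σ.symm z)
    rw [RingAut.mul_apply, RingAut.mul_apply, RingEquiv.apply_symm_apply] at this
    exact this
  have hΦ₁2 : (semP (Φ₁.comp Φ₁) : MulAut (Cfsg.POmega F ⇑(minQ F k 0 (-ν)))) = semP (Semi.id _) := by
    rw [semP_mul, semP_id, transport hk hab x Φ hx T, ← map_mul, ← sq, hx2, map_one]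
  let d : (Fin k ⊕ Fin k) ⊕ Fin 2 → F := Sum.elim 1 ![1, s]
  have hd : (Matrix.diagonal d).det ≠ 0 := by
    rw [Matrix.det_diagonal, Finset.prod_ne_zero_iff]
    rintro (i | i) -
    · exact one_ne_zero
    · fin_cases i <;> simp [d, hs0]
  let Φ₀ : Semi (minQ F k 0 (-ν)) (minQ F k 0 (-ν)) :=
    { g := GeneralLinearGroup.mkOfDetNeZero _ hd
      σ := σ
      c := 1
      h := fun v => by
        show minQ F k 0 (-ν) (Matrix.diagonal d *ᵥ fun i => σ (v i)) = _
        rw [minQ_apply, minQ_apply, plusQ_apply, plusQ_apply, Cfsg.quadFormPlus, Cfsg.quadFormPlus,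
          Units.val_one, one_mul]
        simp [Matrix.mulVec_diagonal, d, map_sum]
        linear_combination (σ (v (Sum.inr 1)) ^ 2) * hs' }
  have hfn0 : ∀ v i, Φ₀.fn v i = d i * σ (v i) := fun v i => Matrix.mulVec_diagonal d _ i
  obtain ⟨G, hG⟩ := exists_sim Φ₁ Φ₀ hΦ₁
  set e : (Fin k ⊕ Fin k) ⊕ Fin 2 → F := Pi.single (Sum.inr 1) 1
  have hQe : minQ F k 0 (-ν) e = -ν := by
    rw [minQ_apply, plusQ_apply, Cfsg.quadFormPlus]
    simp [e]
  have hQe0 : minQ F k 0 (-ν) e ≠ 0 := by rw [hQe]; exact neg_ne_zero.2 hν0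
  have hsq : ∀ v, Φ₀.fn (Φ₀.fn v) = mat (ofIso _ (reflect (minQ F k 0 (-ν)) e)) *ᵥ v := fun v => by
    have hpol : QuadraticMap.polar (minQ F k 0 (-ν)) e v = -2 * ν * v (Sum.inr 1) := by
      rw [minQ_polar, plusQ_polar]
      simp [e]
    rw [ofIso_mulVec, act_reflect, hQe, hpol]
    funext i
    rw [hfn0, hfn0, map_mul, hσσ, ← mul_assoc]
    have hcoef : (-ν)⁻¹ * (-2 * ν * v (Sum.inr 1)) = 2 * v (Sum.inr 1) := by field_simp
    rw [hcoef]
    rcases i with i | i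
    · simp [d, e]
    · fin_cases i
      · simp [d, e]
      · simp [d, e]
        linear_combination (v (Sum.inr 1)) * hN
  obtain ⟨-, c, hc⟩ := semP_prop E.hQ E.fr E.hn5 hΦ₁2
  have key : G * semGO Φ₀ G * ofIso _ (reflect (minQ F k 0 (-ν)) e) = scal _ c := by
    refine go_ext fun v => ?_
    rw [scal_mulVec, ← Semi.id_fn (Q := minQ F k 0 (-ν)) v, ← hc, Semi.id_fn, Semi.comp_fn, hG, hG,
      mat_mul, mat_mul, ← Matrix.mulVec_mulVec, ← Matrix.mulVec_mulVec, ← hsq]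
    exact congrArg _ (Φ₀.conjGL_fn _ _)
  have h := congrArg E.cls key
  rw [map_mul, map_mul, E.cls_scal, E.cls_reflect hQe0, show E.cls (semGO Φ₀ G) = E.cls G from
    clsF_semGO E E Φ₀ G, Int.units_mul_self, one_mul] at h
  exact absurd h (by decide)

/-- The criterion. -/
theorem main {r : ℕ} [Fact r.Prime] [CharP F r] (A : Subgroup (MulAut (Cfsg.POmega F ⇑(minQ F k a b))))
    (hinn : ∀ g, MulAut.conj g ∈ A) {p : ℕ} [Fact p.Prime] (hpr : p ≠ r)
    (x : MulAut (Cfsg.POmega F ⇑(minQ F k a b))) (hord : orderOf x = p)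
    (hnot : ∀ G : GO (minQ F k a b),
      Cfsg.PreservesSingularClassesMinus k a b (mat G) → x ≠ gAut _ G) :
    Cfsg.pPrimeCore p ↥(A ⊓ Subgroup.centralizer {x}) ≠ ⊥ ↔
      ((∃ (a' b' : F) (ψ : Cfsg.POmega F ⇑(minQ F k a b) ≃* Cfsg.POmega F ⇑(minQ F k a' b'))
          (σ : F ≃+* F), (∀ z₁ z₂ : F, z₁ ^ 2 + a' * z₁ * z₂ + b' * z₂ ^ 2 = 0 → z₁ = 0 ∧ z₂ = 0) ∧
          σ ≠ RingEquiv.refl F ∧ σ a' = a' ∧ σ b' = b' ∧
          Cfsg.IsFieldAutPOmegaOf ⇑(minQ F k a' b') σ ((ψ.symm.trans x).trans ψ)) ∧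
        Nat.Coprime p (Nat.card ↥(MonoidHom.eqLocus x.toMonoidHom
          (MonoidHom.id (Cfsg.POmega F ⇑(minQ F k a b)))))) := by
  have hp : p.Prime := Fact.out
  obtain ⟨E⟩ := minusEven hab hk
  have hpF : (p : F) ≠ 0 := by
    rw [Ne, CharP.cast_eq_zero_iff F r]
    exact fun h => hpr ((Nat.prime_dvd_prime_iff_eq Fact.out hp).1 h).symm
  obtain ⟨Φ, hΦ⟩ := exists_semi (Standard.minBig hk hab) x
  have hxp : x ^ p = 1 := hord ▸ pow_orderOf_eq_one x
  by_cases hσ1 : Φ.σ = 1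
  · -- an outer involution
    obtain ⟨g, hg⟩ := exists_sim Φ (Semi.id _) hσ1
    have hxg : x = gAut _ g := hΦ.trans (Outer.semP_eq_gAut hσ1 g fun v => by
      rw [hg, Semi.id_fn])
    have hcls : E.cls g = -1 := by
      rcases Int.units_eq_one_or (E.cls g) with h | h
      · exact absurd hxg (hnot g ((preserves_minus hab hk E g).2 h))
      · exact h
    obtain ⟨l, hl⟩ := (gAut_eq_one_iff E.hQ E.fr E.hn5 (g ^ p)).1 (by rw [map_pow, ← hxg, hxp])
    have hev : Even p := by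
      have h := congrArg E.cls hl
      rw [map_pow, hcls, E.cls_scal] at h
      exact (neg_one_pow_eq_one_iff_even (by decide)).1 h
    obtain rfl : p = 2 := ((Nat.prime_dvd_prime_iff_eq Nat.prime_two hp).1 hev.two_dvd).symm
    have h2 : (2 : F) ≠ 0 := by exact_mod_cast hpF
    refine iff_of_false (not_not.2 ?_) ?_
    · rw [hxg]
      exact Outer.core_eq_bot E h2 (exists_semi (Standard.minBig hk hab))
        (fun R hR => (Standard.minQ_singular_le hab R hR).trans_lt (Nat.lt_succ_self k)) g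
        (hxg ▸ hord) hcls A hinn
    · rintro ⟨⟨a', b', ψ, σ, hab', hσne, ha, hb, hφ⟩, -⟩
      have hσ := FieldStd.rat_minus k ha hb
      obtain ⟨T⟩ := FieldStd.exists_semi_minus (k := k) hab hab'
      obtain ⟨Ψ, hΨ⟩ := exists_semi (Standard.minBig hk hab) (ψ.trans (semP T).symm)
      set U := T.comp Ψ
      have hU : semP U = ψ := by
        rw [semP_comp, ← hΨ]
        exact MulEquiv.ext fun y => (semP T).apply_symm_apply _
      have e : (semP (gSemi g) : MulAut (Cfsg.POmega F ⇑(minQ F k a b))) =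
          semP ((U.inv.comp (fSemi σ hσ)).comp U) := by
        rw [semP_gSemi, ← hxg]
        refine MulEquiv.ext fun y => ?_
        rw [semP_comp (U.inv.comp (fSemi σ hσ)) U, semP_comp U.inv, semP_inv, hU]
        show x y = ψ.symm (fAut σ hσ (ψ y))
        rw [← (fAut_iff hσ _).1 hφ, MulEquiv.trans_apply, MulEquiv.trans_apply,
          MulEquiv.symm_apply_apply, MulEquiv.symm_apply_apply]
      obtain ⟨h1, -⟩ := semP_prop E.hQ E.fr E.hn5 e
      refine hσne (RingEquiv.ext fun z => ?_)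
      have := DFunLike.congr_fun h1 (U.σ.symm z)
      change U.σ.symm z = U.σ.symm (σ (U.σ (U.σ.symm z))) at this
      rw [RingEquiv.apply_symm_apply] at this
      exact (U.σ.symm.injective this).symm
  -- a field automorphism
  have hσp : orderOf Φ.σ = p := by
    refine orderOf_eq_prime ?_ hσ1
    obtain ⟨h1, -⟩ := semP_prop E.hQ E.fr E.hn5 (Φ := Φ.pow p) (Ψ := Semi.id _)
      (by rw [semP_pow, ← hΦ, hxp, semP_id])
    rwa [Semi.pow_sigma] at h1
  have hodd : Odd p := by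
    rcases hp.eq_two_or_odd' with rfl | h
    · exact absurd hxp (no_involution hk hab (by exact_mod_cast hpF) x Φ hΦ hσp)
    · exact h
  set σ := Φ.σ with hσdef
  letI : Fintype (Fix σ) := Fintype.ofFinite _
  obtain ⟨ζ, hζ⟩ : ∃ ζ : Fix σ, ∀ t : Fix σ, t ^ 2 + t + ζ ≠ 0 := by
    have hni : ¬ Function.Injective fun t : Fix σ => -(t ^ 2 + t) := fun hinj =>
      absurd (hinj (a₁ := 0) (a₂ := -1) (by ring)) (by simp)
    rw [Finite.injective_iff_surjective] at hni
    simp only [Function.Surjective, not_forall, not_exists] at hni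
    obtain ⟨ζ, hζ⟩ := hni
    exact ⟨ζ, fun t ht => hζ t (by linear_combination -ht)⟩
  have hab' : ∀ z₁ z₂ : F, z₁ ^ 2 + 1 * z₁ * z₂ + (ζ : F) * z₂ ^ 2 = 0 → z₁ = 0 ∧ z₂ = 0 := by
    intro z₁ z₂ h
    by_cases hz : z₂ = 0
    · subst hz
      exact ⟨eq_zero_of_pow_eq_zero (n := 2) (by linear_combination h), rfl⟩
    · exfalso
      refine no_root hodd (hσp ▸ pow_orderOf_eq_one σ) hζ (z₁ / z₂) ?_
      field_simp
      linear_combination h
  obtain ⟨E'⟩ := minusEven hab' hk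
  have hτ : Rat (minQ F k 1 (ζ : F)) σ := FieldStd.rat_minus k (map_one σ) ζ.2
  obtain ⟨T⟩ := FieldStd.exists_semi_minus (k := k) hab hab'
  set Φ₁ := (T.comp Φ).comp T.inv
  have hσ₁ : Φ₁.σ = σ := by
    refine RingEquiv.ext fun z => ?_
    show T.σ (Φ.σ (T.σ.symm z)) = σ z
    have hc : T.σ * Φ.σ = Φ.σ * T.σ := RingEquiv.ext fun y => by
      obtain ⟨f, -, hf⟩ := FiniteField.card F r
      obtain ⟨e⟩ := AutPSL.Out.exists_ringAut_equiv (F := F) hf
      exact DFunLike.congr_fun (e.injective (by rw [map_mul, map_mul, mul_comm])) y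
    have := DFunLike.congr_fun hc (T.σ.symm z)
    rw [RingAut.mul_apply, RingAut.mul_apply, RingEquiv.apply_symm_apply] at this
    exact this
  obtain ⟨G, hG⟩ := exists_sim Φ₁ (fSemi σ hτ) hσ₁
  have hx₁ : MulAut.congr (semP T) x = gAut _ G * fAut σ hτ := by
    rw [← transport hk hab x Φ hΦ T, ← semP_gSemi]
    exact (Outer.semP_congr (hσ₁.trans (one_mul σ).symm) fun v => by
      rw [hG, Semi.comp_fn (gSemi G), gSemi_fn]).trans (semP_mul _ _)
  have hG1 : (gAut _ G * fAut σ hτ) ^ p = 1 := by rw [← hx₁, ← map_pow, hxp, map_one]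
  have hσ1p : (gAut (minQ F k 1 (ζ : F)) 1 * fAut σ hτ) ^ p = 1 := by
    rw [map_one, one_mul, fAut_pow,
      fAut_congr (hσp ▸ pow_orderOf_eq_one σ) _ Rat.one, fAut_one]
  have hclsG : E'.cls G = E'.cls (1 : GO (minQ F k 1 (ζ : F))) := by
    rw [map_one]
    rcases Int.units_eq_one_or (E'.cls G) with h | h
    · exact h
    · exact absurd (E'.even_of_cls_neg hG1 h).1 (Nat.not_even_iff_odd.2 hodd)
  have hv : ∀ i, σ ((minFrame F (show 2 ≤ k by omega) 1 (ζ : F)).x₀ i) =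
      (minFrame F (show 2 ≤ k by omega) 1 (ζ : F)).x₀ i := by
    rintro (i | i)
    · simp [minFrame]
    · fin_cases i <;> simp [minFrame]
  obtain ⟨h, -, hh⟩ := E'.conj_in_ker hp hσp (minFrame F (show 2 ≤ k by omega) 1 (ζ : F)).hx hv
    (A₀ := 1) (Or.inl rfl) hG1 hσ1p hclsG
  rw [map_one, one_mul, ← hx₁] at hh
  set ψ := (semP T).trans h.symm
  set c := MulAut.congr ψ
  have hcx : c x = fAut σ hτ := by
    refine MulEquiv.ext fun y => ?_
    show h.symm (semP T (x ((semP T).symm (h y)))) = _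
    rw [show semP T (x ((semP T).symm (h y))) = MulAut.congr (semP T) x (h y) from rfl, hh]
    show h.symm (h (fAut σ hτ (h⁻¹ (h y)))) = _
    rw [MulEquiv.symm_apply_apply, show h⁻¹ (h y) = y from h.symm_apply_apply y]
  have hclass : ∃ (a' b' : F)
      (ψ : Cfsg.POmega F ⇑(minQ F k a b) ≃* Cfsg.POmega F ⇑(minQ F k a' b'))
      (σ : F ≃+* F), (∀ z₁ z₂ : F, z₁ ^ 2 + a' * z₁ * z₂ + b' * z₂ ^ 2 = 0 → z₁ = 0 ∧ z₂ = 0) ∧
      σ ≠ RingEquiv.refl F ∧ σ a' = a' ∧ σ b' = b' ∧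
      Cfsg.IsFieldAutPOmegaOf ⇑(minQ F k a' b') σ ((ψ.symm.trans x).trans ψ) :=
    ⟨1, (ζ : F), ψ, σ, hab', hσ1, map_one σ, ζ.2, (fAut_iff hτ _).2 hcx⟩
  rw [and_iff_right hclass]
  set A' := A.map c.toMonoidHom
  have hinn' : ∀ g, MulAut.conj g ∈ A' := fun g => by
    refine ⟨MulAut.conj (ψ.symm g), hinn _, MulEquiv.ext fun y => ?_⟩
    show ψ (ψ.symm g * ψ.symm y * (ψ.symm g)⁻¹) = g * y * g⁻¹
    rw [map_mul, map_mul, map_inv, MulEquiv.apply_symm_apply, MulEquiv.apply_symm_apply]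
  have hmap : (A ⊓ Subgroup.centralizer {x}).map c.toMonoidHom =
      A' ⊓ Subgroup.centralizer {c x} :=
    FieldCentStd.map_inf_centralizer c A A' (fun g => Subgroup.mem_map_iff_mem c.injective) x
  have e := ((A ⊓ Subgroup.centralizer {x}).equivMapOfInjective c.toMonoidHom c.injective).trans
    (MulEquiv.subgroupCongr hmap)
  have hcore := PLocal.Cores.map_pPrimeCore_equiv (p := p) e
  have hcard : Nat.card (MonoidHom.eqLocus (c x).toMonoidHom (MonoidHom.id _)) =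
      Nat.card (MonoidHom.eqLocus x.toMonoidHom
        (MonoidHom.id (Cfsg.POmega F ⇑(minQ F k a b)))) := by
    refine Nat.card_congr (Equiv.subtypeEquiv ψ.symm.toEquiv fun y => ?_)
    change ψ (x (ψ.symm y)) = y ↔ x (ψ.symm y) = ψ.symm y
    exact ψ.eq_symm_apply.symm
  rw [← hcard, Ne, ← Subgroup.map_eq_bot_iff_of_injective _ (f := e.toMonoidHom) e.injective, hcore,
    hcx]
  have hQ0 : Ext (Fix σ).subtype (minQ (Fix σ) k 1 ζ) (minQ F k 1 (ζ : F)) := by
    have h := ext_minQ (Fix σ).subtype k 1 ζ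
    rwa [map_one] at h
  exact LocalBalance.core_ne_bot_iff (Standard.minBig hk hab') hQ0
    (minFrame (Fix σ) (show 2 ≤ k by omega) 1 ζ) hτ (fun y => y.2)
    (fun z hz => ⟨⟨z, hz⟩, rfl⟩) hpF hσp A' hinn'

end Cfsg.Agent.AutPOmega.MinusBalance
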