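import Cfsg.Agent.Lib.AutPOmega.GraphClasses
import Cfsg.Agent.Lib.AutPOmega.MinusBalance

/-!
# Graph involutions of the standard forms
-/

set_option autoImplicit false
set_option linter.unusedSectionVars false
set_option linter.unusedVariables false

namespace Cfsg.Agent.AutPOmega.GraphClasses

open Matrix Cfsg.Agent.Forms Cfsg.Agent.Forms.QuadStd Cfsg.Agent.Forms.Reflections
open Cfsg.Agent.Forms.PlusStd Cfsg.Agent.Classical Cfsg.Agent.Classical.Orth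
open Cfsg.Agent.Classical.OrthForms

universe u

variable {F : Type u} [Field F] [Fintype F]

theorem plus_graph (hodd : Odd (Fintype.card F)) {m : ℕ} (hm : 4 ≤ m)
    {Q' : (Fin m ⊕ Fin m → F) → F} (hQ' : Q' = ⇑(plusQ F m)) (γ : MulAut (Cfsg.POmega F Q'))
    (hγ : ∃ g : GL (Fin m ⊕ Fin m) F, g ∈ Cfsg.Geo.quadSimilarityGroup (F := F) Q' ∧
      ¬ Cfsg.PreservesSingularClasses Q' (g : Matrix (Fin m ⊕ Fin m) (Fin m ⊕ Fin m) F) ∧
      Cfsg.IsInducedBySemilinearPOmega Q' g (RingEquiv.refl F) γ)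
    (hγ2 : orderOf γ = 2) :
    (Cfsg.splitClassCount (Plus.inndiagOf Q' (Cfsg.PreservesSingularClasses Q'))
        (Cfsg.Inn (Cfsg.POmega F Q')) γ = 1 ∨
      Cfsg.splitClassCount (Plus.inndiagOf Q' (Cfsg.PreservesSingularClasses Q'))
        (Cfsg.Inn (Cfsg.POmega F Q')) γ = 2) ∧
    (¬ (Odd m ∧ Fintype.card F % 4 = 3) →
      Cfsg.splitClassCount (Plus.inndiagOf Q' (Cfsg.PreservesSingularClasses Q'))
        (Cfsg.Inn (Cfsg.POmega F Q')) γ = 2) := by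
  subst hQ'
  obtain ⟨E⟩ := plusEven (F := F) (m := m) hm
  obtain ⟨g, hg, hnp, hi⟩ := hγ
  have h2 := Plus.two_ne hodd
  obtain rfl : γ = gAut (plusQ F m) ⟨g, hg⟩ := (isInduced_iff ⟨g, hg⟩ γ).1 hi
  have hcls : E.cls ⟨g, hg⟩ = -1 :=
    (Int.units_eq_one_or _).resolve_left fun h => hnp ((preserves_plus hm E ⟨g, hg⟩).2 h)
  rw [inndiag_plus hm E]
  refine ⟨?_, fun h => split_eq_two E h2 hγ2 hcls (Or.inl ((Plus.negMem_iff hodd hm).2 h))⟩
  by_cases hneg : NegMem (plusQ F m)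
  · exact Or.inr (split_eq_two E h2 hγ2 hcls (Or.inl hneg))
  · exact split_le_two_of_not_neg E h2 hneg _

theorem minus_graph (hodd : Odd (Fintype.card F)) {k : ℕ} (hk : 3 ≤ k) {a b : F}
    (hab : ∀ z₁ z₂ : F, z₁ ^ 2 + a * z₁ * z₂ + b * z₂ ^ 2 = 0 → z₁ = 0 ∧ z₂ = 0)
    {Q' : ((Fin k ⊕ Fin k) ⊕ Fin 2 → F) → F} (hQ' : Q' = ⇑(minQ F k a b))
    (γ : MulAut (Cfsg.POmega F Q'))
    (hγ : γ ∉ Plus.inndiagOf Q' (Cfsg.PreservesSingularClassesMinus k a b))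
    (hγ2 : orderOf γ = 2) :
    (Cfsg.splitClassCount (Plus.inndiagOf Q' (Cfsg.PreservesSingularClassesMinus k a b))
        (Cfsg.Inn (Cfsg.POmega F Q')) γ = 1 ∨
      Cfsg.splitClassCount (Plus.inndiagOf Q' (Cfsg.PreservesSingularClassesMinus k a b))
        (Cfsg.Inn (Cfsg.POmega F Q')) γ = 2) ∧
    (¬ (Even k ∧ Fintype.card F % 4 = 1) →
      Cfsg.splitClassCount (Plus.inndiagOf Q' (Cfsg.PreservesSingularClassesMinus k a b))
        (Cfsg.Inn (Cfsg.POmega F Q')) γ = 2) := by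
  subst hQ'
  obtain ⟨E⟩ := minusEven hab hk
  have h2 := Plus.two_ne hodd
  rw [inndiag_minus hab hk E] at hγ ⊢
  obtain ⟨Φ, hΦ⟩ := exists_semi (Standard.minBig hk hab) γ
  have hγp : γ ^ 2 = 1 := orderOf_dvd_iff_pow_eq_one.1 (dvd_of_eq hγ2)
  have hσ : Φ.σ = 1 := by
    by_contra hne
    obtain ⟨h1, -⟩ := semP_prop E.hQ E.fr E.hn5 (Φ := Φ.pow 2) (Ψ := Semi.id _)
      (by rw [semP_pow, ← hΦ, hγp, semP_id])
    rw [Semi.pow_sigma] at h1
    haveI : Fact (Nat.Prime 2) := ⟨Nat.prime_two⟩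
    exact MinusBalance.no_involution hk hab h2 γ Φ hΦ (orderOf_eq_prime h1 hne) hγp
  obtain ⟨g, hg⟩ := MinusBalance.exists_sim Φ (Semi.id _) hσ
  obtain rfl : γ = gAut _ g :=
    hΦ.trans (Outer.semP_eq_gAut hσ g fun v => by rw [hg, Semi.id_fn])
  have hcls : E.cls g = -1 :=
    (Int.units_eq_one_or _).resolve_left fun h => hγ ⟨g, h, rfl⟩
  refine ⟨?_, fun h => split_eq_two E h2 hγ2 hcls ?_⟩
  · by_cases hneg : NegMem (minQ F k a b)
    · exact Or.inr (split_eq_two E h2 hγ2 hcls (Or.inl hneg))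
    · exact split_le_two_of_not_neg E h2 hneg _
  · rcases Nat.even_or_odd k with he | ho
    · refine Or.inl ((Minus.negMem_iff hodd hab hk).2 ⟨he, ?_⟩)
      have h1 : Fintype.card F % 4 ≠ 1 := fun h' => h ⟨he, h'⟩
      have h2' := Nat.odd_iff.1 hodd
      omega
    · exact Or.inr (Odd.add_one ho)

end Cfsg.Agent.AutPOmega.GraphClasses
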