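import Cfsg.Agent.Lib.AutPOmega.GraphFieldCent
import Cfsg.Agent.Lib.AutPSp.LocalBalance

/-!
# Local balance for field automorphisms of `PΩ`

For a standard field automorphism `x` of prime order `p` of `PΩ(Q)`, the `p'`-core of the
centraliser of `x` in a group containing the inner automorphisms is non-trivial exactly when `p` is
prime to the number of fixed points.
-/

set_option autoImplicit false
set_option linter.unusedSectionVars false
set_option linter.unusedVariables false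
set_option maxHeartbeats 1600000

namespace Cfsg.Agent.AutPOmega.LocalBalance

open Matrix Cfsg.Agent.Forms Cfsg.Agent.Forms.QuadStd Cfsg.Agent.Forms.Reflections
open Cfsg.Agent.Forms.PlusStd Cfsg.Agent.Classical Cfsg.Agent.Classical.Orth
open Cfsg.Agent.Classical.OrthForms Cfsg.Agent.Classical.OrthCount Cfsg.Agent.Classical.OmegaCrit
open Cfsg.Agent.AutPOmega.BaseChange Cfsg.Agent.AutPOmega.FieldCentStd
open Cfsg.Agent.AutPSp.LocalBalance (core_eq_bot core_ne_bot conj_mul_apply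
  conj_mem_centralizer_iff mem_zpowers_of_fix)

universe u v

variable {F : Type u} [Field F] [Fintype F] {ι : Type} [Fintype ι] [DecidableEq ι]
variable {Q : QuadraticForm F (ι → F)}

theorem conj_injective (hQ : (QuadraticMap.polarBilin Q).Nondegenerate) (f : Frame Q)
    (hn : 5 ≤ Fintype.card ι) :
    Function.Injective (MulAut.conj : Cfsg.POmega F ⇑Q →* MulAut (Cfsg.POmega F ⇑Q)) := by
  refine (injective_iff_map_eq_one _).2 fun k hk => ?_
  induction k using QuotientGroup.induction_on with | H s => ?_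
  rw [conj_mk_eq, gAut_eq_one_iff hQ f hn] at hk
  obtain ⟨a, ha⟩ := hk
  refine (QuotientGroup.eq_one_iff _).2 (Subgroup.mem_center_iff.2 fun t =>
    Subtype.ext (ofIso_injective ?_))
  show ofIso Q (t.1 * s.1) = ofIso Q (s.1 * t.1)
  rw [map_mul, map_mul, ha, scal_comm]

/-- Transfer of the criterion to a conjugate. -/
theorem transfer {G : Type u} [Group G] [Finite G] (p : ℕ) (b y : MulAut G)
    (h : ∀ A' : Subgroup (MulAut G), (∀ k, MulAut.conj k ∈ A') →
      (Cfsg.pPrimeCore p ↥(A' ⊓ Subgroup.centralizer {y}) ≠ ⊥ ↔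
        Nat.Coprime p (Nat.card ↥(MonoidHom.eqLocus y.toMonoidHom (MonoidHom.id G)))))
    (A : Subgroup (MulAut G)) (hinn : ∀ k, MulAut.conj k ∈ A) :
    Cfsg.pPrimeCore p ↥(A ⊓ Subgroup.centralizer {b * y * b⁻¹}) ≠ ⊥ ↔
      Nat.Coprime p (Nat.card ↥(MonoidHom.eqLocus (b * y * b⁻¹).toMonoidHom (MonoidHom.id G))) := by
  set c := (MulAut.conj b : MulAut (MulAut G))
  have hinn' : ∀ k, MulAut.conj k ∈ A.comap c.toMonoidHom := fun k => by
    show b * MulAut.conj k * b⁻¹ ∈ A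
    rw [conj_mul_apply, mul_inv_cancel_right]
    exact hinn _
  have hmap : (A.comap c.toMonoidHom ⊓ Subgroup.centralizer {y}).map c.toMonoidHom =
      A ⊓ Subgroup.centralizer {b * y * b⁻¹} :=
    map_inf_centralizer c _ A (fun g => Iff.rfl) y
  have e := ((A.comap c.toMonoidHom ⊓ Subgroup.centralizer {y}).equivMapOfInjective c.toMonoidHom
    c.injective).trans (MulEquiv.subgroupCongr hmap)
  have hcore := PLocal.Cores.map_pPrimeCore_equiv (p := p) e
  have hcard : Nat.card (MonoidHom.eqLocus (b * y * b⁻¹).toMonoidHom (MonoidHom.id G)) =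
      Nat.card (MonoidHom.eqLocus y.toMonoidHom (MonoidHom.id G)) := by
    refine Nat.card_congr (Equiv.subtypeEquiv b.symm.toEquiv fun k => ?_)
    change b (y (b.symm k)) = k ↔ y (b.symm k) = b.symm k
    exact b.eq_symm_apply.symm
  rw [hcard, ← hcore, Ne, Subgroup.map_eq_bot_iff_of_injective _ e.injective]
  exact h _ hinn'

variable {K : Type v} [Field K] [Fintype K] {φ : K →+* F} {σ : F ≃+* F}
variable {P₀ : QuadraticForm K (ι → K)}

theorem act_mapIso_vmap (hP : Ext φ P₀ Q) (h : Cfsg.isometryGroup K ⇑P₀) (y : ι → K) :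
    act ((stdDesc (σ := σ) P₀ hP).mapIso h) (vmap φ y) = vmap φ (act h y) := by
  have h1 := (stdDesc (σ := σ) P₀ hP).mat_map (ofIso P₀ h) (vmap φ y)
  rw [Desc.map_ofIso, ofIso_mulVec] at h1
  refine h1.trans (funext fun i => ?_)
  show ((mat (ofIso P₀ h)).map φ *ᵥ vmap φ y) i = φ (act h y i)
  rw [← ofIso_mulVec]
  exact (RingHom.map_mulVec φ _ y i).symm

/-- The action of the rational group. -/
noncomputable def psi (hP : Ext φ P₀ Q) (σ : F ≃+* F) :
    ↥(Cfsg.Omega K ⇑P₀) →* MulAut (Cfsg.POmega F ⇑Q) :=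
  (gAut Q).comp ((stdDesc (σ := σ) P₀ hP).map.comp ((ofIso P₀).comp (Cfsg.Omega K ⇑P₀).subtype))

theorem mapIso_mem_omega (hP : Ext φ P₀ Q) (s : ↥(Cfsg.Omega K ⇑P₀)) :
    (stdDesc (σ := σ) P₀ hP).mapIso s.1 ∈ Cfsg.Omega F ⇑Q := by
  have h : (commutator (Cfsg.isometryGroup K ⇑P₀)).map (stdDesc (σ := σ) P₀ hP).mapIso ≤
      commutator (Cfsg.isometryGroup F ⇑Q) := by
    rw [commutator_def, commutator_def, Subgroup.map_commutator]
    exact Subgroup.commutator_mono le_top le_top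
  exact h ⟨s.1, s.2, rfl⟩

theorem psi_apply (hP : Ext φ P₀ Q) (σ : F ≃+* F) (s : ↥(Cfsg.Omega K ⇑P₀)) :
    psi hP σ s = gAut Q (ofIso Q ((stdDesc (σ := σ) P₀ hP).mapIso s.1)) := by
  rw [psi, MonoidHom.comp_apply, MonoidHom.comp_apply, MonoidHom.comp_apply, Subgroup.coe_subtype,
    Desc.map_ofIso]

theorem psi_eq_conj (hP : Ext φ P₀ Q) (σ : F ≃+* F) (s : ↥(Cfsg.Omega K ⇑P₀)) :
    psi hP σ s = MulAut.conj (QuotientGroup.mk ⟨_, mapIso_mem_omega (σ := σ) hP s⟩ :
      Cfsg.POmega F ⇑Q) := by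
  rw [conj_mk_eq, psi_apply]

/-! ### The centraliser of the rational root elements -/

section rational

variable (hP : Ext φ P₀ Q) (hQ : (QuadraticMap.polarBilin Q).Nondegenerate) (f : Frame Q)
  (hn : 5 ≤ Fintype.card ι)
  (hQ₀ : (QuadraticMap.polarBilin P₀).Nondegenerate) (f₀ : Frame P₀)

include hQ f hn hQ₀ f₀

/-- Semisimilarities commuting with the rational root elements, up to scalars, fix them. -/
theorem fn_eich (Φ : Semi Q Q)
    (hcomm : ∀ s, (semP Φ : MulAut (Cfsg.POmega F ⇑Q)) * psi hP σ s = psi hP σ s * semP Φ)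
    {u w : ι → K} (hu : P₀ u = 0) (huw : QuadraticMap.polar P₀ u w = 0) (hu0 : u ≠ 0) (y : ι → F) :
    Φ.fn (y + QuadraticMap.polar Q y (vmap φ u) • vmap φ w
      - QuadraticMap.polar Q y (vmap φ w) • vmap φ u
      - (Q (vmap φ w) * QuadraticMap.polar Q y (vmap φ u)) • vmap φ u) =
    Φ.fn y + QuadraticMap.polar Q (Φ.fn y) (vmap φ u) • vmap φ w
      - QuadraticMap.polar Q (Φ.fn y) (vmap φ w) • vmap φ u
      - (Q (vmap φ w) * QuadraticMap.polar Q (Φ.fn y) (vmap φ u)) • vmap φ u := by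
  set U := vmap φ u
  set W := vmap φ w
  have hU : Q U = 0 := by rw [hP, hu, map_zero]
  have hUW : QuadraticMap.polar Q U W = 0 := by rw [hP.polar, huw, map_zero]
  set s : ↥(Cfsg.Omega K ⇑P₀) := ⟨eich u w hu huw,
    eGroup_mem_omega hQ₀ f₀ hn (eich_mem _ _ trivial trivial)⟩
  set E := (stdDesc (σ := σ) P₀ hP).mapIso s.1 with hEdef
  have hE : E = eich U W hU hUW := by
    refine Orth.act_ext fun x => ?_
    have hl : act E = act (eich U W hU hUW) := by
      refine (Pi.basisFun F ι).ext fun i => ?_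
      rw [Pi.basisFun_apply, ← vmap_single φ i, hEdef, act_mapIso_vmap, act_eich, act_eich]
      funext j
      simp [U, W, vmap, hP.polar, hP w]
    rw [hl]
  have hfix : ∀ x, act E x = x + QuadraticMap.polar Q x U • W - QuadraticMap.polar Q x W • U
      - (Q W * QuadraticMap.polar Q x U) • U := fun x => by rw [hE, act_eich]
  have h1 := hcomm s
  rw [psi_apply, ← hEdef, mul_gAut] at h1
  obtain ⟨a, ha⟩ := (gAut_eq_one_iff hQ f hn (semGO Φ (ofIso Q E) * (ofIso Q E)⁻¹)).1 (by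
    rw [map_mul, map_inv, mul_right_cancel h1, mul_inv_cancel])
  rw [mul_inv_eq_iff_eq_mul] at ha
  have key : ∀ x, Φ.fn (act E x) = (a : F) • act E (Φ.fn x) := fun x => by
    have h2 : mat (semGO Φ (ofIso Q E)) *ᵥ Φ.fn x = Φ.fn (mat (ofIso Q E) *ᵥ x) :=
      Φ.conjGL_fn _ x
    rw [ofIso_mulVec, ha, mat_mul, ← Matrix.mulVec_mulVec, scal_mulVec, ofIso_mulVec] at h2
    exact h2.symm
  have hU0 : U ≠ 0 := fun h0 => hu0 (vmap_injective φ (h0.trans (funext fun i => (map_zero φ).symm)))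
  have ha1 : (a : F) = 1 := by
    have h3 := key U
    rw [hE, act_eich_self, act_eich] at h3
    set z := Φ.fn U with hzdef
    have hz0 : z ≠ 0 := Φ.fn_ne_zero hU0
    have hBu := congrArg (fun t => QuadraticMap.polar Q t U) h3
    simp only [QuadraticMap.polar_smul_left, QuadraticMap.polar_add_left,
      QuadraticMap.polar_sub_left, smul_eq_mul, polar_self_zero hU,
      QuadraticMap.polar_comm _ W U, hUW, mul_zero, add_zero, sub_zero] at hBu
    by_cases h4 : QuadraticMap.polar Q z U = 0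
    · rw [h4, zero_smul, mul_zero, zero_smul, sub_zero, add_zero] at h3
      have hBw := congrArg (fun t => QuadraticMap.polar Q t W) h3
      simp only [QuadraticMap.polar_smul_left, QuadraticMap.polar_sub_left, smul_eq_mul, hUW,
        mul_zero, sub_zero] at hBw
      by_cases h5 : QuadraticMap.polar Q z W = 0
      · rw [h5, zero_smul, sub_zero] at h3
        exact (smul_left_injective F hz0 (show (1 : F) • z = (a : F) • z by rw [one_smul, ← h3])).symm
      · exact (mul_eq_right₀ h5).1 hBw.symm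
    · exact (mul_eq_right₀ h4).1 hBu.symm
  have h6 := key y
  rwa [ha1, one_smul, hfix, hfix] at h6

/-- A semisimilarity commuting with the rational group is scalar on the rational vectors. -/
theorem rational_scalar (Φ : Semi Q Q)
    (hcomm : ∀ s, (semP Φ : MulAut (Cfsg.POmega F ⇑Q)) * psi hP σ s = psi hP σ s * semP Φ) :
    ∃ c : F, c ≠ 0 ∧ (∀ t, Φ.σ (φ t) = φ t) ∧ ∀ y, Φ.fn (vmap φ y) = c • vmap φ y := by
  have key := fun {u w : ι → K} (hu : P₀ u = 0) (huw : QuadraticMap.polar P₀ u w = 0)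
    (hu0 : u ≠ 0) (y : ι → F) => fn_eich hP hQ f hn hQ₀ f₀ (σ := σ) Φ hcomm hu huw hu0 y
  -- an isotropic rational vector goes to a multiple of itself
  have step1 : ∀ u v w₀ e₀ : ι → K, IsPair P₀ u v → QuadraticMap.polar P₀ u w₀ = 0 →
      QuadraticMap.polar P₀ u e₀ = 0 → QuadraticMap.polar P₀ w₀ e₀ = 1 →
      ∃ c : F, c ≠ 0 ∧ Φ.fn (vmap φ u) = c • vmap φ u := by
    intro u v w₀ e₀ huv hw₀ he₀ hwe
    set U := vmap φ u
    set V := vmap φ v
    have hUV : QuadraticMap.polar Q U V = 1 := by rw [hP.polar, huv.huv, map_one]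
    have hU : Q U = 0 := by rw [hP, huv.hu, map_zero]
    set z := Φ.fn U with hz
    have h1 : ∀ w, QuadraticMap.polar P₀ u w = 0 → ∀ e : ι → F,
        QuadraticMap.polar Q z U * QuadraticMap.polar Q (vmap φ w) e
          - QuadraticMap.polar Q z (vmap φ w) * QuadraticMap.polar Q U e
          - Q (vmap φ w) * QuadraticMap.polar Q z U * QuadraticMap.polar Q U e = 0 := fun w hw e => by
      have h := key huv.hu hw huv.ne_zero.1 U
      rw [polar_self_zero hU, hP.polar, hw, map_zero] at h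
      simp only [zero_smul, mul_zero, sub_zero, add_zero, ← hz] at h
      have h' := congrArg (fun t => QuadraticMap.polar Q t e) h
      simp only [QuadraticMap.polar_sub_left, QuadraticMap.polar_add_left,
        QuadraticMap.polar_smul_left, smul_eq_mul] at h'
      linear_combination -h'
    have hzu : QuadraticMap.polar Q z U = 0 := by
      have h := h1 w₀ hw₀ (vmap φ e₀)
      rw [hP.polar, hP.polar, hwe, he₀, map_one, map_zero] at h
      simpa using h
    have h3 : ∀ w, QuadraticMap.polar P₀ u w = 0 → QuadraticMap.polar Q z (vmap φ w) = 0 :=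
      fun w hw => by
        have h := h1 w hw V
        rw [hzu, hUV] at h
        simpa using h
    refine ⟨QuadraticMap.polar Q z V, ?_, ?_⟩
    swap
    · refine sub_eq_zero.1 (hQ.1 _ fun e => ?_)
      suffices hl : QuadraticMap.polarBilin Q (z - QuadraticMap.polar Q z V • U) = 0 by rw [hl]; rfl
      refine (Pi.basisFun F ι).ext fun i => ?_
      rw [Pi.basisFun_apply, ← vmap_single φ i, LinearMap.zero_apply,
        QuadraticMap.polarBilin_apply_apply, QuadraticMap.polar_sub_left,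
        QuadraticMap.polar_smul_left, smul_eq_mul]
      set y : ι → K := Pi.single i 1
      have h4 := h3 (y - QuadraticMap.polar P₀ u y • v) (by
        rw [QuadraticMap.polar_sub_right, QuadraticMap.polar_smul_right, huv.huv]; simp)
      rw [show vmap φ (y - QuadraticMap.polar P₀ u y • v) =
          vmap φ y - φ (QuadraticMap.polar P₀ u y) • V from funext fun j => by simp [vmap, V],
        QuadraticMap.polar_sub_right, QuadraticMap.polar_smul_right, smul_eq_mul] at h4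
      rw [hP.polar u y]
      linear_combination h4
    · intro h0
      refine Φ.fn_ne_zero (v := U) (fun h => huv.ne_zero.1 (vmap_injective φ
        (h.trans (funext fun i => (map_zero φ).symm)))) ?_
      refine hQ.1 _ fun e => ?_
      suffices hl : QuadraticMap.polarBilin Q z = 0 by rw [← hz, hl]; rfl
      refine (Pi.basisFun F ι).ext fun i => ?_
      rw [Pi.basisFun_apply, ← vmap_single φ i, LinearMap.zero_apply,
        QuadraticMap.polarBilin_apply_apply]
      set y : ι → K := Pi.single i 1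
      have h4 := h3 (y - QuadraticMap.polar P₀ u y • v) (by
        rw [QuadraticMap.polar_sub_right, QuadraticMap.polar_smul_right, huv.huv]; simp)
      rw [show vmap φ (y - QuadraticMap.polar P₀ u y • v) =
          vmap φ y - φ (QuadraticMap.polar P₀ u y) • V from funext fun j => by simp [vmap, V],
        QuadraticMap.polar_sub_right, QuadraticMap.polar_smul_right, smul_eq_mul, h0, mul_zero,
        sub_zero] at h4
      exact h4
  obtain ⟨c, hc0, hc⟩ := step1 f₀.u f₀.v f₀.u' f₀.v' f₀.p f₀.uu' f₀.uv' f₀.p'.huv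
  obtain ⟨d, hd0, hd⟩ := step1 f₀.v f₀.u f₀.u' f₀.v'
    ⟨f₀.p.hv, f₀.p.hu, by rw [QuadraticMap.polar_comm]; exact f₀.p.huv⟩ f₀.vu' f₀.vv' f₀.p'.huv
  have hU : Q (vmap φ f₀.u) = 0 := by rw [hP, f₀.p.hu, map_zero]
  have hV : Q (vmap φ f₀.v) = 0 := by rw [hP, f₀.p.hv, map_zero]
  have hUV : QuadraticMap.polar Q (vmap φ f₀.u) (vmap φ f₀.v) = 1 := by rw [hP.polar, f₀.p.huv, map_one]
  have hVU : QuadraticMap.polar Q (vmap φ f₀.v) (vmap φ f₀.u) = 1 := by rw [QuadraticMap.polar_comm]; exact hUV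
  have hsmul : ∀ (s : F) (x : ι → F), Φ.fn (-(s • x)) = -(Φ.σ s • Φ.fn x) := fun s x => by
    rw [← neg_smul, Φ.fn_smul, map_neg, neg_smul]
  have hfn0 : Φ.fn 0 = 0 := by rw [← zero_smul F (0 : ι → F), Φ.fn_smul, map_zero, zero_smul, zero_smul]
  -- on the perpendicular space
  have step2 : ∀ x, QuadraticMap.polar P₀ f₀.u x = 0 → QuadraticMap.polar P₀ f₀.v x = 0 →
      Φ.fn (vmap φ x) = d • vmap φ x + (Φ.σ (φ (P₀ x)) * c - φ (P₀ x) * d) • (vmap φ f₀.u) ∧
      Φ.fn (vmap φ x) = c • vmap φ x + (Φ.σ (φ (P₀ x)) * d - φ (P₀ x) * c) • (vmap φ f₀.v) := by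
    intro x hux hvx
    have hXu : QuadraticMap.polar Q (vmap φ f₀.v) (vmap φ x) = 0 := by rw [hP.polar, hvx, map_zero]
    have hXv : QuadraticMap.polar Q (vmap φ f₀.u) (vmap φ x) = 0 := by rw [hP.polar, hux, map_zero]
    constructor
    · have h := key f₀.p.hu hux f₀.p.ne_zero.1 (vmap φ f₀.v)
      rw [hd, QuadraticMap.polar_smul_left, QuadraticMap.polar_smul_left, hVU, hXu, hP] at h
      simp only [one_smul, smul_eq_mul, mul_one, mul_zero, zero_smul, sub_eq_add_neg,
        neg_zero, add_zero, Φ.fn_add, hfn0, hsmul, hc, hd] at h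
      linear_combination (norm := module) h
    · have h := key f₀.p.hv hvx f₀.p.ne_zero.2 (vmap φ f₀.u)
      rw [hc, QuadraticMap.polar_smul_left, QuadraticMap.polar_smul_left, hUV, hXv, hP] at h
      simp only [one_smul, smul_eq_mul, mul_one, mul_zero, zero_smul, sub_eq_add_neg,
        neg_zero, add_zero, Φ.fn_add, hfn0, hsmul, hc, hd] at h
      linear_combination (norm := module) h
  have hXY : QuadraticMap.polar Q (vmap φ f₀.u') (vmap φ f₀.v') = 1 := by rw [hP.polar, f₀.p'.huv, map_one]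
  have hUY : QuadraticMap.polar Q (vmap φ f₀.u) (vmap φ f₀.v') = 0 := by rw [hP.polar, f₀.uv', map_zero]
  have hVY : QuadraticMap.polar Q (vmap φ f₀.v) (vmap φ f₀.v') = 0 := by rw [hP.polar, f₀.vv', map_zero]
  have hcd : d = c := by
    obtain ⟨h1, h2⟩ := step2 f₀.u' f₀.uu' f₀.vu'
    have h := congrArg (fun t => QuadraticMap.polar Q t (vmap φ f₀.v')) (h1.symm.trans h2)
    simpa [QuadraticMap.polar_add_left, QuadraticMap.polar_smul_left, hXY, hUY, hVY] using h
  have hτ : ∀ t, Φ.σ (φ t) = φ t := fun t => by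
    obtain ⟨h1, -⟩ := step2 (t • f₀.u') (by simp [QuadraticMap.polar_smul_right, f₀.uu'])
      (by simp [QuadraticMap.polar_smul_right, f₀.vu'])
    obtain ⟨h0, -⟩ := step2 f₀.u' f₀.uu' f₀.vu'
    have hv : vmap φ (t • f₀.u') = φ t • (vmap φ f₀.u') := funext fun j => by simp [vmap]
    rw [hv, Φ.fn_smul, h0] at h1
    have h := congrArg (fun s => QuadraticMap.polar Q s (vmap φ f₀.v')) h1
    simp [QuadraticMap.polar_add_left, QuadraticMap.polar_smul_left, hXY, hUY] at h
    exact mul_right_cancel₀ hd0 (by linear_combination h)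
  have hperp : ∀ x, QuadraticMap.polar P₀ f₀.u x = 0 → QuadraticMap.polar P₀ f₀.v x = 0 →
      Φ.fn (vmap φ x) = c • vmap φ x := fun x h1 h2 => by
    rw [(step2 x h1 h2).1, hτ, hcd, mul_comm, sub_self, zero_smul, add_zero]
  refine ⟨c, hc0, hτ, fun y => ?_⟩
  set a := QuadraticMap.polar P₀ y f₀.v
  set b := QuadraticMap.polar P₀ y f₀.u
  have hr := hperp (y - a • f₀.u - b • f₀.v)
    (by
      rw [QuadraticMap.polar_sub_right, QuadraticMap.polar_sub_right,
        QuadraticMap.polar_smul_right, QuadraticMap.polar_smul_right, f₀.p.huv,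
        polar_self_zero f₀.p.hu]
      simp [b, QuadraticMap.polar_comm _ f₀.u y])
    (by
      rw [QuadraticMap.polar_sub_right, QuadraticMap.polar_sub_right,
        QuadraticMap.polar_smul_right, QuadraticMap.polar_smul_right, f₀.p.hvu,
        polar_self_zero f₀.p.hv]
      simp [a, QuadraticMap.polar_comm _ f₀.v y])
  have e : vmap φ y = φ a • (vmap φ f₀.u) + φ b • (vmap φ f₀.v) + vmap φ (y - a • f₀.u - b • f₀.v) :=
    funext fun j => by simp [vmap]
  rw [e, Φ.fn_add, Φ.fn_add, Φ.fn_smul, Φ.fn_smul, hτ, hτ, hc, hd, hr, hcd]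
  module

/-- The centraliser of the rational group consists of field automorphisms over the subfield. -/
theorem semP_field (Φ : Semi Q Q)
    (hcomm : ∀ s, (semP Φ : MulAut (Cfsg.POmega F ⇑Q)) * psi hP σ s = psi hP σ s * semP Φ) :
    (∀ t, Φ.σ (φ t) = φ t) ∧
      ∃ hτ : Rat Q Φ.σ, (semP Φ : MulAut (Cfsg.POmega F ⇑Q)) = fAut Φ.σ hτ := by
  obtain ⟨c, hc0, hfix, hc⟩ := rational_scalar hP hQ f hn hQ₀ f₀ (σ := σ) Φ hcomm
  have hg : ∀ v, (Φ.g : Matrix ι ι F) *ᵥ v = c • v := by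
    intro v
    have hl : Matrix.toLin' (Φ.g : Matrix ι ι F) = c • LinearMap.id := by
      refine (Pi.basisFun F ι).ext fun i => ?_
      have h := hc (Pi.single i 1)
      rw [Semi.fn, show (fun j => Φ.σ (vmap φ (Pi.single i 1) j)) = vmap φ (Pi.single i 1) from
        funext fun j => hfix _, vmap_single] at h
      simpa using h
    simpa using LinearMap.congr_fun hl v
  have hQσ : ∀ v : ι → F, c * c * Q (fun i => Φ.σ (v i)) = (Φ.c : F) * Φ.σ (Q v) := fun v => by
    rw [← Φ.h v, hg, Orth.map_smul']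
  have hcc : (Φ.c : F) = c * c := by
    have h := hQσ (vmap φ f₀.x₀)
    rw [show (fun i => Φ.σ (vmap φ f₀.x₀ i)) = vmap φ f₀.x₀ from funext fun i => hfix _, hP,
      hfix] at h
    exact (mul_right_cancel₀ ((map_ne_zero φ).2 f₀.hx) h).symm
  have hτ : Rat Q Φ.σ := fun v => by
    have h := hQσ v
    rw [hcc] at h
    exact mul_left_cancel₀ (mul_ne_zero hc0 hc0) h
  refine ⟨hfix, hτ, MulEquiv.ext fun x => ?_⟩
  induction x using QuotientGroup.induction_on with | H s => ?_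
  refine congrArg QuotientGroup.mk (Subtype.ext (Subtype.ext ?_))
  show Φ.g * fld Φ.σ _ * Φ.g⁻¹ = 1 * fld Φ.σ _ * 1⁻¹
  rw [one_mul, inv_one, mul_one, mul_inv_eq_iff_eq_mul]
  refine Units.ext (Matrix.ext_iff_mulVec.2 fun v => ?_)
  rw [Units.val_mul, Units.val_mul, ← Matrix.mulVec_mulVec, ← Matrix.mulVec_mulVec, hg, hg,
    Matrix.mulVec_smul]

/-- A rational element of order `p` when `p` divides the number of fixed points. -/
theorem exists_rational_element {p : ℕ} [Fact p.Prime] (hpF : (p : F) ≠ 0) (hσ : Rat Q σ)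
    (hfix : ∀ y, σ (φ y) = φ y) (hsur : ∀ x, σ x = x → ∃ y, φ y = x)
    (hdvd : p ∣ Nat.card ↥(MonoidHom.eqLocus (fAut σ hσ).toMonoidHom
      (MonoidHom.id (Cfsg.POmega F ⇑Q)))) :
    ∃ s, psi hP σ s ≠ 1 ∧ psi hP σ s ^ p = 1 := by
  have hp : p.Prime := Fact.out
  have hq₀ : Fintype.card K ≠ 2 ∨ Fintype.card ι ≠ 4 := Or.inr (by omega)
  rcases hp.eq_two_or_odd' with rfl | hodd
  · have h2 : (2 : F) ≠ 0 := by exact_mod_cast hpF
    have h2K := two_ne_sub h2 φ
    set a := f₀.u + f₀.v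
    set b := f₀.u' + f₀.v'
    have hqa : P₀ a = 1 := by rw [map_add', f₀.p.hu, f₀.p.hv, f₀.p.huv]; ring
    have hqb : P₀ b = 1 := by rw [map_add', f₀.p'.hu, f₀.p'.hv, f₀.p'.huv]; ring
    have hab : QuadraticMap.polar P₀ a b = 0 := by
      simp [a, b, QuadraticMap.polar_add_left, QuadraticMap.polar_add_right, f₀.uu', f₀.uv',
        f₀.vu', f₀.vv']
    set t := reflect P₀ a * reflect P₀ b
    have hta : ∀ x, act t x = x - QuadraticMap.polar P₀ a x • a - QuadraticMap.polar P₀ b x • b :=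
      fun x => by
        rw [act_mul, act_reflect, act_reflect, hqa, hqb]
        simp only [inv_one, one_mul, QuadraticMap.polar_sub_right, QuadraticMap.polar_smul_right,
          hab, smul_eq_mul, mul_zero, sub_zero]
        abel
    have hmem : t ∈ Cfsg.Omega K ⇑P₀ := by
      rw [mem_omega_iff hQ₀ hq₀, map_mul, theta_reflect hQ₀ hq₀ (by rw [hqa]; exact one_ne_zero),
        theta_reflect hQ₀ hq₀ (by rw [hqb]; exact one_ne_zero), hqa, hqb, chi_one]
      rfl
    refine ⟨⟨t, hmem⟩, fun h => ?_, ?_⟩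
    · have h1 : ofIso P₀ t ∈ (gAut P₀).ker := by
        rw [← (stdDesc (σ := σ) P₀ hP).ker_eq hQ f hn hQ₀ f₀ hn]
        exact h
      obtain ⟨l, hl⟩ := (gAut_eq_one_iff hQ₀ f₀ hn _).1 h1
      have e : ∀ x, act t x = (l : K) • x := fun x => by rw [← ofIso_mulVec, hl, scal_mulVec]
      have e1 := congrArg (fun z => QuadraticMap.polar P₀ z f₀.x₀) (e f₀.x₀)
      simp only [hta, a, b, QuadraticMap.polar_add_left, f₀.ux, f₀.vx, f₀.u'x, f₀.v'x, add_zero,
        zero_smul, sub_zero, QuadraticMap.polar_smul_left, smul_eq_mul, polar_self'] at e1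
      have e2 := congrArg (fun z => QuadraticMap.polar P₀ z f₀.v) (e a)
      simp only [hta, hab, QuadraticMap.polar_sub_left, QuadraticMap.polar_smul_left, smul_eq_mul,
        polar_self', hqa, zero_smul, sub_zero, mul_one, QuadraticMap.polar_comm _ b a] at e2
      have e3 : QuadraticMap.polar P₀ a f₀.v = 1 := by
        simp [a, QuadraticMap.polar_add_left, f₀.p.huv, polar_self_zero f₀.p.hv]
      rw [e3] at e2
      have hl1 : (l : K) = 1 :=
        mul_right_cancel₀ (mul_ne_zero h2K f₀.hx) (by linear_combination -e1)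
      rw [hl1] at e2
      exact h2K (by linear_combination -e2)
    · rw [← map_pow, show (⟨t, hmem⟩ : ↥(Cfsg.Omega K ⇑P₀)) ^ 2 = 1 from Subtype.ext
        (Orth.act_ext fun x => by
          show act (t ^ 2) x = act 1 x
          rw [sq, act_mul, act_one, hta, hta]
          simp only [QuadraticMap.polar_sub_right, QuadraticMap.polar_smul_right, polar_self', hqa,
            hqb, hab, QuadraticMap.polar_comm _ b a, smul_eq_mul]
          module), map_one]
  · obtain ⟨⟨k, hk⟩, hko⟩ := exists_prime_orderOf_dvd_card' p hdvd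
    have hinj := conj_injective hQ f hn
    have hko' : orderOf (MulAut.conj k) = p := by
      rw [orderOf_injective _ hinj, ← hko, Subgroup.orderOf_mk]
    have hmem : MulAut.conj k ∈ (gAut Q).range ⊓
        Subgroup.centralizer {gAut Q 1 * fAut σ hσ} := by
      refine ⟨?_, ?_⟩
      · induction k using QuotientGroup.induction_on with | H s => ?_
        exact ⟨_, (conj_mk_eq s).symm⟩
      · rw [map_one, one_mul]
        exact (conj_mem_centralizer_iff hinj _ k).2 hk
    rw [← (stdDesc (σ := σ) P₀ hP).range_centralizer hσ ⟨hfix, hsur⟩ hQ f hn f₀.hx] at hmem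
    obtain ⟨g, hg⟩ := hmem
    set μ := muC g
    have hiso : ∀ v, P₀ (mat ((scal P₀ μ)⁻¹ * (g * g)) *ᵥ v) = P₀ v := fun v => by
      have e : g * g = scal P₀ μ * ((scal P₀ μ)⁻¹ * (g * g)) := (mul_inv_cancel_left _ _).symm
      have e1 : P₀ (mat (g * g) *ᵥ v) = (μ : K) * μ * P₀ v := by
        rw [mat_mul, ← Matrix.mulVec_mulVec, muC_spec, muC_spec, mul_assoc]
      rw [e, mat_mul, ← Matrix.mulVec_mulVec, scal_mulVec, Orth.map_smul'] at e1
      exact mul_left_cancel₀ (mul_ne_zero μ.ne_zero μ.ne_zero) e1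
    set h := toIso _ hiso
    have hh : h * h ∈ Cfsg.Omega K ⇑P₀ := by
      rw [mem_omega_iff hQ₀ hq₀, map_mul]
      exact Prod.ext (Int.units_mul_self _) (Int.units_mul_self _)
    have hψ : psi hP σ ⟨h * h, hh⟩ = MulAut.conj k ^ 4 := by
      show ((gAut Q).comp (stdDesc (σ := σ) P₀ hP).map) (ofIso P₀ (h * h)) = _
      have hsc : ∀ a, ((gAut Q).comp (stdDesc (σ := σ) P₀ hP).map) (scal P₀ a) = 1 := fun a => by
        rw [MonoidHom.comp_apply, Desc.map_scal, gAut_scal]
      rw [map_mul (ofIso P₀), ofIso_toIso, map_mul, map_mul, map_mul, map_inv, hsc, inv_one,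
        one_mul, hg]
      simp only [pow_succ, pow_zero, one_mul, mul_assoc]
    refine ⟨⟨h * h, hh⟩, ?_, ?_⟩
    · rw [hψ]
      intro h4
      have h5 := orderOf_dvd_of_pow_eq_one h4
      rw [hko'] at h5
      have h6 := hp.dvd_of_dvd_pow (show p ∣ 2 ^ 2 from h5)
      rw [Nat.prime_dvd_prime_iff_eq hp Nat.prime_two] at h6
      subst h6
      exact absurd hodd (by decide)
    · rw [hψ, ← pow_mul, mul_comm, pow_mul]
      conv_lhs => rw [← hko', pow_orderOf_eq_one, one_pow]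

/-- A subgroup of `p'`-order normalised by the rational group is trivial. -/
theorem invariant_coprime_eq_bot {p : ℕ} [Fact p.Prime]
    (hel : ∃ s, psi hP σ s ≠ 1 ∧ psi hP σ s ^ p = 1)
    (N : Subgroup (MulAut (Cfsg.POmega F ⇑Q))) (hle : N ≤ (psi hP σ).range)
    (hinv : ∀ s, ∀ n ∈ N, psi hP σ s * n * (psi hP σ s)⁻¹ ∈ N)
    (hcop : (Nat.card N).Coprime p) : N = ⊥ := by
  set ψ := psi hP σ
  have hcent : ∀ z ∈ Subgroup.center ↥(Cfsg.Omega K ⇑P₀), ψ z = 1 := fun z hz => by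
    have h1 : ofIso P₀ z.1 ∈ (gAut P₀).ker := by
      rw [MonoidHom.mem_ker, ← conj_mk_eq z, (QuotientGroup.eq_one_iff z).2 hz, map_one]
    rw [← (stdDesc (σ := σ) P₀ hP).ker_eq hQ f hn hQ₀ f₀ hn] at h1
    exact h1
  set N' := N.comap ψ
  have hN' : N'.Normal := ⟨fun n hn s => by
    rw [Subgroup.mem_comap, map_mul, map_mul, map_inv]
    exact hinv s _ hn⟩
  have hS : IsSimpleGroup (Cfsg.POmega K ⇑P₀) := isSimpleGroup_POmega hQ₀ f₀ hn
  set π := QuotientGroup.mk' (Subgroup.center ↥(Cfsg.Omega K ⇑P₀))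
  rcases (hN'.map π (QuotientGroup.mk'_surjective _)).eq_bot_or_eq_top with h | h
  · rw [Subgroup.map_eq_bot_iff, QuotientGroup.ker_mk'] at h
    refine (Subgroup.eq_bot_iff_forall N).2 fun n hn' => ?_
    obtain ⟨t, rfl⟩ := hle hn'
    exact hcent t (h hn')
  · exfalso
    obtain ⟨s, hs1, hsp⟩ := hel
    obtain ⟨n, hn', hns⟩ := (h ▸ Subgroup.mem_top (π s) : π s ∈ N'.map π)
    have hz : ψ (n⁻¹ * s) = 1 := hcent _ (QuotientGroup.eq.1 hns)
    rw [map_mul, map_inv, inv_mul_eq_one] at hz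
    refine hs1 (orderOf_eq_one_iff.1 (Nat.eq_one_of_dvd_coprimes hcop ?_
      (orderOf_dvd_of_pow_eq_one hsp)))
    rw [← Subgroup.orderOf_mk (ψ s) (hz ▸ hn' : ψ s ∈ N)]
    exact orderOf_dvd_natCard _

end rational

/-- The criterion for a standard field automorphism. -/
theorem core_ne_bot_iff (S : Fundamental.Big3 Q) (hP : Ext φ P₀ Q) (f₀ : Frame P₀)
    (hσ : Rat Q σ) (hfix : ∀ y, σ (φ y) = φ y) (hsur : ∀ x, σ x = x → ∃ y, φ y = x)
    {p : ℕ} [Fact p.Prime] (hpF : (p : F) ≠ 0) (hσp : orderOf σ = p)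
    (A : Subgroup (MulAut (Cfsg.POmega F ⇑Q))) (hinn : ∀ k, MulAut.conj k ∈ A) :
    Cfsg.pPrimeCore p ↥(A ⊓ Subgroup.centralizer {fAut σ hσ}) ≠ ⊥ ↔
      Nat.Coprime p (Nat.card ↥(MonoidHom.eqLocus (fAut σ hσ).toMonoidHom
        (MonoidHom.id (Cfsg.POmega F ⇑Q)))) := by
  have hQ := S.hQ
  have hn := PointStab.hn5 S.toBig
  have hQ₀ := hP.nondeg hQ
  have hp : p.Prime := Fact.out
  have hinj := conj_injective hQ S.fr hn
  set x := fAut σ hσ with hx
  have hψmem : ∀ s, psi hP σ s ∈ A ⊓ Subgroup.centralizer {x} := fun s => by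
    refine ⟨psi_eq_conj hP σ s ▸ hinn _, ?_⟩
    have h := (stdDesc (σ := σ) P₀ hP).map_mem_centralizer hσ hfix (ofIso P₀ s.1)
    rwa [map_one, one_mul] at h
  constructor
  · contrapose!
    intro hcop
    have hdvd : p ∣ Nat.card (MonoidHom.eqLocus x.toMonoidHom (MonoidHom.id (Cfsg.POmega F ⇑Q))) :=
      not_not.1 fun h => hcop (hp.coprime_iff_not_dvd.2 h)
    have hel := exists_rational_element hP hQ S.fr hn hQ₀ f₀ hpF hσ hfix hsur hdvd
    set H := A ⊓ Subgroup.centralizer {x}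
    set D : Subgroup H := (Cfsg.Inn (Cfsg.POmega F ⇑Q)).subgroupOf H
    have : (Cfsg.Inn (Cfsg.POmega F ⇑Q)).Normal := inferInstance
    let ψH : ↥(Cfsg.Omega K ⇑P₀) →* H := (psi hP σ).codRestrict H hψmem
    refine core_eq_bot p D ψH.range ?_ ?_ ?_ ?_
    · rintro _ ⟨s, rfl⟩
      exact Subgroup.mem_subgroupOf.2 ⟨_, (psi_eq_conj hP σ s).symm⟩
    · rintro d hd _ ⟨s, rfl⟩
      have hdmem : (d : MulAut (Cfsg.POmega F ⇑Q)) ∈
          ((gAut Q).comp (stdDesc (σ := σ) P₀ hP).map).range := by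
        rw [(stdDesc (σ := σ) P₀ hP).range_centralizer hσ ⟨hfix, hsur⟩ hQ S.fr hn f₀.hx]
        refine ⟨?_, by rw [map_one, one_mul]; exact d.2.2⟩
        obtain ⟨k, hk⟩ := Subgroup.mem_subgroupOf.1 hd
        rw [← hk]
        induction k using QuotientGroup.induction_on with | H t => ?_
        exact ⟨_, (conj_mk_eq t).symm⟩
      obtain ⟨g, hg⟩ := hdmem
      refine ⟨conjOm P₀ g s, Subtype.ext ?_⟩
      show ((gAut Q).comp (stdDesc (σ := σ) P₀ hP).map) (ofIso P₀ (conjIso P₀ g s.1)) = _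
      rw [ofIso_conjIso, map_mul, map_mul, map_inv, hg]
      rfl
    · intro N hN hinv hcopN
      rw [← Subgroup.map_eq_bot_iff_of_injective N H.subtype_injective]
      refine invariant_coprime_eq_bot hP hQ S.fr hn hQ₀ f₀ hel _ ?_ ?_
        (by rwa [Subgroup.card_map_of_injective H.subtype_injective])
      · rintro _ ⟨n, hn, rfl⟩
        obtain ⟨s, rfl⟩ := hN hn
        exact ⟨s, rfl⟩
      · rintro s _ ⟨n, hn, rfl⟩
        exact ⟨ψH s * n * (ψH s)⁻¹, hinv (ψH s) ⟨s, rfl⟩ n hn, rfl⟩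
    · intro γ hγ
      obtain ⟨Φ, hΦ⟩ := exists_semi S (γ : MulAut (Cfsg.POmega F ⇑Q))
      obtain ⟨hτfix, hτ, he⟩ := semP_field hP hQ S.fr hn hQ₀ f₀ (σ := σ) Φ fun s => by
        rw [← hΦ]
        exact congrArg Subtype.val (hγ (ψH s) ⟨s, rfl⟩)
      obtain ⟨j, hj⟩ := Subgroup.mem_zpowers_iff.1
        (mem_zpowers_of_fix σ Φ.σ fun z hz => by
          obtain ⟨y, rfl⟩ := hsur z hz
          exact hτfix y)
      refine ⟨1, Subtype.ext ?_⟩
      have hτp : Φ.σ ^ p = 1 := by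
        rw [← hj, ← zpow_natCast, ← _root_.zpow_mul, mul_comm, _root_.zpow_mul, zpow_natCast,
          ← hσp, pow_orderOf_eq_one, _root_.one_zpow]
      rw [pow_one, SubmonoidClass.coe_pow, hΦ, he, fAut_pow, fAut_congr hτp _ Rat.one, fAut_one,
        OneMemClass.coe_one]
  · intro hcop
    refine core_ne_bot hinj A hinn x p ?_ hcop
    set s : ↥(Cfsg.Omega K ⇑P₀) := ⟨eich f₀.u f₀.u' f₀.p.hu f₀.uu',
      eGroup_mem_omega hQ₀ f₀ hn (eich_mem _ _ trivial trivial)⟩
    refine ⟨QuotientGroup.mk ⟨_, mapIso_mem_omega (σ := σ) hP s⟩, fun h => ?_, ?_⟩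
    · have h1 : psi hP σ s = 1 := by rw [psi_eq_conj, h, map_one]
      have h2 : ofIso P₀ s.1 ∈ (gAut P₀).ker := by
        rw [← (stdDesc (σ := σ) P₀ hP).ker_eq hQ S.fr hn hQ₀ f₀ hn]
        exact h1
      obtain ⟨l, hl⟩ := (gAut_eq_one_iff hQ₀ f₀ hn _).1 h2
      have h3 : act s.1 f₀.v = (l : K) • f₀.v := by rw [← ofIso_mulVec, hl, scal_mulVec]
      rw [act_eich, f₀.vu', f₀.p'.hu, f₀.p.hvu] at h3
      have h4 := congrArg (fun z => QuadraticMap.polar P₀ z f₀.v') h3
      simp [QuadraticMap.polar_add_left, QuadraticMap.polar_smul_left, f₀.vv', f₀.p'.huv] at h4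
    · have h1 := (hψmem s).2
      rw [psi_eq_conj] at h1
      exact (conj_mem_centralizer_iff hinj _ _).1 h1

/-- Odd dimension. -/
theorem main_odd {m : ℕ} (hm : 3 ≤ m) (h2 : (2 : F) ≠ 0)
    {Q' : (Unit ⊕ (Fin m ⊕ Fin m) → F) → F} (hQ' : Q' = ⇑(oddQ F m))
    (A : Subgroup (MulAut (Cfsg.POmega F Q'))) (hinn : ∀ k, MulAut.conj k ∈ A)
    {p : ℕ} [Fact p.Prime] (hpF : (p : F) ≠ 0) (x : MulAut (Cfsg.POmega F Q'))
    (hord : orderOf x = p) (hnot : ¬ Cfsg.IsSimilarityInducedAutPOmega Q' x) :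
    Cfsg.pPrimeCore p ↥(A ⊓ Subgroup.centralizer {x}) ≠ ⊥ ↔
      (Cfsg.IsFieldAutClassPOmega Q' x ∧ Nat.Coprime p (Nat.card
        ↥(MonoidHom.eqLocus x.toMonoidHom (MonoidHom.id (Cfsg.POmega F Q'))))) := by
  subst hQ'
  set S := Standard.oddBig (F := F) h2 hm
  have hn := PointStab.hn5 S.toBig
  have hp : p.Prime := Fact.out
  obtain ⟨Φ, rfl⟩ := exists_semi S x
  have hτ := FieldStd.rat_odd Φ.σ m
  obtain ⟨G, hG⟩ := GraphFieldCent.semP_eq Φ hτ
  have hxp : (gAut (oddQ F m) G * fAut Φ.σ hτ) ^ p = 1 := by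
    rw [← hG, ← hord, pow_orderOf_eq_one]
  have hσ1 : Φ.σ ≠ 1 := fun h => hnot ⟨G.1, G.2, (isInduced_iff G _).2 (by
    rw [hG, fAut_congr h hτ Rat.one, fAut_one, mul_one])⟩
  have hσp : orderOf Φ.σ = p := by
    refine orderOf_eq_prime ?_ hσ1
    have h := hxp
    rw [pow_gAut_fAut, fAut_pow] at h
    exact (gAut_mul_fAut_eq_one S.hQ S.fr hn _ h).1
  obtain ⟨b, -, hb⟩ := conj_odd_dim S.hQ S.fr hn (M := m) (by simp; omega) hσp hxp
  have hx' : (semP Φ : MulAut (Cfsg.POmega F ⇑(oddQ F m))) = b * fAut Φ.σ hτ * b⁻¹ := hG.trans hb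
  have hclass : Cfsg.IsFieldAutClassPOmega ⇑(oddQ F m) (semP Φ) :=
    ⟨b⁻¹, fAut Φ.σ hτ, Φ.σ, hσ1, (fAut_iff hτ _).2 rfl, by rw [hx']; group⟩
  rw [and_iff_right hclass, hx']
  let _ : Fintype (Fix Φ.σ) := Fintype.ofFinite _
  refine transfer p b _ (fun A' hA' => ?_) A hinn
  exact core_ne_bot_iff S (ext_oddQ (Fix Φ.σ).subtype m) (oddFrame (Fix Φ.σ) (by omega)) hτ
    (fun y => y.2) (fun z hz => ⟨⟨z, hz⟩, rfl⟩) hpF hσp A' hA'

end Cfsg.Agent.AutPOmega.LocalBalance
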