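import Cfsg.Agent.Lib.AutPOmega.Basic
import Cfsg.Agent.Lib.AutPOmega.Groups
import Cfsg.Agent.Lib.Forms.SpecialOrth

/-!
# The image of the conformal group modulo inner automorphisms, odd characteristic, even dimension
-/

set_option autoImplicit false
set_option linter.unusedSectionVars false
set_option linter.unusedVariables false

namespace Cfsg.Agent.AutPOmega

open Matrix Cfsg.Agent.Forms Cfsg.Agent.Forms.QuadStd Cfsg.Agent.Forms.Reflections
open Cfsg.Agent.Classical Cfsg.Agent.Classical.Orth Cfsg.Agent.Classical.OmegaCrit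

universe u

variable {F : Type u} [Field F] [Fintype F] {ι : Type} [Fintype ι] [DecidableEq ι]
variable {Q : QuadraticForm F (ι → F)}

local notation "Iso" => Cfsg.isometryGroup F (DFunLike.coe Q)

/-- The standing hypotheses: odd characteristic, dimension `2 M`, a frame, and a similarity of
determinant `c ^ M` for every factor `c`. -/
structure Setup (Q : QuadraticForm F (ι → F)) (M : ℕ) where
  h2 : (2 : F) ≠ 0
  hQ : (QuadraticMap.polarBilin Q).Nondegenerate
  fr : Frame Q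
  hn : 5 ≤ Fintype.card ι
  hM : Fintype.card ι = 2 * M
  hD : ∀ c : Fˣ, ∃ d : GO Q, muC d = c ∧ (mat d).det = (c : F) ^ M

theorem units_cast_eq_one {e : ℤˣ} (h2 : (2 : F) ≠ 0) (h : (((e : ℤˣ) : ℤ) : F) = 1) : e = 1 := by
  rcases Int.units_eq_one_or e with rfl | rfl
  · rfl
  · refine absurd ?_ h2
    push_cast at h
    linear_combination -h

variable {M : ℕ}

open scoped _root_.Classical in
/-- The sign `det g / μ ^ M`. -/
noncomputable def dsg (g : GO Q) : ℤˣ := if (mat g).det = (muC g : F) ^ M then 1 else -1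

variable (Q) in
/-- The similarities inducing inner automorphisms. -/
def innPre : Subgroup (GO Q) := (Cfsg.Inn (Cfsg.POmega F ⇑Q)).comap (gAut Q)

instance innPre_normal : (innPre Q).Normal := by
  unfold innPre
  infer_instance

/-- `−1 ∈ Ω`. -/
def NegMem (Q : QuadraticForm F (ι → F)) : Prop :=
  ∃ g : Cfsg.isometryGroup F ⇑Q, g ∈ Cfsg.Omega F ⇑Q ∧
    ((g : GL ι F) : Matrix ι ι F) = -1

variable (S : Setup Q M)

namespace Setup

include S

theorem hq : Fintype.card F ≠ 2 ∨ Fintype.card ι ≠ 4 := Or.inr (by have := S.hn; omega)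

theorem muC_one_of (g : GO Q) (h : ∀ v, Q (mat g *ᵥ v) = Q v) : muC g = 1 :=
  Units.ext (muC_eq S.fr.hx (by simpa using h))

theorem muC_mul (g h : GO Q) : muC (g * h) = muC g * muC h :=
  Units.ext (muC_eq S.fr.hx fun v => by
    rw [mat_mul, ← Matrix.mulVec_mulVec, muC_spec, muC_spec, Units.val_mul, mul_assoc])

/-- The factor as a homomorphism. -/
noncomputable def muH : GO Q →* Fˣ := MonoidHom.mk' muC S.muC_mul

theorem muH_apply (g : GO Q) : S.muH g = muC g := rfl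

theorem muC_scal (a : Fˣ) : muC (scal Q a) = a * a :=
  Units.ext (muC_eq S.fr.hx fun v => by
    rw [scal_mulVec, QuadraticMap.map_smul, Units.val_mul, smul_eq_mul])

theorem det_scal (a : Fˣ) : (mat (scal Q a)).det = (a : F) ^ (2 * M) := by
  rw [← S.hM]
  simp [mat, scal, Matrix.det_diagonal]

theorem muC_ofIso (h : Iso) : muC (ofIso Q h) = 1 :=
  S.muC_one_of _ fun v => by rw [ofIso_mulVec, act_map]

/-- A similarity is the product of an isometry and the standard similarity of its factor. -/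
theorem exists_iso_mul (g : GO Q) : ∃ (h : Iso) (d : GO Q), muC d = muC g ∧
    (mat d).det = (muC g : F) ^ M ∧ g = ofIso Q h * d := by
  obtain ⟨d, hd, hdd⟩ := S.hD (muC g)
  have h1 : ∀ v, Q (mat (g * d⁻¹) *ᵥ v) = Q v := fun v => by
    rw [muC_spec, show muC (g * d⁻¹) = 1 by
      rw [← S.muH_apply, map_mul, map_inv, S.muH_apply, S.muH_apply, hd, mul_inv_cancel],
      Units.val_one, one_mul]
  exact ⟨toIso _ h1, d, hd, hdd, by rw [ofIso_toIso, inv_mul_cancel_right]⟩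

theorem det_eq_dsg (g : GO Q) : (mat g).det = (((dsg (M := M) g : ℤˣ) : ℤ) : F) * (muC g : F) ^ M := by
  classical
  obtain ⟨h, d, hd, hdd, he⟩ := S.exists_iso_mul g
  have e : (mat g).det = (((par h : ℤˣ) : ℤ) : F) * (muC g : F) ^ M := by
    conv_lhs => rw [he]
    rw [mat_mul, det_mul, hdd, mat_ofIso, det_eq_par S.hQ S.hq]
  rw [dsg]
  split_ifs with hh
  · rw [hh]; simp
  · rw [e]
    rcases Int.units_eq_one_or (par h) with hp | hp
    · exact absurd (by rw [e, hp]; simp) hh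
    · rw [hp]

/-- `det g / μ ^ M` as a homomorphism. -/
noncomputable def dsgH : GO Q →* ℤˣ :=
  MonoidHom.mk' (dsg (M := M)) fun g h => by
    have e := S.det_eq_dsg (g * h)
    rw [mat_mul, det_mul, S.det_eq_dsg g, S.det_eq_dsg h, S.muC_mul g h, Units.val_mul, mul_pow] at e
    have hg : ((muC g : F) ^ M * (muC h : F) ^ M) ≠ 0 :=
      mul_ne_zero (pow_ne_zero _ (muC g).ne_zero) (pow_ne_zero _ (muC h).ne_zero)
    set a := dsg (M := M) g
    set b := dsg (M := M) h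
    set c := dsg (M := M) (g * h)
    have e2 : ((((a * b) * c : ℤˣ) : ℤ) : F) = 1 := by
      have e3 : (((a : ℤ) : F) * ((b : ℤ) : F)) = ((c : ℤ) : F) :=
        mul_right_cancel₀ hg (by linear_combination e)
      rw [Units.val_mul, Units.val_mul, Int.cast_mul, Int.cast_mul, e3, ← Int.cast_mul,
        ← Units.val_mul, Int.units_mul_self]
      simp
    have e4 := units_cast_eq_one S.h2 e2
    exact ((mul_eq_one_iff_eq_inv.1 e4).trans (Int.units_inv_eq_self c)).symm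

theorem dsgH_eq_one_iff (g : GO Q) : S.dsgH g = 1 ↔ (mat g).det = (muC g : F) ^ M := by
  classical
  refine ⟨fun h => ?_, fun h => if_pos h⟩
  rw [S.det_eq_dsg g, show dsg (M := M) g = 1 from h]
  simp

theorem dsgH_ofIso (h : Iso) : S.dsgH (ofIso Q h) = par h := by
  have e := S.det_eq_dsg (ofIso Q h)
  rw [S.muC_ofIso, Units.val_one, one_pow, mul_one, mat_ofIso, det_eq_par S.hQ S.hq] at e
  have e2 : ((((par h) * dsg (M := M) (ofIso Q h) : ℤˣ) : ℤ) : F) = 1 := by
    rw [Units.val_mul, Int.cast_mul, e, ← Int.cast_mul, ← Units.val_mul, Int.units_mul_self]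
    simp
  exact ((mul_eq_one_iff_eq_inv.1 (units_cast_eq_one S.h2 e2)).trans (Int.units_inv_eq_self _)).symm

theorem dsgH_scal (a : Fˣ) : S.dsgH (scal Q a) = 1 := by
  rw [dsgH_eq_one_iff, S.det_scal, S.muC_scal, Units.val_mul, ← sq, ← pow_mul]

/-- `(chi μ, det g / μ ^ M)`. -/
noncomputable def psi : GO Q →* ℤˣ × ℤˣ :=
  ((MonoidHom.mk' (fun c : Fˣ => chi (c : F)) fun a b => by
    rw [Units.val_mul, chi_mul a.ne_zero b.ne_zero]).comp S.muH).prod S.dsgH

theorem psi_apply (g : GO Q) : S.psi g = (chi (muC g : F), S.dsgH g) := rfl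

theorem psi_scal (a : Fˣ) : S.psi (scal Q a) = 1 := by
  rw [psi_apply, S.muC_scal, S.dsgH_scal, Units.val_mul, chi_eq_one_iff.2 ⟨(a : F), rfl⟩]
  rfl

theorem mem_soGO_iff (g : GO Q) :
    g ∈ soGO Q ↔ ∃ h : Iso, par h = 1 ∧ ofIso Q h = g := by
  constructor
  · rintro ⟨h, hh, rfl⟩
    refine ⟨h, units_cast_eq_one S.h2 ?_, rfl⟩
    rw [← det_eq_par S.hQ S.hq]
    exact (SpecialOrth.mem_special).1 hh
  · rintro ⟨h, hh, rfl⟩
    exact ⟨h, (SpecialOrth.mem_special).2 (by rw [det_eq_par S.hQ S.hq, hh]; simp), rfl⟩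

theorem mem_ker_psi_iff (g : GO Q) :
    g ∈ S.psi.ker ↔ ∃ (a : Fˣ) (h : Iso), par h = 1 ∧ g = scal Q a * ofIso Q h := by
  rw [MonoidHom.mem_ker]
  constructor
  · intro hg
    have h1 : chi (muC g : F) = 1 := congrArg Prod.fst hg
    have hd : S.dsgH g = 1 := congrArg Prod.snd hg
    obtain ⟨r, hr⟩ := chi_eq_one_iff.1 h1
    have hr0 : r ≠ 0 := fun h0 => (muC g).ne_zero (by rw [hr, h0, mul_zero])
    set a := Units.mk0 r hr0
    have hu : muC g = a * a := Units.ext (by simp [a, hr])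
    have h2 : ∀ v, Q (mat ((scal Q a)⁻¹ * g) *ᵥ v) = Q v := fun v => by
      rw [muC_spec, show muC ((scal Q a)⁻¹ * g) = 1 by
        rw [← S.muH_apply, map_mul, map_inv, S.muH_apply, S.muH_apply, S.muC_scal, hu,
          inv_mul_cancel], Units.val_one, one_mul]
    refine ⟨a, toIso _ h2, ?_, by rw [ofIso_toIso, mul_inv_cancel_left]⟩
    rw [← S.dsgH_ofIso, ofIso_toIso, map_mul, map_inv, S.dsgH_scal, hd, inv_one, one_mul]
  · rintro ⟨a, h, hh, rfl⟩
    rw [map_mul, S.psi_scal, one_mul, psi_apply, S.muC_ofIso, S.dsgH_ofIso, hh, Units.val_one,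
      chi_one]
    rfl

theorem map_ker_psi : S.psi.ker.map (gAut Q) = Cfsg.psoAut F ⇑Q := by
  rw [psoAut_eq]
  refine le_antisymm ?_ ?_
  · rintro _ ⟨g, hg, rfl⟩
    obtain ⟨a, h, hh, rfl⟩ := (S.mem_ker_psi_iff g).1 hg
    rw [map_mul, gAut_scal, one_mul]
    exact ⟨_, (S.mem_soGO_iff _).2 ⟨h, hh, rfl⟩, rfl⟩
  · rintro _ ⟨g, hg, rfl⟩
    obtain ⟨h, hh, rfl⟩ := (S.mem_soGO_iff g).1 hg
    exact ⟨_, (S.mem_ker_psi_iff _).2 ⟨1, h, hh, by rw [scal_one, one_mul]⟩, rfl⟩

theorem exists_nonsq : ∃ c : Fˣ, chi (c : F) = -1 := by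
  obtain ⟨c, hc, hc'⟩ := exists_nonsquare (F := F) S.h2
  exact ⟨Units.mk0 c hc, hc'⟩

theorem psi_surjective : Function.Surjective S.psi := by
  obtain ⟨c, hc⟩ := S.exists_nonsq
  obtain ⟨d, hd, hdd⟩ := S.hD c
  have e1 : S.psi d = (-1, 1) := by
    rw [psi_apply, hd, hc, (S.dsgH_eq_one_iff d).2 (by rw [hd]; exact hdd)]
  have e2 : S.psi (ofIso Q (reflect Q S.fr.x₀)) = (1, -1) := by
    rw [psi_apply, S.muC_ofIso, S.dsgH_ofIso, par_reflect S.hQ S.fr.hx, Units.val_one, chi_one]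
  rintro ⟨p, s⟩
  rcases Int.units_eq_one_or p with rfl | rfl <;> rcases Int.units_eq_one_or s with rfl | rfl
  · exact ⟨1, map_one _⟩
  · exact ⟨_, e2⟩
  · exact ⟨_, e1⟩
  · exact ⟨d * ofIso Q (reflect Q S.fr.x₀), by rw [map_mul, e1, e2]; rfl⟩

theorem ker_gAut_le_psi : (gAut Q).ker ≤ S.psi.ker := fun g hg => by
  obtain ⟨a, rfl⟩ := (gAut_eq_one_iff S.hQ S.fr S.hn g).1 hg
  exact S.psi_scal a

/-- `PGO / PSO` is a four-group. -/
theorem pgo_mod_pso : ∃ φ : ↥(Cfsg.pgoAut F ⇑Q) →* Multiplicative (ZMod 2 × ZMod 2),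
    Function.Surjective φ ∧ φ.ker = (Cfsg.psoAut F ⇑Q).subgroupOf (Cfsg.pgoAut F ⇑Q) := by
  refine Groups.exists_quot_hom (gAut Q) (Groups.signPair.comp S.psi)
    (Groups.signPair_bijective.2.comp S.psi_surjective) ?_ _ ?_ _ pgoAut_eq
  · rw [MonoidHom.ker_comp_of_injective _ _ Groups.signPair_bijective.1]
    exact S.ker_gAut_le_psi
  · rw [MonoidHom.ker_comp_of_injective _ _ Groups.signPair_bijective.1, S.map_ker_psi]

/-! ### Inner automorphisms -/

theorem neg_iso : ∃ h : Iso, ofIso Q h = scal Q (-1) ∧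
    ((h : GL ι F) : Matrix ι ι F) = -1 := by
  refine ⟨toIso (scal Q (-1)) fun v => ?_, ofIso_toIso _ _, ?_⟩
  · rw [scal_mulVec, QuadraticMap.map_smul]
    simp
  · refine Matrix.ext_iff_mulVec.2 fun v => ?_
    show mat (scal Q (-1)) *ᵥ v = _
    rw [scal_mulVec]
    simp [Matrix.neg_mulVec]

theorem theta_eq_snd {h : Iso} (hp : par h = 1) :
    theta S.hQ S.hq h = (1, (theta S.hQ S.hq h).2) := Prod.ext hp rfl

theorem innPre_le : innPre Q ≤ S.psi.ker := fun g hg => by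
  obtain ⟨a, s, hs, rfl⟩ := (gAut_mem_inn_iff S.hQ S.fr S.hn g).1 hg
  exact (S.mem_ker_psi_iff _).2
    ⟨a, s, congrArg Prod.fst ((mem_omega_iff S.hQ S.hq s).1 hs), rfl⟩

theorem exists_sgn_neg : ∃ h : Iso, par h = 1 ∧ theta S.hQ S.hq h = (1, -1) := by
  obtain ⟨c, hc⟩ := S.exists_nonsq
  obtain ⟨v, hv⟩ := Spinor.exists_value S.hQ S.h2 (by have := S.hn; omega) c.ne_zero
  obtain ⟨w, hw⟩ := Spinor.exists_value S.hQ S.h2 (by have := S.hn; omega) (one_ne_zero (α := F))
  have e : theta S.hQ S.hq (reflect Q v * reflect Q w) = (1, -1) := by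
    rw [map_mul, theta_reflect S.hQ S.hq (by rw [hv]; exact c.ne_zero),
      theta_reflect S.hQ S.hq (by rw [hw]; exact one_ne_zero), hv, hw, hc, chi_one]
    rfl
  exact ⟨_, congrArg Prod.fst e, e⟩

theorem ofIso_mem_innPre_iff (hneg : NegMem Q) (h : Iso) :
    ofIso Q h ∈ innPre Q ↔ h ∈ Cfsg.Omega F ⇑Q := by
  refine ⟨fun hh => ?_, fun hh => (gAut_mem_inn_iff S.hQ S.fr S.hn _).2
    ⟨1, h, hh, by rw [scal_one, one_mul]⟩⟩
  obtain ⟨a, s, hs, he⟩ := (gAut_mem_inn_iff S.hQ S.fr S.hn _).1 hh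
  have h1 : a * a = 1 := by
    have := congrArg S.muH he
    rwa [map_mul, S.muH_apply, S.muH_apply, S.muH_apply, S.muC_ofIso, S.muC_ofIso, S.muC_scal,
      mul_one, eq_comm] at this
  obtain ⟨n, hn, hnm⟩ := hneg
  have h2 : (a : F) * a = 1 := by rw [← Units.val_mul, h1, Units.val_one]
  rcases mul_self_eq_one_iff.1 h2 with ha | ha
  · rw [show a = 1 from Units.ext (by simp [ha]), scal_one, one_mul] at he
    rwa [ofIso_injective he]
  · obtain ⟨k, hk, hkm⟩ := S.neg_iso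
    rw [show n = k from Subtype.ext (Units.ext (hnm.trans hkm.symm))] at hn
    rw [show a = -1 from Units.ext (by simp [ha]), ← hk, ← map_mul] at he
    rw [ofIso_injective he]
    exact mul_mem hn hs

theorem relIndex_two (hneg : NegMem Q) : (innPre Q).relIndex S.psi.ker = 2 := by
  obtain ⟨h0, hp, ht⟩ := S.exists_sgn_neg
  rw [Subgroup.relIndex_eq_two_iff]
  refine ⟨ofIso Q h0, (S.mem_ker_psi_iff _).2 ⟨1, h0, hp, by rw [scal_one, one_mul]⟩, fun b hb => ?_⟩
  obtain ⟨a, h, hh, rfl⟩ := (S.mem_ker_psi_iff b).1 hb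
  have hsc : ∀ x : GO Q, scal Q a * x ∈ innPre Q ↔ x ∈ innPre Q := fun x => by
    simp only [innPre, Subgroup.mem_comap, map_mul, gAut_scal, one_mul]
  rw [mul_assoc, hsc, hsc, ← map_mul, S.ofIso_mem_innPre_iff hneg, S.ofIso_mem_innPre_iff hneg,
    mem_omega_iff S.hQ S.hq, mem_omega_iff S.hQ S.hq, map_mul, ht, S.theta_eq_snd hh]
  rcases Int.units_eq_one_or (theta S.hQ S.hq h).2 with e | e <;> rw [e] <;> decide

theorem relIndex_one (hneg : ¬ NegMem Q) : (innPre Q).relIndex S.psi.ker = 1 := by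
  rw [Subgroup.relIndex_eq_one]
  intro g hg
  obtain ⟨a, h, hh, rfl⟩ := (S.mem_ker_psi_iff g).1 hg
  refine (gAut_mem_inn_iff S.hQ S.fr S.hn _).2 ?_
  obtain ⟨k, hk, hkm⟩ := S.neg_iso
  have hkt : theta S.hQ S.hq k = (1, -1) := by
    have h1 : par k = 1 := units_cast_eq_one S.h2 (by
      rw [← det_eq_par S.hQ S.hq, hkm, Matrix.det_neg, det_one, mul_one, S.hM, pow_mul,
        neg_one_sq, one_pow])
    rw [S.theta_eq_snd h1]
    refine Prod.ext rfl ((Int.units_eq_one_or _).resolve_left fun h2 => hneg ⟨k, ?_, hkm⟩)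
    rw [mem_omega_iff S.hQ S.hq, S.theta_eq_snd h1, h2]
    rfl
  rcases Int.units_eq_one_or (theta S.hQ S.hq h).2 with e | e
  · exact ⟨a, h, (mem_omega_iff S.hQ S.hq h).2 (by rw [S.theta_eq_snd hh, e]; rfl), rfl⟩
  · refine ⟨a * -1, k * h, (mem_omega_iff S.hQ S.hq _).2 (by
      rw [map_mul, hkt, S.theta_eq_snd hh, e]; rfl), ?_⟩
    rw [scal_mul, map_mul, ← hk, mul_assoc, ← mul_assoc (ofIso Q k), ← map_mul (ofIso Q) k k]
    have : k * k = 1 := ofIso_injective (by
      rw [map_mul, hk, ← scal_mul, neg_mul_neg, mul_one, scal_one, map_one])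
    rw [this, map_one, one_mul]

theorem relIndex_pso : (Cfsg.Inn (Cfsg.POmega F ⇑Q)).relIndex (Cfsg.psoAut F ⇑Q) =
    (innPre Q).relIndex S.psi.ker := by
  rw [← S.map_ker_psi, innPre, Subgroup.relIndex_comap]

theorem pgo_mod_inn_klein (hneg : ¬ NegMem Q) :
    ∃ φ : ↥(Cfsg.pgoAut F ⇑Q) →* Multiplicative (ZMod 2 × ZMod 2), Function.Surjective φ ∧
      φ.ker = (Cfsg.Inn (Cfsg.POmega F ⇑Q)).subgroupOf (Cfsg.pgoAut F ⇑Q) := by
  refine Groups.exists_quot_hom (gAut Q) (Groups.signPair.comp S.psi)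
    (Groups.signPair_bijective.2.comp S.psi_surjective) ?_ _ ?_ _ pgoAut_eq
  · rw [MonoidHom.ker_comp_of_injective _ _ Groups.signPair_bijective.1]
    exact S.ker_gAut_le_psi
  · rw [MonoidHom.ker_comp_of_injective _ _ Groups.signPair_bijective.1]
    have e : S.psi.ker = innPre Q := le_antisymm (Subgroup.relIndex_eq_one.1 (S.relIndex_one hneg))
      S.innPre_le
    rw [e, innPre, Subgroup.map_comap_eq]
    refine inf_eq_right.2 ?_
    rintro _ ⟨x, rfl⟩
    induction x using QuotientGroup.induction_on with | H s => ?_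
    exact ⟨ofIso Q s.1, (conj_mk_eq s).symm⟩

theorem map_innPre : (innPre Q).map (gAut Q) = Cfsg.Inn (Cfsg.POmega F ⇑Q) := by
  rw [innPre, Subgroup.map_comap_eq]
  refine inf_eq_right.2 ?_
  rintro _ ⟨x, rfl⟩
  induction x using QuotientGroup.induction_on with | H s => ?_
  exact ⟨ofIso Q s.1, (conj_mk_eq s).symm⟩

theorem index_innPre (hneg : NegMem Q) : (innPre Q).index = 8 := by
  rw [← Subgroup.relIndex_mul_index S.innPre_le, S.relIndex_two hneg, Subgroup.index_ker,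
    MonoidHom.range_eq_top.2 S.psi_surjective, Subgroup.card_top]
  simp

/-- The commutator of a reflection and a similarity with non-square factor is not inner. -/
theorem commutator_not_inner (hneg : NegMem Q) {d : GO Q} (hc : chi (muC d : F) = -1) {v : ι → F}
    (hv : Q v ≠ 0) :
    d * ofIso Q (reflect Q v) * d⁻¹ * (ofIso Q (reflect Q v))⁻¹ ∉ innPre Q := by
  rw [← ofIso_conjIso, ← map_inv, ← map_mul, S.ofIso_mem_innPre_iff hneg,
    mem_omega_iff S.hQ S.hq, map_mul, map_inv]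
  have hdv : Q (mat d *ᵥ v) = (muC d : F) * Q v := muC_spec d v
  have hdv0 : Q (mat d *ᵥ v) ≠ 0 := by rw [hdv]; exact mul_ne_zero (muC d).ne_zero hv
  have e : conjIso Q d (reflect Q v) = reflect Q (mat d *ᵥ v) := by
    refine ofIso_injective (go_ext fun x => ?_)
    obtain ⟨y, rfl⟩ : ∃ y, mat d *ᵥ y = x := ⟨mat d⁻¹ *ᵥ x, mulVec_inv d x⟩
    rw [ofIso_conjIso, mat_mul, mat_mul, ← Matrix.mulVec_mulVec, inv_mulVec',
      ← Matrix.mulVec_mulVec, ofIso_mulVec, ofIso_mulVec, act_reflect, act_reflect, hdv,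
      polar_mat, Matrix.mulVec_sub, Matrix.mulVec_smul]
    congr 2
    have := (muC d).ne_zero
    field_simp
  rw [e, theta_reflect S.hQ S.hq hdv0, theta_reflect S.hQ S.hq hv, hdv,
    chi_mul (muC d).ne_zero hv, hc]
  rcases Int.units_eq_one_or (chi (Q v)) with h | h <;> rw [h] <;> decide

/-- With `−1 ∈ Ω`, `PGO / PΩ` is dihedral of order eight. -/
theorem pgo_mod_inn_dihedral (hneg : NegMem Q) :
    ∃ φ : ↥(Cfsg.pgoAut F ⇑Q) →* DihedralGroup 4, Function.Surjective φ ∧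
      φ.ker = (Cfsg.Inn (Cfsg.POmega F ⇑Q)).subgroupOf (Cfsg.pgoAut F ⇑Q) := by
  obtain ⟨c, hc⟩ := S.exists_nonsq
  obtain ⟨d, hd, hdd⟩ := S.hD c
  set r := ofIso Q (reflect Q S.fr.x₀)
  set q := QuotientGroup.mk' (innPre Q)
  have hr : q r * q r = 1 := by rw [← map_mul, ← map_mul, reflect_sq, map_one, map_one]
  have hne : q d * q r ≠ q r * q d := fun h => S.commutator_not_inner hneg (by rw [hd]; exact hc)
    S.fr.hx ((QuotientGroup.eq_one_iff _).1 (show q (d * r * d⁻¹ * r⁻¹) = 1 by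
      rw [map_mul, map_mul, map_mul, map_inv, map_inv, h, mul_assoc _ (q d), mul_inv_cancel,
        mul_one, mul_inv_cancel]))
  have hdk : ∀ g : GO Q, g * g ∈ S.psi.ker := fun g => by
    rw [MonoidHom.mem_ker, map_mul]
    exact Prod.ext (Int.units_mul_self _) (Int.units_mul_self _)
  obtain ⟨a, ha, hab⟩ : ∃ a, a * a = 1 ∧ a * q r ≠ q r * a := by
    by_cases hdd2 : d * d ∈ innPre Q
    · exact ⟨q d, by rw [← map_mul]; exact (QuotientGroup.eq_one_iff _).2 hdd2, hne⟩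
    refine ⟨q d * q r, ?_, fun h => hne ?_⟩
    · rw [← map_mul, ← map_mul]
      refine (QuotientGroup.eq_one_iff _).2 ?_
      have h2 : ((innPre Q).subgroupOf S.psi.ker).index = 2 := S.relIndex_two hneg
      have hA : d * d ∈ S.psi.ker := hdk d
      have hB : d⁻¹ * r * d * r ∈ S.psi.ker := by
        rw [MonoidHom.mem_ker, map_mul, map_mul, map_mul, map_inv, mul_comm _ (S.psi d),
          mul_inv_cancel_left, ← map_mul, ← MonoidHom.mem_ker]
        exact hdk r
      have := (Subgroup.mul_mem_iff_of_index_two h2 (a := ⟨_, hA⟩) (b := ⟨_, hB⟩)).2 ?_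
      · simpa [Subgroup.mem_subgroupOf, mul_assoc] using this
      refine iff_of_false hdd2 fun h3 => hne ?_
      have h4 : (q d)⁻¹ * q r * q d * q r = 1 := by
        rw [← map_inv, ← map_mul, ← map_mul, ← map_mul]
        exact (QuotientGroup.eq_one_iff _).2 h3
      calc q d * q r = q d * ((q d)⁻¹ * q r * q d * q r) * q r := by rw [h4, mul_one]
        _ = q r * q d * (q r * q r) := by group
        _ = q r * q d := by rw [hr, mul_one]
    · exact mul_right_cancel (h.trans (mul_assoc _ _ _).symm)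
  obtain ⟨e⟩ := Groups.dihedral_four (by
    rw [← Subgroup.index, S.index_innPre hneg]) ha hr hab
  refine Groups.exists_quot_hom (gAut Q) (e.toMonoidHom.comp q)
    (e.surjective.comp (QuotientGroup.mk'_surjective _)) ?_ _ ?_ _ pgoAut_eq
  · rw [MonoidHom.ker_comp_of_injective _ _ e.injective, QuotientGroup.ker_mk']
    intro g hg
    show gAut Q g ∈ Cfsg.Inn _
    rw [MonoidHom.mem_ker.1 hg]
    exact one_mem _
  · rw [MonoidHom.ker_comp_of_injective _ _ e.injective, QuotientGroup.ker_mk', S.map_innPre]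

/-! ### Inner-diagonal automorphisms -/

theorem index_innPre_dsg : ((innPre Q).subgroupOf S.dsgH.ker).index =
    2 * (innPre Q).relIndex S.psi.ker := by
  have hle : S.psi.ker ≤ S.dsgH.ker := fun g hg =>
    MonoidHom.mem_ker.2 (congrArg Prod.snd (MonoidHom.mem_ker.1 hg))
  have h1 := Subgroup.relIndex_mul_relIndex _ _ _ S.innPre_le hle
  have h2 : S.psi.ker.relIndex S.dsgH.ker = 2 := by
    have h3 := Subgroup.relIndex_mul_index hle
    rw [Subgroup.index_ker, Subgroup.index_ker, MonoidHom.range_eq_top.2 S.psi_surjective,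
      (MonoidHom.range_eq_top (f := S.dsgH)).2 fun y => ?_, Subgroup.card_top, Subgroup.card_top] at h3
    · simp at h3
      omega
    · obtain ⟨g, hg⟩ := S.psi_surjective (1, y)
      exact ⟨g, congrArg Prod.snd hg⟩
  rw [← Subgroup.relIndex, ← h1, h2, mul_comm]

theorem inndiag_hom {H : Type*} [Group H]
    (e : ↥S.dsgH.ker ⧸ (innPre Q).subgroupOf S.dsgH.ker ≃* H) :
    ∃ φ : ↥(S.dsgH.ker.map (gAut Q)) →* H, Function.Surjective φ ∧
      φ.ker = (Cfsg.Inn (Cfsg.POmega F ⇑Q)).subgroupOf (S.dsgH.ker.map (gAut Q)) := by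
  refine Groups.exists_quot_hom ((gAut Q).comp S.dsgH.ker.subtype)
    (e.toMonoidHom.comp (QuotientGroup.mk' _))
    (e.surjective.comp (QuotientGroup.mk'_surjective _)) ?_ _ ?_ _ ?_
  · rw [MonoidHom.ker_comp_of_injective (QuotientGroup.mk' _) e.toMonoidHom e.injective,
      QuotientGroup.ker_mk']
    intro g hg
    show gAut Q g.1 ∈ Cfsg.Inn _
    rw [show gAut Q g.1 = 1 from hg]
    exact one_mem _
  · rw [MonoidHom.ker_comp_of_injective _ _ e.injective, QuotientGroup.ker_mk',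
      ← Subgroup.map_map, Subgroup.subgroupOf_map_subtype, inf_eq_left.2 fun g hg =>
        MonoidHom.mem_ker.2 (congrArg Prod.snd (MonoidHom.mem_ker.1 (S.innPre_le hg))),
      S.map_innPre]
  · rw [MonoidHom.range_comp, Subgroup.range_subtype]

theorem inndiag_two (hneg : ¬ NegMem Q) :
    ∃ φ : ↥(S.dsgH.ker.map (gAut Q)) →* Multiplicative (ZMod 2), Function.Surjective φ ∧
      φ.ker = (Cfsg.Inn (Cfsg.POmega F ⇑Q)).subgroupOf (S.dsgH.ker.map (gAut Q)) := by
  have hc : Nat.card (↥S.dsgH.ker ⧸ (innPre Q).subgroupOf S.dsgH.ker) = 2 := by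
    rw [← Subgroup.index, S.index_innPre_dsg, S.relIndex_one hneg]
  have : Fact (Nat.Prime 2) := ⟨Nat.prime_two⟩
  have := isCyclic_of_prime_card hc
  exact S.inndiag_hom (mulEquivOfCyclicCardEq (by simp [hc]))

theorem sq_mem_innPre_iff (hneg : NegMem Q) {d : GO Q} {t : Iso}
    (ht : d * d = scal Q (muC d) * ofIso Q t) : d * d ∈ innPre Q ↔ t ∈ Cfsg.Omega F ⇑Q := by
  rw [ht, ← S.ofIso_mem_innPre_iff hneg]
  simp only [innPre, Subgroup.mem_comap, map_mul, gAut_scal, one_mul]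

theorem inndiag_four_cyclic (hneg : NegMem Q) {d : GO Q} (hd : (mat d).det = (muC d : F) ^ M)
    {t : Iso} (ht : d * d = scal Q (muC d) * ofIso Q t) (htθ : theta S.hQ S.hq t ≠ 1) :
    ∃ φ : ↥(S.dsgH.ker.map (gAut Q)) →* Multiplicative (ZMod 4), Function.Surjective φ ∧
      φ.ker = (Cfsg.Inn (Cfsg.POmega F ⇑Q)).subgroupOf (S.dsgH.ker.map (gAut Q)) := by
  have hc : Nat.card (↥S.dsgH.ker ⧸ (innPre Q).subgroupOf S.dsgH.ker) = 4 := by
    rw [← Subgroup.index, S.index_innPre_dsg, S.relIndex_two hneg]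
  obtain ⟨e⟩ := Groups.cyclic_four hc
    (a := QuotientGroup.mk' _ ⟨d, MonoidHom.mem_ker.2 ((S.dsgH_eq_one_iff d).2 hd)⟩) (by
      rw [← map_mul]
      refine fun h => htθ ((mem_omega_iff S.hQ S.hq t).1 ((S.sq_mem_innPre_iff hneg ht).1 ?_))
      exact Subgroup.mem_subgroupOf.1 ((QuotientGroup.eq_one_iff _).1 h))
  exact S.inndiag_hom e

theorem inndiag_four_klein (hneg : NegMem Q) {d : GO Q} (hd : (mat d).det = (muC d : F) ^ M)
    (hdc : chi (muC d : F) = -1) {t : Iso} (ht : d * d = scal Q (muC d) * ofIso Q t)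
    (htθ : theta S.hQ S.hq t = 1) :
    ∃ φ : ↥(S.dsgH.ker.map (gAut Q)) →* Multiplicative (ZMod 2 × ZMod 2), Function.Surjective φ ∧
      φ.ker = (Cfsg.Inn (Cfsg.POmega F ⇑Q)).subgroupOf (S.dsgH.ker.map (gAut Q)) := by
  have hc : Nat.card (↥S.dsgH.ker ⧸ (innPre Q).subgroupOf S.dsgH.ker) = 4 := by
    rw [← Subgroup.index, S.index_innPre_dsg, S.relIndex_two hneg]
  obtain ⟨h0, hp, hth⟩ := S.exists_sgn_neg
  have hz : ofIso Q h0 ∉ innPre Q := fun h => by
    have := (mem_omega_iff S.hQ S.hq h0).1 ((S.ofIso_mem_innPre_iff hneg h0).1 h)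
    rw [hth] at this
    exact absurd this (by decide)
  have hdN : ∀ n ∈ S.psi.ker, n * d ∉ innPre Q := fun n hn h => by
    have h1 := congrArg Prod.fst (MonoidHom.mem_ker.1 (S.innPre_le h))
    rw [map_mul, MonoidHom.mem_ker.1 hn, one_mul, psi_apply] at h1
    exact absurd (hdc.symm.trans h1) (by decide)
  set D : ↥S.dsgH.ker := ⟨d, MonoidHom.mem_ker.2 ((S.dsgH_eq_one_iff d).2 hd)⟩
  set Z : ↥S.dsgH.ker := ⟨ofIso Q h0, MonoidHom.mem_ker.2 (by rw [S.dsgH_ofIso, hp])⟩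
  refine (Groups.klein_of_two hc (a := QuotientGroup.mk' _ D) (b := QuotientGroup.mk' _ Z)
    ?_ ?_ ?_ ?_ ?_).elim fun e => S.inndiag_hom e
  · rw [← map_mul]
    exact (QuotientGroup.eq_one_iff _).2
      ((S.sq_mem_innPre_iff hneg ht).2 ((mem_omega_iff S.hQ S.hq t).2 htθ))
  · rw [← map_mul]
    refine (QuotientGroup.eq_one_iff _).2 ?_
    show ofIso Q h0 * ofIso Q h0 ∈ innPre Q
    rw [← map_mul, S.ofIso_mem_innPre_iff hneg, mem_omega_iff S.hQ S.hq, map_mul, hth]
    decide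
  · intro h
    exact hdN 1 (one_mem _) (by
      rw [one_mul]; exact Subgroup.mem_subgroupOf.1 ((QuotientGroup.eq_one_iff D).1 h))
  · intro h
    exact hz (Subgroup.mem_subgroupOf.1 ((QuotientGroup.eq_one_iff Z).1 h))
  · intro h
    have h1 : Z⁻¹ * D ∈ (innPre Q).subgroupOf S.dsgH.ker := QuotientGroup.eq.1 h.symm
    exact hdN (ofIso Q h0)⁻¹
      (inv_mem ((S.mem_ker_psi_iff _).2 ⟨1, h0, hp, by rw [scal_one, one_mul]⟩)) h1

end Setup

end Cfsg.Agent.AutPOmega
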