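import Cfsg.Agent.Lib.AutPOmega.OutGamma

/-!
# The outer automorphism groups of the odd-dimensional and minus orthogonal groups
-/

set_option autoImplicit false
set_option linter.unusedSectionVars false
set_option linter.unusedVariables false

namespace Cfsg.Agent.AutPOmega.OutCases

open Matrix Cfsg.Agent.Forms Cfsg.Agent.Forms.QuadStd Cfsg.Agent.Forms.Reflections
open Cfsg.Agent.Forms.PlusStd
open Cfsg.Agent.Classical Cfsg.Agent.Classical.Orth Cfsg.Agent.Classical.OmegaCrit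
open Cfsg.Agent.Classical.OrthForms Cfsg.Agent.AutPOmega.OutGamma

universe u

variable {F : Type u} [Field F] [Fintype F] {p f : ℕ} [Fact p.Prime]

/-! ### Odd dimension -/

theorem index_odd {ι : Type} [Fintype ι] [DecidableEq ι] {Q : QuadraticForm F (ι → F)} {m : ℕ}
    (h2 : (2 : F) ≠ 0) (hQ : (QuadraticMap.polarBilin Q).Nondegenerate) (fr : Frame Q)
    (hn : 5 ≤ Fintype.card ι) (hM : Fintype.card ι = 2 * m + 1) : (innPre Q).index = 2 := by
  have hq : Fintype.card F ≠ 2 ∨ Fintype.card ι ≠ 4 := Or.inr (by omega)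
  obtain ⟨c, hc0, hc⟩ := exists_nonsquare (F := F) h2
  obtain ⟨v, hv⟩ := Spinor.exists_value hQ h2 (by omega) hc0
  obtain ⟨w, hw⟩ := Spinor.exists_value hQ h2 (by omega) (one_ne_zero (α := F))
  have ht : theta hQ hq (reflect Q v * reflect Q w) = (1, -1) := by
    rw [map_mul, theta_reflect hQ hq (by rw [hv]; exact hc0),
      theta_reflect hQ hq (by rw [hw]; exact one_ne_zero), hv, hw, hc, chi_one]
    rfl
  have hsc : ∀ (a : Fˣ) (x : GO Q), scal Q a * x ∈ innPre Q ↔ x ∈ innPre Q := fun a x =>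
    (innPre Q).mul_mem_cancel_left (ker_gAut_le_innPre Q (gAut_scal a))
  refine Subgroup.index_eq_two_iff.2 ⟨ofIso Q (reflect Q v * reflect Q w), fun g => ?_⟩
  obtain ⟨a, h, hp, rfl⟩ := FieldCentStd.decomp_odd (m := m) h2 hQ fr hM g
  rw [mul_assoc, ← map_mul, hsc, hsc,
    FieldCentStd.ofIso_mem_innPre_odd h2 hQ fr hn hM (by
      rw [par_mul_all hQ hq, hp, one_mul]; exact congrArg Prod.fst ht),
    FieldCentStd.ofIso_mem_innPre_odd h2 hQ fr hn hM hp, map_mul, ht, Prod.snd_mul]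
  rcases Int.units_eq_one_or (theta hQ hq h).2 with e | e <;> rw [e] <;> decide

theorem odd_out (hf : 1 ≤ f) (hF : Fintype.card F = p ^ f) (h2 : (2 : F) ≠ 0) {m : ℕ} (hm : 3 ≤ m)
    (Q' : (Unit ⊕ (Fin m ⊕ Fin m) → F) → F) (hQ' : Q' = ⇑(oddQ F m)) :
    Nonempty (Cfsg.Out (Cfsg.POmega F Q') ≃* Multiplicative (ZMod 2 × ZMod f)) ∧
      Nat.card (MulAut (Cfsg.POmega F Q')) = 2 * f * Nat.card (Cfsg.POmega F Q') := by
  subst hQ'
  obtain ⟨σ, hσ, hσo, hG⟩ := exists_frob hf hF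
  have hr := FieldStd.rat_odd σ m
  let S := Standard.oddBig h2 hm
  let β : MulAut (Cfsg.POmega F ⇑(oddQ F m)) := fAut σ hr
  let x := QuotientGroup.mk' (Cfsg.Inn (Cfsg.POmega F ⇑(oddQ F m))) β
  have hπ : galOut S x = σ := gal_semP S (fSemi σ hr)
  have h1 : x ^ f = 1 := by
    rw [← map_pow, fAut_pow, fAut_congr (hσo ▸ pow_orderOf_eq_one σ) _ Rat.one, fAut_one, map_one]
  have hN : Nat.card (galOut S).ker = 2 := by
    rw [card_galOut_ker]
    exact index_odd h2 (oddQ_nondeg h2 m) S.fr (PointStab.hn5 S.toBig) (m := m) (by simp; omega)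
  have hx : orderOf (galOut S x) = f := by rw [hπ, hσo]
  refine ⟨split_two (galOut S) hG hf hx hN h1, ?_⟩
  rw [card_mulAut S, card_eq (galOut S) hG hf hx, hN]

/-! ### Minus type -/

section minus

variable {k : ℕ}

local notation "I" => ((Fin k ⊕ Fin k) ⊕ Fin 2)

/-- The semisimilarity of the form `x² - νy²`. -/
theorem exists_semi_diag (σ : F ≃+* F) (hσ : ∀ z, σ z = z ^ p) {h : ℕ} (hp : p = 2 * h + 1) (ν : F)
    (hν : ν ≠ 0) (k : ℕ) :
    ∃ Φ : Semi (minQ F k 0 (-ν)) (minQ F k 0 (-ν)), Φ.σ = σ ∧ ∀ (i : ℕ) (v : (Fin k ⊕ Fin k) ⊕ Fin 2 → F),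
      ∃ E : ℕ, 2 * E + 1 = p ^ i ∧
        Φ.fn^[i] v = fun z => Sum.elim (fun _ => (1 : F)) ![1, ν ^ E] z * (σ ^ i) (v z) := by
  let d : (Fin k ⊕ Fin k) ⊕ Fin 2 → F := Sum.elim (fun _ => (1 : F)) ![1, ν ^ h]
  have hd : (Matrix.diagonal d).det ≠ 0 := by
    rw [det_diagonal, Finset.prod_ne_zero_iff]
    rintro (z | z) -
    · exact one_ne_zero
    · fin_cases z
      · exact one_ne_zero
      · exact pow_ne_zero _ hν
  let g : GL ((Fin k ⊕ Fin k) ⊕ Fin 2) F := Matrix.GeneralLinearGroup.mkOfDetNeZero _ hd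
  have hg : ∀ v : (Fin k ⊕ Fin k) ⊕ Fin 2 → F,
      (g : Matrix _ _ F) *ᵥ v = fun z => d z * v z := fun v => funext fun z => mulVec_diagonal d v z
  let Φ : Semi (minQ F k 0 (-ν)) (minQ F k 0 (-ν)) := ⟨g, σ, 1, fun v => by
    rw [hg, Units.val_one, one_mul, minQ_apply, minQ_apply, map_add,
      ← FieldStd.rat_plus σ k (v ∘ Sum.inl)]
    congr 1
    · exact congrArg _ (funext fun z => by simp [d])
    · simp only [d, Sum.elim_inr, Matrix.cons_val_zero, Matrix.cons_val_one, map_add, map_mul,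
        map_pow, map_zero, map_neg, one_mul, zero_mul, add_zero]
      rw [show σ ν = ν * (ν ^ h) ^ 2 by rw [hσ, hp, pow_succ', ← pow_mul, mul_comm h 2]]
      ring⟩
  refine ⟨Φ, rfl, fun i => ?_⟩
  induction i with
  | zero =>
    intro v
    refine ⟨0, by simp, funext fun z => ?_⟩
    rcases z with z | z
    · simp
    · fin_cases z <;> simp
  | succ i ih =>
    intro v
    obtain ⟨E, hE, he⟩ := ih v
    refine ⟨h + p * E, by rw [pow_succ, ← hE, hp]; ring, ?_⟩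
    rw [Function.iterate_succ_apply', he]
    funext z
    show ((g : Matrix ((Fin k ⊕ Fin k) ⊕ Fin 2) ((Fin k ⊕ Fin k) ⊕ Fin 2) F) *ᵥ fun z => σ _) z = _
    rw [hg]
    rcases z with z | z
    · simp [d, pow_succ', RingAut.mul_apply]
    · fin_cases z
      · simp [d, pow_succ', RingAut.mul_apply]
      · simp [d, pow_succ', RingAut.mul_apply]
        rw [hσ ν, ← pow_mul, pow_add]
        ring

/-- The semisimilarity of the form `x² + xy + ζy²` in characteristic two. -/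
theorem exists_semi_two (σ : F ≃+* F) (hσ : ∀ z, σ z = z ^ 2) (h2 : (2 : F) = 0) (ζ : F) (k : ℕ) :
    ∃ Φ : Semi (minQ F k 1 ζ) (minQ F k 1 ζ), Φ.σ = σ ∧ ∀ (i : ℕ) (v : (Fin k ⊕ Fin k) ⊕ Fin 2 → F),
      Φ.fn^[i] v = Sum.elim (fun z => (σ ^ i) (v (Sum.inl z)))
        ![(σ ^ i) (v (Sum.inr 0)) + (∑ j ∈ Finset.range i, ζ ^ 2 ^ j) * (σ ^ i) (v (Sum.inr 1)),
          (σ ^ i) (v (Sum.inr 1))] := by
  let A : Matrix ((Fin k ⊕ Fin k) ⊕ Fin 2) ((Fin k ⊕ Fin k) ⊕ Fin 2) F :=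
    fromBlocks 1 0 0 !![1, ζ; 0, 1]
  have hd : A.det ≠ 0 := by simp [A, det_fromBlocks_zero₂₁, det_fin_two]
  let g : GL ((Fin k ⊕ Fin k) ⊕ Fin 2) F := Matrix.GeneralLinearGroup.mkOfDetNeZero _ hd
  have hg : ∀ v : (Fin k ⊕ Fin k) ⊕ Fin 2 → F, (g : Matrix _ _ F) *ᵥ v =
      Sum.elim (v ∘ Sum.inl) ![v (.inr 0) + ζ * v (.inr 1), v (.inr 1)] := fun v => by
    show A *ᵥ v = _
    rw [fromBlocks_mulVec]
    funext z
    rcases z with z | z
    · simp
    · fin_cases z <;> simp [mulVec, dotProduct, Fin.sum_univ_two]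
  let Φ : Semi (minQ F k 1 ζ) (minQ F k 1 ζ) := ⟨g, σ, 1, fun v => by
    rw [hg, Units.val_one, one_mul, minQ_apply, minQ_apply, map_add,
      ← FieldStd.rat_plus σ k (v ∘ Sum.inl)]
    congr 1
    simp only [Sum.elim_inr, Matrix.cons_val_zero, Matrix.cons_val_one, map_add, map_mul, map_one,
      map_pow]
    rw [hσ ζ]
    linear_combination ζ * (σ (v (.inr 0)) * σ (v (.inr 1)) + σ (v (.inr 1)) ^ 2) * h2⟩
  refine ⟨Φ, rfl, fun i => ?_⟩
  induction i with
  | zero =>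
    intro v
    funext z
    rcases z with z | z
    · simp
    · fin_cases z <;> simp
  | succ i ih =>
    intro v
    rw [Function.iterate_succ_apply', ih]
    show (g : Matrix ((Fin k ⊕ Fin k) ⊕ Fin 2) ((Fin k ⊕ Fin k) ⊕ Fin 2) F) *ᵥ (fun z => σ _) = _
    rw [hg]
    funext z
    rcases z with z | z
    · simp [pow_succ', RingAut.mul_apply]
    · fin_cases z
      · simp [pow_succ', RingAut.mul_apply, Finset.sum_range_succ' (fun j => ζ ^ 2 ^ j)]
        rw [Finset.sum_congr rfl fun j _ => show σ ζ ^ 2 ^ j = ζ ^ (2 * 2 ^ j) by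
          rw [hσ, ← pow_mul]]
        ring
      · simp [pow_succ', RingAut.mul_apply]

/-- An element of trace one, in polynomial form. -/
theorem exists_trace_one (hf : 1 ≤ f) (hF : Fintype.card F = 2 ^ f) :
    ∃ ζ : F, (∑ j ∈ Finset.range f, ζ ^ 2 ^ j) = 1 ∧ ∀ r : F, r ^ 2 + r ≠ ζ := by
  classical
  have : Fact (Nat.Prime 2) := ⟨Nat.prime_two⟩
  have : CharP F 2 := charP_of_card_eq_prime_pow hF
  have hq : ∀ z : F, z ^ 2 ^ f = z := fun z => by rw [← hF, FiniteField.pow_card]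
  set T : F → F := fun z => ∑ j ∈ Finset.range f, z ^ 2 ^ j with hT
  have hTsq : ∀ z, T z ^ 2 = T (z ^ 2) := fun z => by
    simp only [hT]
    rw [sum_pow_char]
    exact Finset.sum_congr rfl fun j _ => by rw [← pow_mul, ← pow_mul, mul_comm]
  have htel : ∀ z, T (z ^ 2) = T z := fun z => by
    have h1 : ∀ n, (∑ j ∈ Finset.range n, (z ^ 2) ^ 2 ^ j) + z =
        (∑ j ∈ Finset.range n, z ^ 2 ^ j) + z ^ 2 ^ n := fun n => by
      induction n with
      | zero => simp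
      | succ n ih =>
        rw [Finset.sum_range_succ, Finset.sum_range_succ, ← pow_mul, ← pow_succ']
        linear_combination ih
    have := h1 f
    rw [hq] at this
    exact add_right_cancel this
  obtain ⟨ζ, hζ⟩ : ∃ ζ, T ζ ≠ 0 := by
    by_contra h
    push Not at h
    let P : Polynomial F := ∑ j ∈ Finset.range f, Polynomial.X ^ 2 ^ j
    have hP0 : P ≠ 0 := fun h0 => by
      have h1 := congrArg (fun R => Polynomial.coeff R 1) h0
      simp only [P, Polynomial.finsetSum_coeff, Polynomial.coeff_X_pow, Polynomial.coeff_zero] at h1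
      rw [Finset.sum_eq_single 0] at h1
      · simp at h1
      · intro j _ hj
        rw [if_neg]
        exact fun e => hj ((Nat.pow_eq_one.1 e.symm).resolve_left (by norm_num))
      · intro hh
        exact absurd (Finset.mem_range.2 (by omega)) hh
    have hdeg : P.natDegree ≤ 2 ^ (f - 1) := Polynomial.natDegree_sum_le_of_forall_le _ _ fun j hj => by
      rw [Polynomial.natDegree_X_pow]
      exact Nat.pow_le_pow_right two_pos (by have := Finset.mem_range.1 hj; omega)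
    have h2 : Fintype.card F ≤ P.natDegree := by
      rw [← Finset.card_univ]
      refine Polynomial.card_le_degree_of_subset_roots (p := P) ?_
      intro z _
      rw [Polynomial.mem_roots hP0, Polynomial.IsRoot, Polynomial.eval_finsetSum]
      simpa [hT] using h z
    have h3 : 2 ^ (f - 1) < 2 ^ f := Nat.pow_lt_pow_right one_lt_two (by omega)
    omega
  have h1 : T ζ = 1 := by
    have h := hTsq ζ
    rw [htel, sq] at h
    exact mul_left_cancel₀ hζ (h.trans (mul_one _).symm)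
  refine ⟨ζ, h1, fun r hr => hζ ?_⟩
  rw [← hr]
  show ∑ j ∈ Finset.range f, (r ^ 2 + r) ^ 2 ^ j = 0
  simp only [add_pow_char_pow, Finset.sum_add_distrib]
  show T (r ^ 2) + T r = 0
  rw [htel, CharTwo.add_self_eq_zero]

set_option maxHeartbeats 1600000 in
/-- The facts about a semisimilarity over the Frobenius whose power is a reflection. -/
theorem minus_std (hk : 3 ≤ k) {a b : F}
    (hab : ∀ z₁ z₂ : F, z₁ ^ 2 + a * z₁ * z₂ + b * z₂ ^ 2 = 0 → z₁ = 0 ∧ z₂ = 0)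
    (Φ : Semi (minQ F k a b) (minQ F k a b)) {v0 : I → F} (hv0 : minQ F k a b v0 ≠ 0)
    (hΦ : ∀ v, Φ.fn^[f] v = act (reflect (minQ F k a b) v0) v) :
    (QuotientGroup.mk' (Cfsg.Inn (Cfsg.POmega F ⇑(minQ F k a b))))
        (semP Φ : MulAut (Cfsg.POmega F ⇑(minQ F k a b))) ^ f ≠ 1 ∧
    (QuotientGroup.mk' (Cfsg.Inn (Cfsg.POmega F ⇑(minQ F k a b))))
        (semP Φ : MulAut (Cfsg.POmega F ⇑(minQ F k a b))) ^ (2 * f) = 1 := by
  obtain ⟨E⟩ := minusEven hab hk
  set R := ofIso (minQ F k a b) (reflect (minQ F k a b) v0)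
  have hp : (semP Φ : MulAut (Cfsg.POmega F ⇑(minQ F k a b))) ^ f = gAut _ R :=
    pow_eq_gAut fun v => by rw [hΦ, ofIso_mulVec]
  have hq : (QuotientGroup.mk' (Cfsg.Inn (Cfsg.POmega F ⇑(minQ F k a b))))
      (semP Φ : MulAut (Cfsg.POmega F ⇑(minQ F k a b))) ^ f = outGO (minQ F k a b) R :=
    (map_pow _ _ f).symm.trans (congrArg _ hp)
  have hR : R * R = 1 := by rw [← map_mul, reflect_sq, map_one]
  rw [two_mul, pow_add, hq, ← map_mul, hR, map_one]
  refine ⟨fun h => ?_, rfl⟩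
  have h1 : R ∈ innPre (minQ F k a b) := outGO_ker (Q := minQ F k a b) ▸ MonoidHom.mem_ker.2 h
  have h3 := E.innPre_le_cls h1
  rw [MonoidHom.mem_ker, E.cls_reflect hv0] at h3
  exact absurd h3 (by decide)

set_option maxHeartbeats 1600000 in
theorem minus_two (hf : 1 ≤ f) (hF : Fintype.card F = 2 ^ f) (hk : 3 ≤ k) {a b : F}
    (hab : ∀ z₁ z₂ : F, z₁ ^ 2 + a * z₁ * z₂ + b * z₂ ^ 2 = 0 → z₁ = 0 ∧ z₂ = 0) :
    IsCyclic (Cfsg.Out (Cfsg.POmega F ⇑(minQ F k a b))) ∧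
      Nat.card (Cfsg.Out (Cfsg.POmega F ⇑(minQ F k a b))) = 2 * f := by
  have : Fact (Nat.Prime 2) := ⟨Nat.prime_two⟩
  have : CharP F 2 := charP_of_card_eq_prime_pow hF
  have h2 : (2 : F) = 0 := CharTwo.two_eq_zero
  obtain ⟨σ, hσ, hσo, hG⟩ := exists_frob hf hF
  obtain ⟨ζ, hζ, hnr⟩ := exists_trace_one hf hF
  have hab' : ∀ z₁ z₂ : F, z₁ ^ 2 + 1 * z₁ * z₂ + ζ * z₂ ^ 2 = 0 → z₁ = 0 ∧ z₂ = 0 := by
    intro z₁ z₂ h
    by_cases hz : z₂ = 0
    · subst hz; exact ⟨by simpa using h, rfl⟩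
    · exfalso
      refine hnr (z₁ / z₂) ?_
      field_simp
      linear_combination h - ζ * z₂ ^ 2 * h2
  obtain ⟨T⟩ := FieldStd.exists_semi_minus (k := k) hab hab'
  obtain ⟨ψ⟩ := out_congr (semP T)
  obtain ⟨Φ, hΦσ, hΦ⟩ := exists_semi_two σ hσ h2 ζ k
  let S := Standard.minBig hk hab'
  obtain ⟨E⟩ := minusEven hab' hk
  let v0 : I → F := Sum.elim 0 ![1, 0]
  have hv0 : (minQ F k 1 ζ) v0 = 1 := by simp [v0, minQ_apply, Sum.elim_comp_inl]
  have hfn : ∀ v, Φ.fn^[f] v = act (reflect (minQ F k 1 ζ) v0) v := by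
    intro v
    rw [hΦ, act_reflect, hv0, inv_one, one_mul]
    have hσf : σ ^ f = 1 := hσo ▸ pow_orderOf_eq_one σ
    funext z
    rcases z with z | z
    · simp [hσf, v0]
    · fin_cases z
      · simp [hσf, hζ, v0, minQ_polar, Sum.elim_comp_inl]
        linear_combination (v (Sum.inr 0) + v (Sum.inr 1)) * h2
      · simp [hσf, v0]
  set x := QuotientGroup.mk' (Cfsg.Inn (Cfsg.POmega F ⇑(minQ F k 1 ζ))) (semP Φ : MulAut (Cfsg.POmega F ⇑(minQ F k 1 ζ)))
  have hx : orderOf (galOut S x) = f := by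
    rw [show galOut S x = σ from (gal_semP S Φ).trans hΦσ, hσo]
  obtain ⟨hx1, hx2⟩ := minus_std hk hab' Φ (v0 := v0) (by rw [hv0]; exact one_ne_zero) hfn
  have hidx : (innPre (minQ F k 1 ζ)).index = 2 := by
    have hker : innPre (minQ F k 1 ζ) = E.cls.ker := by
      refine le_antisymm E.innPre_le_cls fun g hg => ?_
      obtain ⟨c, h, rfl⟩ := E.exists_decomp h2 g
      rw [MonoidHom.mem_ker, map_mul, E.cls_scal, one_mul, E.cls_ofIso] at hg
      exact (gAut_mem_inn_iff E.hQ E.fr E.hn5 _).2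
        ⟨c, h, (mem_omega_iff_par E.hQ E.hq h2 h).2 hg, rfl⟩
    have hs : Function.Surjective E.cls := fun e => by
      rcases Int.units_eq_one_or e with rfl | rfl
      exacts [⟨1, map_one _⟩, ⟨_, E.cls_reflect (v := v0) (by rw [hv0]; exact one_ne_zero)⟩]
    rw [hker, Subgroup.index_ker, MonoidHom.range_eq_top.2 hs, Subgroup.card_top,
      Nat.card_eq_fintype_card]
    rfl
  have hcard : Nat.card (Cfsg.Out (Cfsg.POmega F ⇑(minQ F k 1 ζ))) = 2 * f := by
    rw [card_eq (galOut S) hG hf hx, card_galOut_ker, hidx]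
  have ho := order_two (galOut S) hG hf hx hx1 (by rw [← pow_add, ← two_mul, hx2])
  have hc : IsCyclic (Cfsg.Out (Cfsg.POmega F ⇑(minQ F k 1 ζ))) :=
    isCyclic_of_orderOf_eq_card x (ho.trans hcard.symm)
  exact ⟨(MulEquiv.isCyclic ψ).2 hc, (Nat.card_congr ψ.toEquiv).trans hcard⟩

set_option maxHeartbeats 1600000 in
theorem minus_odd (hf : 1 ≤ f) (hF : Fintype.card F = p ^ f) (hp : p ≠ 2) (hk : 3 ≤ k) {a b : F}
    (hab : ∀ z₁ z₂ : F, z₁ ^ 2 + a * z₁ * z₂ + b * z₂ ^ 2 = 0 → z₁ = 0 ∧ z₂ = 0) :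
    (p ^ f % 4 = 3 ∧ Even k →
      Nonempty (Cfsg.Out (Cfsg.POmega F ⇑(minQ F k a b)) ≃* DihedralGroup 4 × Multiplicative (ZMod f))) ∧
    (¬ (p ^ f % 4 = 3 ∧ Even k) →
      Nonempty (Cfsg.Out (Cfsg.POmega F ⇑(minQ F k a b)) ≃* Multiplicative (ZMod 2 × ZMod (2 * f)))) := by
  obtain ⟨h, hph⟩ := (Fact.out : p.Prime).odd_of_ne_two hp
  have hodd : Odd (Fintype.card F) := by rw [hF]; exact Odd.pow ⟨h, hph⟩
  have h2 : (2 : F) ≠ 0 := two_ne_zero_of_odd hodd
  obtain ⟨σ, hσ, hσo, hG⟩ := exists_frob hf hF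
  obtain ⟨ν, hν0, hν⟩ := exists_nonsquare (F := F) h2
  rw [chi_eq_neg_one_iff] at hν
  have hab' : ∀ z₁ z₂ : F, z₁ ^ 2 + 0 * z₁ * z₂ + -ν * z₂ ^ 2 = 0 → z₁ = 0 ∧ z₂ = 0 := by
    intro z₁ z₂ h
    by_cases hz : z₂ = 0
    · subst hz; exact ⟨by simpa using h, rfl⟩
    · exfalso
      refine hν ⟨z₁ / z₂, ?_⟩
      field_simp
      linear_combination -h
  obtain ⟨T⟩ := FieldStd.exists_semi_minus (k := k) hab hab'
  obtain ⟨ψ⟩ := out_congr (semP T)
  obtain ⟨Φ, hΦσ, hΦ⟩ := exists_semi_diag σ hσ hph ν hν0 k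
  let S := Standard.minBig hk hab'
  obtain ⟨E⟩ := minusEven hab' hk
  let S' := E.toSetup h2
  let v0 : I → F := Sum.elim 0 ![0, 1]
  have hv0 : (minQ F k 0 (-ν)) v0 = -ν := by simp [v0, minQ_apply, Sum.elim_comp_inl]
  have hfn : ∀ v, Φ.fn^[f] v = act (reflect (minQ F k 0 (-ν)) v0) v := by
    intro v
    obtain ⟨e, he, hv⟩ := hΦ f v
    rw [hv, act_reflect, hv0]
    have hσf : σ ^ f = 1 := hσo ▸ pow_orderOf_eq_one σ
    have hpow : ν ^ e = -1 := by
      have hc : ringChar F ≠ 2 := fun hc => h2 (by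
        have : CharP F 2 := hc ▸ ringChar.charP F
        exact CharTwo.two_eq_zero)
      have he' : e = Fintype.card F / 2 := by rw [hF, ← he]; omega
      rw [he']
      refine (FiniteField.pow_dichotomy hc hν0).resolve_left fun h1 => hν ?_
      exact (FiniteField.isSquare_iff hc hν0).2 h1
    funext z
    rcases z with z | z
    · simp [hσf, v0]
    · fin_cases z
      · simp [hσf, v0]
      · simp [hσf, v0, hpow, minQ_polar, Sum.elim_comp_inl]
        field_simp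
        ring
  set x := QuotientGroup.mk' (Cfsg.Inn (Cfsg.POmega F ⇑(minQ F k 0 (-ν)))) (semP Φ : MulAut (Cfsg.POmega F ⇑(minQ F k 0 (-ν))))
  have hx : orderOf (galOut S x) = f := by
    rw [show galOut S x = σ from (gal_semP S Φ).trans hΦσ, hσo]
  obtain ⟨hx1, hx2⟩ := minus_std hk hab' Φ (v0 := v0) (by rw [hv0]; exact neg_ne_zero.2 hν0) hfn
  have hneg : NegMem (minQ F k 0 (-ν)) ↔ p ^ f % 4 = 3 ∧ Even k := by
    rw [Minus.negMem_iff hodd hab' hk, hF, and_comm]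
  constructor
  · intro hc
    obtain ⟨φ, hφ, hφk⟩ := S'.pgo_mod_inn_dihedral (hneg.2 hc)
    let φ' : GO (minQ F k 0 (-ν)) →* DihedralGroup 4 :=
      φ.comp ((gAut (minQ F k 0 (-ν))).codRestrict (Cfsg.pgoAut F ⇑(minQ F k 0 (-ν))) fun g => by rw [pgoAut_eq]; exact ⟨g, rfl⟩)
    have hs : Function.Surjective φ' := fun d => by
      obtain ⟨⟨β, hβ⟩, hd⟩ := hφ d
      rw [pgoAut_eq] at hβ
      obtain ⟨g, hg⟩ := hβ
      exact ⟨g, (congrArg φ (Subtype.ext hg)).trans hd⟩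
    have hk' : φ'.ker = innPre (minQ F k 0 (-ν)) := by
      ext g
      rw [MonoidHom.mem_ker]
      show φ ⟨gAut (minQ F k 0 (-ν)) g, _⟩ = 1 ↔ _
      rw [← MonoidHom.mem_ker, hφk]
      rfl
    obtain ⟨e⟩ := ker_equiv S φ' hs hk'
    have hfodd : Odd f := by
      rcases Nat.even_or_odd f with ⟨l, rfl⟩ | hf' <;> [skip; exact hf']
      exfalso
      have h' := hc.1
      rw [← two_mul, pow_mul, Nat.pow_mod,
        show p ^ 2 % 4 = 1 by rw [hph]; ring_nf; omega, one_pow] at h'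
      omega
    obtain ⟨r⟩ := dihedral_split (galOut S) hG hf hx e hfodd
    exact ⟨ψ.trans r⟩
  · intro hc
    have hne : ¬ NegMem (minQ F k 0 (-ν)) := fun h' => hc (hneg.1 h')
    have hker : S'.psi.ker = innPre (minQ F k 0 (-ν)) :=
      le_antisymm (Subgroup.relIndex_eq_one.1 (S'.relIndex_one hne)) S'.innPre_le
    obtain ⟨e⟩ := ker_equiv S S'.psi S'.psi_surjective hker
    have hN : Nat.card (galOut S).ker = 4 := by
      rw [Nat.card_congr e.toEquiv, Nat.card_prod, Nat.card_eq_fintype_card]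
      rfl
    have hsq : ∀ z : (galOut S).ker, z * z = 1 := fun z => e.injective (by
      rw [map_mul, map_one]
      exact Prod.ext (Int.units_mul_self _) (Int.units_mul_self _))
    have hinv : ∀ g : GO (minQ F k 0 (-ν)), S'.psi (semGO Φ g) = S'.psi g := fun g => by
      rw [Setup.psi_apply, Setup.psi_apply]
      refine Prod.ext ?_ ?_
      · show chi ((muC (semGO Φ g) : Fˣ) : F) = chi ((muC g : Fˣ) : F)
        rw [muC_semGO Φ E.fr.hx, chi_map]
      · show S'.dsgH (semGO Φ g) = S'.dsgH g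
        rw [← E.clsF_odd h2, ← E.clsF_odd h2, ← E.cls_apply, ← E.cls_apply, clsF_semGO E E]
    have hcomm : ∀ z : (galOut S).ker, Commute (z : Cfsg.Out (Cfsg.POmega F ⇑(minQ F k 0 (-ν)))) x := by
      rintro ⟨z, hz⟩
      rw [galOut_ker] at hz
      obtain ⟨g, rfl⟩ := hz
      have e1 : outGO (minQ F k 0 (-ν)) (semGO Φ g) = outGO (minQ F k 0 (-ν)) g := by
        rw [← div_eq_one, div_eq_mul_inv, ← map_inv, ← map_mul, ← MonoidHom.mem_ker, outGO_ker,
          ← hker, MonoidHom.mem_ker, map_mul, map_inv, hinv, mul_inv_cancel]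
      show outGO (minQ F k 0 (-ν)) g * x = x * outGO (minQ F k 0 (-ν)) g
      have e2 : x * outGO (minQ F k 0 (-ν)) g = outGO (minQ F k 0 (-ν)) (semGO Φ g) * x := by
        show QuotientGroup.mk' _ _ * QuotientGroup.mk' _ (gAut (minQ F k 0 (-ν)) g) = QuotientGroup.mk' _ _ *
          QuotientGroup.mk' _ _
        rw [← map_mul, ← map_mul, mul_gAut]
      rw [e2, e1]
    obtain ⟨r⟩ := klein_split (galOut S) hG hf hx hN hsq hcomm hx1
    exact ⟨ψ.trans r⟩

theorem minus_card (hf : 1 ≤ f) (hF : Fintype.card F = p ^ f) (hk : 3 ≤ k) {a b : F}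
    (hab : ∀ z₁ z₂ : F, z₁ ^ 2 + a * z₁ * z₂ + b * z₂ ^ 2 = 0 → z₁ = 0 ∧ z₂ = 0) :
    Nat.card (MulAut (Cfsg.POmega F ⇑(minQ F k a b))) =
      (if p = 2 then 2 else (if Even ((k + 1) * (p ^ f - 1) / 2) then 4 else 8)) * f *
        Nat.card (Cfsg.POmega F ⇑(minQ F k a b)) := by
  rw [card_mulAut (Standard.minBig hk hab)]
  congr 1
  by_cases hp : p = 2
  · subst hp
    rw [if_pos rfl, (minus_two hf hF hk hab).2]
  rw [if_neg hp]
  obtain ⟨r, hr⟩ : Odd (p ^ f) := ((Fact.out : p.Prime).odd_of_ne_two hp).pow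
  have hiff : Even ((k + 1) * (p ^ f - 1) / 2) ↔ ¬ (p ^ f % 4 = 3 ∧ Even k) := by
    rw [hr, Nat.add_sub_cancel, show (k + 1) * (2 * r) = (k + 1) * r * 2 by ring,
      Nat.mul_div_cancel _ two_pos, Nat.even_mul, Nat.even_add_one, Nat.even_iff (n := r)]
    have : (2 * r + 1) % 4 = 3 ↔ r % 2 = 1 := by omega
    rw [this]
    by_cases hk : Even k <;> simp [hk]
  obtain ⟨hA, hB⟩ := minus_odd hf hF hp hk hab
  by_cases hc : p ^ f % 4 = 3 ∧ Even k
  · obtain ⟨e⟩ := hA hc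
    rw [if_neg (fun h => hiff.1 h hc), Nat.card_congr e.toEquiv, Nat.card_prod,
      DihedralGroup.nat_card, Nat.card_congr Multiplicative.toAdd, Nat.card_zmod]
  · obtain ⟨e⟩ := hB hc
    rw [if_pos (hiff.2 hc), Nat.card_congr e.toEquiv, Nat.card_congr Multiplicative.toAdd,
      Nat.card_prod, Nat.card_zmod, Nat.card_zmod]
    ring

end minus

end Cfsg.Agent.AutPOmega.OutCases
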