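import Cfsg.Agent.Lib.AutPOmega.SemiComp
import Cfsg.Agent.Lib.AutPOmega.SplitCount
import Cfsg.Agent.Lib.AutPOmega.FieldCentStd
import Cfsg.Agent.Lib.AutPOmega.LocalBalance
import Cfsg.Agent.Lib.AutPSL.Out

/-!
# The outer automorphism group of `PΩ` as an extension of the field automorphisms
-/

set_option autoImplicit false
set_option linter.unusedSectionVars false
set_option linter.unusedVariables false

namespace Cfsg.Agent.AutPOmega.OutGamma

open Matrix Cfsg.Agent.Forms Cfsg.Agent.Forms.QuadStd Cfsg.Agent.Forms.Reflections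
open Cfsg.Agent.Classical Cfsg.Agent.Classical.Orth Cfsg.Agent.Classical.OmegaCrit

universe u v w

/-! ### Extensions of finite cyclic groups -/

section ext

variable {G : Type u} [Group G] [Finite G]

/-- A group which is the product of a subgroup and a commuting cyclic group meeting it trivially. -/
theorem prod_of {A : Type v} [Group A] {N : ℕ} [NeZero N] (e : A →* G) (x : G)
    (he : Function.Injective e) (hx : orderOf x = N) (hc : ∀ a, Commute (e a) x)
    (hdisj : ∀ (a : A) (k : ℕ), e a = x ^ k → a = 1)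
    (hcard : Nat.card G = Nat.card A * N) :
    Nonempty (G ≃* A × Multiplicative (ZMod N)) := by
  have hN : x ^ N = 1 := hx ▸ pow_orderOf_eq_one x
  let ψ : Multiplicative (ZMod N) →* G := MonoidHom.mk' (fun i => x ^ (Multiplicative.toAdd i).val)
    fun i j => by
      show x ^ (Multiplicative.toAdd i + Multiplicative.toAdd j).val = _
      rw [← pow_add, ZMod.val_add]
      exact (pow_eq_pow_mod _ hN).symm
  let φ : A × Multiplicative (ZMod N) →* G := MonoidHom.noncommCoprod e ψ fun a i => (hc a).pow_right _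
  have hinj : Function.Injective φ := by
    rw [injective_iff_map_eq_one]
    rintro ⟨a, i⟩ h
    have h' : e a * x ^ (Multiplicative.toAdd i).val = 1 := h
    have ha : a⁻¹ = 1 := hdisj a⁻¹ _ (by rw [map_inv]; exact inv_eq_of_mul_eq_one_right h')
    rw [inv_eq_one] at ha
    subst ha
    rw [map_one, one_mul] at h'
    have h2 := orderOf_dvd_of_pow_eq_one h'
    rw [hx] at h2
    have h3 := Nat.eq_zero_of_dvd_of_lt h2 (ZMod.val_lt _)
    rw [ZMod.val_eq_zero] at h3
    exact Prod.ext rfl (Multiplicative.toAdd.injective h3)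
  have : Finite A := Finite.of_injective _ he
  have hc' : Nat.card (A × Multiplicative (ZMod N)) = Nat.card G := by
    rw [Nat.card_prod, Nat.card_congr Multiplicative.toAdd, Nat.card_zmod, hcard]
  exact ⟨(MulEquiv.ofBijective φ
    ((Nat.bijective_iff_injective_and_card φ).2 ⟨hinj, hc'⟩)).symm⟩

variable {Γ : Type w} [Group Γ] (π : G →* Γ) {f : ℕ} (hΓ : Nat.card Γ = f) (hf : 1 ≤ f) {x : G}
  (hx : orderOf (π x) = f)

include hΓ hf hx

theorem range_eq_top : π.range = ⊤ := by
  have : Finite Γ := Nat.finite_of_card_ne_zero (by omega)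
  refine Subgroup.eq_top_of_card_eq _ (le_antisymm (Subgroup.card_le_card_group _) ?_)
  rw [hΓ, ← hx]
  have h := orderOf_dvd_natCard (⟨π x, x, rfl⟩ : π.range)
  rw [← Subgroup.orderOf_coe] at h
  exact Nat.le_of_dvd Nat.card_pos h

theorem card_eq : Nat.card G = Nat.card π.ker * f := by
  rw [← Subgroup.card_mul_index π.ker, Subgroup.index_ker, range_eq_top π hΓ hf hx,
    Subgroup.card_top, hΓ]

/-- The order of a lift of a generator whose power is trivial. -/
theorem order_one (h1 : x ^ f = 1) : orderOf x = f :=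
  Nat.dvd_antisymm (orderOf_dvd_of_pow_eq_one h1) (hx ▸ orderOf_map_dvd π x)

/-- The order of a lift of a generator whose power is an involution. -/
theorem order_two (h1 : x ^ f ≠ 1) (h2 : x ^ f * x ^ f = 1) : orderOf x = 2 * f := by
  have ha : f ∣ orderOf x := hx ▸ orderOf_map_dvd π x
  obtain ⟨k, hk⟩ := ha
  have hb : orderOf x ∣ 2 * f := orderOf_dvd_of_pow_eq_one (by rw [two_mul, pow_add, h2])
  rw [hk, mul_comm 2 f] at hb
  have hk2 : k ∣ 2 := Nat.dvd_of_mul_dvd_mul_left (by omega) hb
  rcases (Nat.dvd_prime Nat.prime_two).1 hk2 with rfl | rfl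
  · exact absurd (by rw [mul_one] at hk; rw [← hk, pow_orderOf_eq_one]) h1
  · rw [hk, mul_comm]

/-- Kernel of order two, split. -/
theorem split_two (hN : Nat.card π.ker = 2) (h1 : x ^ f = 1) :
    Nonempty (G ≃* Multiplicative (ZMod 2 × ZMod f)) := by
  have : NeZero f := ⟨by omega⟩
  have : IsCyclic π.ker := isCyclic_of_prime_card hN
  let e0 : Multiplicative (ZMod 2) ≃* π.ker :=
    mulEquivOfCyclicCardEq (by rw [Nat.card_congr Multiplicative.toAdd, Nat.card_zmod, hN])
  have hcen : ∀ z : π.ker, Commute (z : G) x := by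
    intro z
    by_cases hz : z = 1
    · rw [hz]; exact Commute.one_left x
    have hu : ∀ w : π.ker, w ≠ 1 → w = z := fun w hw =>
      ((Nat.card_eq_two_iff' (1 : π.ker)).1 hN).unique hw hz
    have hm : x * (z : G) * x⁻¹ ∈ π.ker := (inferInstance : π.ker.Normal).conj_mem _ z.2 x
    have hne : (⟨_, hm⟩ : π.ker) ≠ 1 := fun h => hz (Subtype.ext (by
      have h' := congrArg Subtype.val h
      exact conj_eq_one_iff.1 h'))
    have e1 : x * (z : G) * x⁻¹ = z := congrArg Subtype.val (hu _ hne)
    exact (mul_inv_eq_iff_eq_mul.1 e1).symm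
  obtain ⟨φ⟩ := prod_of (π.ker.subtype.comp e0.toMonoidHom) x
    (π.ker.subtype_injective.comp e0.injective) (order_one π hΓ hf hx h1) (fun a => hcen _)
    (fun a k h => by
      have h' := congrArg π h
      rw [map_pow] at h'
      have h3 : π (π.ker.subtype (e0 a)) = 1 := (e0 a).2
      change π (π.ker.subtype (e0 a)) = _ at h'
      rw [h3] at h'
      obtain ⟨l, rfl⟩ : f ∣ k := hx ▸ orderOf_dvd_of_pow_eq_one h'.symm
      rw [pow_mul, h1, one_pow] at h
      exact e0.injective (Subtype.ext (h.trans (by simp))))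
    (by rw [card_eq π hΓ hf hx, hN, Nat.card_congr Multiplicative.toAdd, Nat.card_zmod])
  exact ⟨φ.trans (MulEquiv.prodMultiplicative (ZMod 2) _).symm⟩

/-- An elementary kernel of order four, centralised by a lift `x` with `x ^ f` nontrivial. -/
theorem klein_split (hN : Nat.card π.ker = 4) (hsq : ∀ z : π.ker, z * z = 1)
    (hc : ∀ z : π.ker, Commute (z : G) x) (h1 : x ^ f ≠ 1) :
    Nonempty (G ≃* Multiplicative (ZMod 2 × ZMod (2 * f))) := by
  classical
  have : NeZero (2 * f) := ⟨by omega⟩
  have hxf : x ^ f ∈ π.ker := by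
    rw [MonoidHom.mem_ker, map_pow, ← hx, pow_orderOf_eq_one]
  obtain ⟨n, hn1, hn2⟩ : ∃ n : π.ker, n ≠ 1 ∧ (n : G) ≠ x ^ f := by
    let _ := Fintype.ofFinite π.ker
    by_contra hne
    push Not at hne
    have hsub : (Finset.univ : Finset π.ker) ⊆ {1, ⟨_, hxf⟩} := fun n _ => by
      by_cases hn : n = 1
      · simp [hn]
      · simp [Subtype.ext_iff, hne n hn]
    have h := (Finset.card_le_card hsub).trans Finset.card_le_two
    rw [Finset.card_univ, ← Nat.card_eq_fintype_card, hN] at h
    omega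
  have hord : orderOf n = 2 := orderOf_eq_prime (by rw [sq, hsq]) hn1
  let e0 : Multiplicative (ZMod 2) ≃* Subgroup.zpowers n := mulEquivOfCyclicCardEq (by
    rw [Nat.card_congr Multiplicative.toAdd, Nat.card_zmod, Nat.card_zpowers, hord])
  let e : Multiplicative (ZMod 2) →* G :=
    (π.ker.subtype.comp (Subgroup.zpowers n).subtype).comp e0.toMonoidHom
  have hmem : ∀ a, e a = 1 ∨ e a = n := fun a => by
    obtain ⟨k, hk⟩ := (e0 a).2
    have hk' : e a = ((n ^ k : π.ker) : G) := congrArg Subtype.val hk.symm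
    rw [hk']
    rcases Int.even_or_odd' k with ⟨l, rfl | rfl⟩
    · left; rw [_root_.zpow_mul, zpow_two, hsq, _root_.one_zpow]; rfl
    · right; rw [_root_.zpow_add_one, _root_.zpow_mul, zpow_two, hsq, _root_.one_zpow, one_mul]
  have hei : Function.Injective e :=
    (π.ker.subtype_injective.comp (Subgroup.subtype_injective _)).comp e0.injective
  have hx2 := order_two π hΓ hf hx h1 (by
    exact congrArg Subtype.val (hsq ⟨_, hxf⟩))
  obtain ⟨φ⟩ := prod_of e x hei hx2
    (fun a => hc _)
    (fun a k h => by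
      rcases hmem a with h' | h'
      · exact hei (by rw [h', map_one])
      · exfalso
        rw [h'] at h
        have h3 := congrArg π h
        rw [map_pow, MonoidHom.mem_ker.1 n.2] at h3
        obtain ⟨l, rfl⟩ : f ∣ k := hx ▸ orderOf_dvd_of_pow_eq_one h3.symm
        rw [pow_mul] at h
        rcases Nat.even_or_odd' l with ⟨j, rfl | rfl⟩
        · rw [pow_mul, sq, show x ^ f * x ^ f = 1 from congrArg Subtype.val (hsq ⟨_, hxf⟩)] at h
          exact hn1 (Subtype.ext (h.trans (by simp)))
        · rw [pow_succ, pow_mul, sq, show x ^ f * x ^ f = 1 from congrArg Subtype.val (hsq ⟨_, hxf⟩)] at h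
          exact hn2 (h.trans (by simp)))
    (by rw [card_eq π hΓ hf hx, hN, Nat.card_congr Multiplicative.toAdd, Nat.card_zmod]; ring)
  exact ⟨φ.trans (MulEquiv.prodMultiplicative (ZMod 2) _).symm⟩

/-- A dihedral kernel of order eight and a cyclic quotient of odd order. -/
theorem dihedral_split (e0 : π.ker ≃* DihedralGroup 4) (hodd : Odd f) :
    Nonempty (G ≃* DihedralGroup 4 × Multiplicative (ZMod f)) := by
  have : NeZero f := ⟨by omega⟩
  set y := x ^ 8 with hy
  have hN : Nat.card π.ker = 8 := by rw [Nat.card_congr e0.toEquiv, DihedralGroup.nat_card]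
  have hπy : orderOf (π y) = f := by
    rw [hy, map_pow, Nat.Coprime.orderOf_pow, hx]
    rw [hx]
    exact (Nat.Coprime.pow_right (k := f) 3 hodd.coprime_two_right : f.Coprime (2 ^ 3))
  have hyf : y ^ f = 1 := by
    have hxf : x ^ f ∈ π.ker := by
      rw [MonoidHom.mem_ker, map_pow, ← hx, pow_orderOf_eq_one]
    rw [hy, ← pow_mul, mul_comm, pow_mul]
    have h8 : (⟨x ^ f, hxf⟩ : π.ker) ^ Nat.card π.ker = 1 := pow_card_eq_one'
    rw [hN] at h8
    exact congrArg Subtype.val h8
  let α : MulAut (DihedralGroup 4) :=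
    MulAut.congr e0 (MulAut.conjNormal (H := π.ker) y)
  have hα : α ^ f = 1 := by
    show (MulAut.congr e0 _) ^ f = 1
    rw [← map_pow, ← map_pow, hyf, map_one, map_one]
  have hr : α (DihedralGroup.r 1) = DihedralGroup.r 1 ∨ α (DihedralGroup.r 1) = DihedralGroup.r 3 := by
    have key : ∀ g : DihedralGroup 4, g * g ≠ 1 → g = DihedralGroup.r 1 ∨ g = DihedralGroup.r 3 := by
      decide
    refine key _ fun h => ?_
    rw [← map_mul, ← map_one α] at h
    exact absurd (α.injective h) (by decide)
  have hfix : ∀ (γ : MulAut (DihedralGroup 4)) (g : DihedralGroup 4) (n : ℕ), γ g = g → (γ ^ n) g = g :=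
    fun γ g n hg => by
      induction n with
      | zero => rfl
      | succ n ih => rw [pow_succ', MulAut.mul_apply, ih, hg]
  have hr1 : α (DihedralGroup.r 1) = DihedralGroup.r 1 := by
    rcases hr with h | h
    · exact h
    · have h2 : (α ^ 2) (DihedralGroup.r 1) = DihedralGroup.r 1 := by
        rw [sq, MulAut.mul_apply, h, show DihedralGroup.r (3 : ZMod 4) =
          DihedralGroup.r 1 ^ 3 from by decide, map_pow, h]
        decide
      obtain ⟨l, hl⟩ := hodd
      have h3 := hfix _ _ l h2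
      rw [← pow_mul] at h3
      have h4 : (α ^ f) (DihedralGroup.r 1) = DihedralGroup.r 1 := by rw [hα]; rfl
      rw [hl, pow_succ', MulAut.mul_apply, h3] at h4
      exact h4
  have hri : ∀ i : ZMod 4, α (DihedralGroup.r i) = DihedralGroup.r i := fun i => by
    rw [show DihedralGroup.r i = DihedralGroup.r 1 ^ i.val by revert i; decide, map_pow, hr1]
  obtain ⟨i, hi⟩ : ∃ i, α (DihedralGroup.sr 0) = DihedralGroup.sr i := by
    cases h : α (DihedralGroup.sr 0) with
    | r i => exact absurd (α.injective (h.trans (hri i).symm)) (by simp)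
    | sr i => exact ⟨i, rfl⟩
  have hsr : ∀ n : ℕ, (α ^ n) (DihedralGroup.sr 0) = DihedralGroup.sr ((n : ZMod 4) * i) := fun n => by
    induction n with
    | zero => simp [DihedralGroup.r_zero]
    | succ n ih =>
      rw [pow_succ', MulAut.mul_apply, ih,
        show DihedralGroup.sr ((n : ZMod 4) * i) = DihedralGroup.sr 0 * DihedralGroup.r ((n : ZMod 4) * i) by
          rw [DihedralGroup.sr_mul_r, zero_add], map_mul, hi, hri, DihedralGroup.sr_mul_r]
      congr 1
      push_cast
      ring
  have hi0 : i = 0 := by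
    have h := hsr f
    rw [hα, MulAut.one_apply, DihedralGroup.sr.injEq] at h
    obtain ⟨l, hl⟩ := hodd
    have key : ∀ t i : ZMod 4, (0 : ZMod 4) = (2 * t + 1) * i → i = 0 := by decide
    exact key (l : ZMod 4) i (by rw [h, hl]; push_cast; ring)
  have hall : ∀ g, α g = g := by
    intro g
    cases g with
    | r j => exact hri j
    | sr j =>
      rw [show DihedralGroup.sr j = DihedralGroup.sr 0 * DihedralGroup.r j by
        rw [DihedralGroup.sr_mul_r, zero_add], map_mul, hi, hi0, hri]
  refine prod_of (π.ker.subtype.comp e0.symm.toMonoidHom) y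
    (π.ker.subtype_injective.comp e0.symm.injective)
    (order_one π hΓ hf hπy hyf) (fun a => ?_) (fun a k h => ?_)
    (by rw [card_eq π hΓ hf hx, hN, DihedralGroup.nat_card])
  · have h : e0 (MulAut.conjNormal y (e0.symm a)) = a := hall a
    have h' : MulAut.conjNormal y (e0.symm a) = e0.symm a :=
      e0.injective (h.trans (e0.apply_symm_apply a).symm)
    have h2 : y * (e0.symm a : G) * y⁻¹ = e0.symm a := by
      rw [← MulAut.conjNormal_apply, h']
    exact (mul_inv_eq_iff_eq_mul.1 h2).symm
  · have h' := congrArg π h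
    rw [map_pow] at h'
    have h3 : π (π.ker.subtype (e0.symm a)) = 1 := (e0.symm a).2
    change π (π.ker.subtype (e0.symm a)) = _ at h'
    rw [h3] at h'
    obtain ⟨l, rfl⟩ : f ∣ k := hπy ▸ orderOf_dvd_of_pow_eq_one h'.symm
    rw [pow_mul, hyf, one_pow] at h
    exact e0.symm.injective (Subtype.ext (h.trans (by simp)))

end ext

/-! ### The projection to the Galois group -/

variable {F : Type u} [Field F] [Fintype F] {ι : Type} [Fintype ι] [DecidableEq ι]
variable {Q Q' : QuadraticForm F (ι → F)} (S : Fundamental.Big3 Q)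

instance finite_mulAut : Finite (MulAut (Cfsg.POmega F ⇑Q)) :=
  Finite.of_injective (fun e => (e : Cfsg.POmega F ⇑Q → Cfsg.POmega F ⇑Q)) DFunLike.coe_injective

section

include S

theorem semP_sigma {Φ Ψ : Semi Q Q} (h : (semP Φ : MulAut (Cfsg.POmega F ⇑Q)) = semP Ψ) : Φ.σ = Ψ.σ :=
  (semP_prop S.hQ S.fr (PointStab.hn5 S.toBig) h).1

/-- The field automorphism of an automorphism. -/
noncomputable def gal : MulAut (Cfsg.POmega F ⇑Q) →* (F ≃+* F) :=
  MonoidHom.mk' (fun β => (Classical.choose (exists_semi S β)).σ) fun β γ => by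
    have hb := Classical.choose_spec (exists_semi S β)
    have hg := Classical.choose_spec (exists_semi S γ)
    have hbg := Classical.choose_spec (exists_semi S (β * γ))
    exact semP_sigma S (Φ := Classical.choose (exists_semi S (β * γ)))
      (Ψ := (Classical.choose (exists_semi S β)).comp (Classical.choose (exists_semi S γ)))
      (by rw [semP_mul, ← hb, ← hg, ← hbg])

theorem gal_semP (Φ : Semi Q Q) : gal S (semP Φ) = Φ.σ :=
  semP_sigma S (Classical.choose_spec (exists_semi S (semP Φ : MulAut (Cfsg.POmega F ⇑Q)))).symm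

theorem gal_ker : (gal S).ker = (gAut Q).range := by
  ext β
  rw [MonoidHom.mem_ker]
  constructor
  · intro h
    obtain ⟨Φ, rfl⟩ := exists_semi S β
    rw [gal_semP] at h
    refine ⟨⟨Φ.g, Φ.c, fun v => ?_⟩, ?_⟩
    · have := Φ.h v
      rw [h] at this
      exact this
    · rw [← semP_gSemi]
      refine MulEquiv.ext fun y => ?_
      induction y using QuotientGroup.induction_on with | H s => ?_
      refine congrArg QuotientGroup.mk (Subtype.ext (Subtype.ext ?_))
      show Φ.g * fld 1 _ * Φ.g⁻¹ = Φ.g * fld Φ.σ _ * Φ.g⁻¹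
      rw [h]
  · rintro ⟨g, rfl⟩
    rw [← semP_gSemi, gal_semP]
    rfl

theorem inn_le_gal : Cfsg.Inn (Cfsg.POmega F ⇑Q) ≤ (gal S).ker := by
  rw [gal_ker, ← map_innPre_eq Q]
  exact Subgroup.map_le_range _ _

/-- The projection of the outer automorphism group. -/
noncomputable def galOut : Cfsg.Out (Cfsg.POmega F ⇑Q) →* (F ≃+* F) :=
  QuotientGroup.lift _ (gal S) (inn_le_gal S)

end

variable (Q) in
/-- The outer automorphism of a similarity. -/
noncomputable def outGO : GO Q →* Cfsg.Out (Cfsg.POmega F ⇑Q) :=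
  (QuotientGroup.mk' _).comp (gAut Q)

theorem outGO_ker : (outGO Q).ker = innPre Q := by
  rw [outGO, ← MonoidHom.comap_ker, QuotientGroup.ker_mk', innPre]

include S in
theorem galOut_ker : (galOut S).ker = (outGO Q).range := by
  rw [galOut, QuotientGroup.ker_lift, gal_ker, outGO, MonoidHom.range_comp]

include S in
theorem card_galOut_ker : Nat.card (galOut S).ker = (innPre Q).index := by
  rw [galOut_ker, ← outGO_ker, Subgroup.index_ker]

include S in
/-- A quotient of the similarities describes the kernel of the projection. -/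
theorem ker_equiv {H : Type v} [Group H] (φ : GO Q →* H) (hs : Function.Surjective φ)
    (hk : φ.ker = innPre Q) : Nonempty ((galOut S).ker ≃* H) := by
  refine ⟨(MulEquiv.subgroupCongr (galOut_ker S)).trans ?_⟩
  exact ((QuotientGroup.quotientKerEquivRange _).symm.trans
    (QuotientGroup.quotientMulEquivOfEq (outGO_ker.trans hk.symm))).trans
    (QuotientGroup.quotientKerEquivOfSurjective φ hs)

include S in
theorem card_mulAut : Nat.card (MulAut (Cfsg.POmega F ⇑Q)) =
    Nat.card (Cfsg.Out (Cfsg.POmega F ⇑Q)) * Nat.card (Cfsg.POmega F ⇑Q) := by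
  rw [Subgroup.card_eq_card_quotient_mul_card_subgroup (Cfsg.Inn (Cfsg.POmega F ⇑Q))]
  congr 1
  exact Nat.card_congr (MonoidHom.ofInjective
    (LocalBalance.conj_injective S.hQ S.fr (PointStab.hn5 S.toBig))).toEquiv.symm

/-- Semisimilarities with the same action induce the same automorphism. -/
theorem semP_congr {Φ Ψ : Semi Q Q'} (h : ∀ v, Φ.fn v = Ψ.fn v) : semP Φ = semP Ψ := by
  refine MulEquiv.ext fun y => ?_
  induction y using QuotientGroup.induction_on with | H s => ?_
  refine congrArg QuotientGroup.mk (Subtype.ext (Subtype.ext ?_))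
  show Φ.conjGL _ = Ψ.conjGL _
  refine Units.ext (Matrix.ext_iff_mulVec.2 fun v => ?_)
  obtain ⟨u, rfl⟩ := Φ.fn_surjective v
  rw [Φ.conjGL_fn, h, h, Ψ.conjGL_fn]

/-- The power of a semisimilarity whose iterate is linear. -/
theorem pow_eq_gAut {Φ : Semi Q Q} {n : ℕ} {g : GO Q} (h : ∀ v, Φ.fn^[n] v = mat g *ᵥ v) :
    (semP Φ : MulAut (Cfsg.POmega F ⇑Q)) ^ n = gAut Q g := by
  rw [← semP_pow, ← semP_gSemi]
  exact semP_congr fun v => by rw [Φ.pow_fn, h]; rfl

/-- Outer automorphism groups of isomorphic groups. -/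
theorem out_congr {A B : Type u} [Group A] [Group B] (ψ : A ≃* B) :
    Nonempty (Cfsg.Out A ≃* Cfsg.Out B) := by
  refine ⟨QuotientGroup.congr (Cfsg.Inn A) (Cfsg.Inn B) (MulAut.congr ψ) ?_⟩
  refine Subgroup.ext fun g => ?_
  obtain ⟨g, rfl⟩ := (MulAut.congr ψ).surjective g
  rw [FieldCentStd.congr_inn]
  exact Subgroup.mem_map_iff_mem (MulAut.congr ψ).injective

/-- The Frobenius automorphism. -/
theorem exists_frob {p f : ℕ} [Fact p.Prime] (hf : 1 ≤ f) (hF : Fintype.card F = p ^ f) :
    ∃ σ : F ≃+* F, (∀ z, σ z = z ^ p) ∧ orderOf σ = f ∧ Nat.card (F ≃+* F) = f := by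
  have : CharP F p := charP_of_card_eq_prime_pow hF
  have : ExpChar F p := ExpChar.prime Fact.out
  let σ : F ≃+* F := frobeniusEquiv F p
  have hσ : ∀ z, σ z = z ^ p := fun z => rfl
  have hpow : ∀ (i : ℕ) (z : F), (σ ^ i) z = z ^ p ^ i := fun i => by
    induction i with
    | zero => intro z; rw [pow_zero, pow_zero, pow_one]; rfl
    | succ i ih => intro z; rw [pow_succ', RingAut.mul_apply, ih, hσ, ← pow_mul, pow_succ]
  refine ⟨σ, hσ, (orderOf_eq_iff (by omega)).2 ⟨RingEquiv.ext fun z => ?_, fun i hi hi0 h => ?_⟩, ?_⟩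
  · rw [hpow, ← hF, FiniteField.pow_card]
    rfl
  · obtain ⟨g, hg⟩ := IsCyclic.exists_ofOrder_eq_natCard (α := Fˣ)
    have h1 : g ^ (p ^ i) = g := Units.ext (by
      rw [Units.val_pow_eq_pow_val, ← hpow, h]; rfl)
    have hp1 : 1 ≤ p ^ i := Nat.one_le_pow _ _ (Fact.out : p.Prime).pos
    have h2 : g ^ (p ^ i - 1) = 1 := by
      refine mul_right_cancel (b := g) ?_
      rw [← pow_succ, Nat.sub_add_cancel hp1, h1, one_mul]
    have h3 := Nat.le_of_dvd (by
      have : 1 < p ^ i := Nat.one_lt_pow (by omega) (Fact.out : p.Prime).one_lt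
      omega) (orderOf_dvd_of_pow_eq_one h2)
    rw [hg, Nat.card_units, Nat.card_eq_fintype_card, hF] at h3
    have : p ^ i < p ^ f := Nat.pow_lt_pow_right (Fact.out : p.Prime).one_lt hi
    omega
  · obtain ⟨e⟩ := AutPSL.Out.exists_ringAut_equiv (F := F) hF
    rw [Nat.card_congr e.toEquiv, Nat.card_congr Multiplicative.toAdd, Nat.card_zmod]

theorem chi_map (σ : F ≃+* F) (a : F) : chi (σ a) = chi a := by
  refine unit_eq_of_iff ?_
  rw [chi_eq_one_iff, chi_eq_one_iff]
  refine ⟨fun ⟨r, hr⟩ => ⟨σ.symm r, σ.injective ?_⟩, fun ⟨r, hr⟩ => ⟨σ r, by rw [hr, map_mul]⟩⟩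
  rw [hr, map_mul, σ.apply_symm_apply]

end Cfsg.Agent.AutPOmega.OutGamma
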