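import Cfsg.Agent.Lib.AutPOmega.OuterInvolution

/-!
# The core of the centraliser of an outer involution
-/

set_option autoImplicit false
set_option linter.unusedSectionVars false
set_option linter.unusedVariables false
set_option maxHeartbeats 1600000

namespace Cfsg.Agent.AutPOmega.Outer

open Matrix Module Cfsg.Agent.Forms Cfsg.Agent.Forms.QuadStd Cfsg.Agent.Forms.Reflections
open Cfsg.Agent.Classical Cfsg.Agent.Classical.Orth Cfsg.Agent.Classical.OmegaCrit

universe u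

variable {F : Type u} [Field F] [Fintype F] {ι : Type} [Fintype ι] [DecidableEq ι]
variable {Q : QuadraticForm F (ι → F)} {M : ℕ} (E : EvenSetup Q M) (h2 : (2 : F) ≠ 0)
  (hsemi : ∀ β : MulAut (Cfsg.POmega F ⇑Q), ∃ Φ : Semi Q Q, β = semP Φ)

include E h2 hsemi

/-- Triviality of the core, given that scalar action means trivial or the involution. -/
theorem assembly (g : GO Q) (hord : orderOf (gAut Q g) = 2) (P : Semi Q Q → Prop)
    (hP : ∀ (Φ : Semi Q Q) (N : ℕ), Odd N →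
      (semP Φ : MulAut (Cfsg.POmega F ⇑Q)) * gAut Q g = gAut Q g * semP Φ →
      (semP Φ : MulAut (Cfsg.POmega F ⇑Q)) ^ N = 1 → P Φ)
    (concl : ∀ Φ, P Φ → Scal Q g P Φ → (semP Φ : MulAut (Cfsg.POmega F ⇑Q)) = 1 ∨
      (semP Φ : MulAut (Cfsg.POmega F ⇑Q)) = gAut Q g)
    (A : Subgroup (MulAut (Cfsg.POmega F ⇑Q))) (hinn : ∀ k, MulAut.conj k ∈ A) :
    Cfsg.pPrimeCore 2 ↥(A ⊓ Subgroup.centralizer {gAut Q g}) = ⊥ := by
  haveI : Finite (MulAut (Cfsg.POmega F ⇑Q)) :=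
    Finite.of_injective (fun e => (e : Cfsg.POmega F ⇑Q → Cfsg.POmega F ⇑Q)) DFunLike.coe_injective
  set x := gAut Q g
  set C : Subgroup (MulAut (Cfsg.POmega F ⇑Q)) := Subgroup.centralizer {x}
  have hC : ∀ h : Cfsg.isometryGroup F ⇑Q, ofIso Q h * g = g * ofIso Q h →
      gAut Q (ofIso Q h) ∈ C := fun h hc => Subgroup.mem_centralizer_singleton_iff.2 (by
    rw [← map_mul, ← map_mul, hc])
  have last : ∀ (r : MulAut (Cfsg.POmega F ⇑Q)) (N : ℕ), Odd N → r ^ N = 1 → r = 1 ∨ r = x →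
      r = 1 := by
    rintro r N ⟨l, rfl⟩ hN (h | h)
    · exact h
    · exfalso
      rw [h, pow_succ, pow_mul, ← hord, pow_orderOf_eq_one, one_pow, one_mul] at hN
      rw [hN, orderOf_one] at hord
      exact absurd hord (by norm_num)
  -- odd groups normalised by the centraliser
  have fix : ∀ R : Subgroup (MulAut (Cfsg.POmega F ⇑Q)), R ≤ C → Odd (Nat.card R) →
      (∀ c ∈ C, ∀ r ∈ R, c * r * c⁻¹ ∈ R) → R = ⊥ := by
    intro R hle hR hn
    refine (Subgroup.eq_bot_iff_forall R).2 fun r hr => ?_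
    have hpow : ∀ s ∈ R, s ^ Nat.card R = 1 := fun s hs =>
      congrArg Subtype.val (pow_card_eq_one' (x := (⟨s, hs⟩ : R)))
    have hPR : ∀ Φ : Semi Q Q, (semP Φ : MulAut (Cfsg.POmega F ⇑Q)) ∈ R → P Φ := fun Φ hΦ =>
      hP Φ _ hR (Subgroup.mem_centralizer_singleton_iff.1 (hle hΦ)) (hpow _ hΦ)
    obtain ⟨Φ, rfl⟩ := hsemi r
    refine last _ _ hR (hpow _ hr) (concl Φ (hPR Φ hr) ?_)
    intro K _ _ W _ _ M' n b hn'
    exact fixes E.hQ E.fr E.hn5 hsemi M' b h2 hn' R hR hPR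
      (fun h hc s hs => hn _ (hC h hc) s hs) Φ hr
  set H := A ⊓ C
  set I : Subgroup (MulAut (Cfsg.POmega F ⇑Q)) := Cfsg.Inn (Cfsg.POmega F ⇑Q) ⊓ C
  have hIn : (Cfsg.Inn (Cfsg.POmega F ⇑Q)).Normal := inferInstance
  have hIH : I ≤ H := fun k hk => ⟨by obtain ⟨t, ht⟩ := hk.1; rw [← ht]; exact hinn t, hk.2⟩
  -- the core of the inner part
  have hOI : Cfsg.pPrimeCore 2 ↥I = ⊥ := by
    have hcop := PLocal.Cores.coprime_card_pPrimeCore (p := 2) (G := ↥I)
    rw [← Subgroup.map_eq_bot_iff_of_injective _ I.subtype_injective]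
    refine fix _ ?_ ?_ ?_
    · exact (Subgroup.map_subtype_le _).trans inf_le_right
    · rw [Subgroup.card_map_of_injective I.subtype_injective]
      exact Nat.coprime_two_right.1 hcop
    · rintro c hc _ ⟨k, hk, rfl⟩
      have hmap : I.map (MulAut.conj c).toMonoidHom = I := by
        ext y
        constructor
        · rintro ⟨z, hz, rfl⟩
          exact ⟨hIn.conj_mem z hz.1 c, C.mul_mem (C.mul_mem hc hz.2) (C.inv_mem hc)⟩
        · intro hy
          refine ⟨c⁻¹ * y * c, ⟨?_, C.mul_mem (C.mul_mem (C.inv_mem hc) hy.2) hc⟩, ?_⟩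
          · simpa using hIn.conj_mem y hy.1 c⁻¹
          · show c * (c⁻¹ * y * c) * c⁻¹ = y
            group
      set e : ↥I ≃* ↥I := (I.equivMapOfInjective _ (MulAut.conj c).injective).trans
        (MulEquiv.subgroupCongr hmap)
      have he := PLocal.Cores.map_pPrimeCore_equiv (p := 2) e
      exact ⟨e k, he ▸ Subgroup.mem_map_of_mem _ hk, rfl⟩
  -- the core meets the inner part trivially
  set R := Cfsg.pPrimeCore 2 ↥H
  have hRn : R.Normal := inferInstance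
  have hRcop : (Nat.card R).Coprime 2 := PLocal.Cores.coprime_card_pPrimeCore
  set N : Subgroup ↥I := R.comap (Subgroup.inclusion hIH)
  have hN : N.Normal := hRn.comap _
  have hNbot : N = ⊥ := by
    refine le_bot_iff.1 (hOI ▸ PLocal.Cores.le_pPrimeCore ?_)
    refine Nat.Coprime.coprime_dvd_left ?_ hRcop
    exact Subgroup.card_comap_dvd_of_injective _ _ (Subgroup.inclusion_injective hIH)
  refine (Subgroup.eq_bot_iff_forall R).2 fun r hr => ?_
  have hcent : ∀ k ∈ I, (r : MulAut (Cfsg.POmega F ⇑Q)) * k = k * r := fun k hk => by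
    set k' : ↥H := ⟨k, hIH hk⟩
    have hmem : (r : MulAut (Cfsg.POmega F ⇑Q)) * k * (r : MulAut _)⁻¹ * k⁻¹ ∈ I :=
      mul_mem ⟨hIn.conj_mem k hk.1 _, C.mul_mem (C.mul_mem r.2.2 hk.2) (C.inv_mem r.2.2)⟩ (inv_mem hk)
    have hR' : r * k' * r⁻¹ * k'⁻¹ ∈ R := by
      rw [show r * k' * r⁻¹ * k'⁻¹ = r * (k' * r⁻¹ * k'⁻¹) by group]
      exact mul_mem hr (hRn.conj_mem _ (inv_mem hr) k')
    have h1 : (⟨_, hmem⟩ : ↥I) ∈ N := hR'
    rw [hNbot, Subgroup.mem_bot] at h1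
    have h2 : (r : MulAut (Cfsg.POmega F ⇑Q)) * k * (r : MulAut _)⁻¹ * k⁻¹ = 1 :=
      congrArg Subtype.val h1
    rw [mul_inv_eq_one, mul_inv_eq_iff_eq_mul] at h2
    exact h2
  have hodd : Odd (Nat.card R) := Nat.coprime_two_right.1 hRcop
  have hpow : (r : MulAut (Cfsg.POmega F ⇑Q)) ^ Nat.card R = 1 := by
    have h := congrArg Subtype.val (pow_card_eq_one' (x := (⟨r, hr⟩ : R)))
    exact congrArg Subtype.val h
  obtain ⟨Φ, hΦ⟩ := hsemi (r : MulAut (Cfsg.POmega F ⇑Q))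
  rw [hΦ] at hpow hcent
  have hPΦ : P Φ := hP Φ _ hodd (Subgroup.mem_centralizer_singleton_iff.1 (hΦ ▸ r.2.2)) hpow
  refine Subtype.ext (hΦ.trans (last _ _ hodd hpow (concl Φ hPΦ ?_)))
  intro K _ _ W _ _ M' n b hn'
  refine central E.hQ E.fr E.hn5 hsemi M' b h2 hn' Φ hPΦ fun h hc => hcent _ ⟨?_, ?_⟩
  · have hh : h * h ∈ Cfsg.Omega F ⇑Q := by
      rw [mem_omega_iff E.hQ E.hq, map_mul]
      exact Prod.ext (Int.units_mul_self _) (Int.units_mul_self _)
    exact ⟨QuotientGroup.mk ⟨h * h, hh⟩, conj_mk_eq _⟩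
  · refine hC _ ?_
    rw [map_mul, mul_assoc, hc, ← mul_assoc, hc, mul_assoc]

/-- The core of the centraliser of an outer involution is trivial. -/
theorem core_eq_bot (hsing : ∀ R : Submodule F (ι → F), (∀ r ∈ R, Q r = 0) → finrank F R < M)
    (g : GO Q) (hord : orderOf (gAut Q g) = 2) (hcls : E.cls g = -1)
    (A : Subgroup (MulAut (Cfsg.POmega F ⇑Q))) (hinn : ∀ k, MulAut.conj k ∈ A) :
    Cfsg.pPrimeCore 2 ↥(A ⊓ Subgroup.centralizer {gAut Q g}) = ⊥ := by
  obtain ⟨l, hl⟩ := (gAut_eq_one_iff E.hQ E.fr E.hn5 (g * g)).1 (by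
    rw [map_mul, ← sq, ← hord, pow_orderOf_eq_one])
  have htw : ∀ Φ : Semi Q Q, (semP Φ : MulAut (Cfsg.POmega F ⇑Q)) * gAut Q g = gAut Q g * semP Φ →
      Twist g Φ := fun Φ h => fn_comm E.hQ E.fr E.hn5 h
  by_cases hsq : IsSquare (l : F)
  swap
  · exact assembly E h2 hsemi g hord (Twist g) (fun Φ N _ h _ => htw Φ h)
      (inert_case E h2 hsq hl hcls) A hinn
  obtain ⟨s, hs⟩ := hsq
  have hs0 : s ≠ 0 := fun h => l.ne_zero (by rw [hs, h, mul_zero])
  set g' := scal Q (Units.mk0 s hs0)⁻¹ * g with hg'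
  have hgA : gAut Q g' = gAut Q g := by rw [map_mul, gAut_scal, one_mul]
  have hcls' : E.cls g' = -1 := by rw [map_mul, E.cls_scal, one_mul, hcls]
  have hgg : g' * g' = 1 := by
    have hu : (Units.mk0 s hs0)⁻¹ * (Units.mk0 s hs0)⁻¹ * l = 1 := Units.ext (by
      simp only [Units.val_mul, Units.val_inv_eq_inv_val, Units.val_mk0, Units.val_one, hs]
      field_simp)
    calc g' * g' = scal Q (Units.mk0 s hs0)⁻¹ * scal Q (Units.mk0 s hs0)⁻¹ * (g * g) := by
          rw [hg', mul_assoc, ← mul_assoc g, ← scal_comm]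
          simp only [mul_assoc]
      _ = 1 := by rw [hl, ← scal_mul, ← scal_mul, hu, scal_one]
  obtain ⟨w, hw⟩ : ∃ w : ι → F, Q w ≠ 0 := ⟨E.fr.x₀, E.fr.hx⟩
  have hμμ : (muC g' : F) * muC g' = 1 := mul_right_cancel₀ hw (by
    rw [mul_assoc, ← muC_spec, ← muC_spec, g_g hgg, one_mul])
  have hμ : (muC g' : F) = 1 := by
    rcases mul_self_eq_one_iff.1 hμμ with h | h
    · exact h
    exfalso
    have hz : ∀ s : F, (s = 1 ∨ s = -1) → ∀ v ∈ eig g' s, Q v = 0 := fun s hs v hv => by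
      have e := muC_spec g' v
      rw [mem_eig.1 hv, Orth.map_smul', h] at e
      have hss : s * s = 1 := by rcases hs with rfl | rfl <;> ring
      exact (mul_eq_zero.1 (show (2 : F) * Q v = 0 by linear_combination e - Q v * hss)).resolve_left h2
    have h1 := hsing _ (hz 1 (Or.inl rfl))
    have h2' := hsing _ (hz (-1) (Or.inr rfl))
    have h3 := Submodule.finrank_add_eq_of_isCompl (isCompl E h2 hgg)
    rw [Module.finrank_pi, E.hM] at h3
    omega
  rw [← hgA]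
  refine assembly E h2 hsemi g' (hgA ▸ hord) (Exact g') (fun Φ N hN hc hpow => ?_)
    (split_case E h2 hgg hμ hcls') A hinn
  obtain ⟨e, he⟩ := fn_comm E.hQ E.fr E.hn5 hc
  have hw0 : w ≠ 0 := fun h => hw (by rw [h, map_zero])
  obtain ⟨u, hu⟩ := Φ.fn_surjective w
  have hee : (e : F) * e = 1 := by
    have h := congrArg Φ.fn (g_g hgg u)
    rw [he, he, Matrix.mulVec_smul, g_g hgg, smul_smul, hu] at h
    exact smul_left_injective F hw0 (h.trans (one_smul F w).symm)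
  rcases mul_self_eq_one_iff.1 hee with h1 | h1
  · intro v
    rw [he, h1, one_smul]
  exfalso
  have hit : ∀ (i : ℕ) v, Φ.fn^[i] (mat g' *ᵥ v) = (-1 : F) ^ i • (mat g' *ᵥ Φ.fn^[i] v) := fun i => by
    induction i with
    | zero => intro v; simp
    | succ i ih =>
      intro v
      rw [Function.iterate_succ_apply', ih, Φ.fn_smul, he, h1, map_pow, map_neg, map_one, smul_smul,
        pow_succ, Function.iterate_succ_apply']
  obtain ⟨-, a, ha⟩ := semP_prop E.hQ E.fr E.hn5 (Φ := Φ.pow N) (Ψ := Semi.id Q)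
    (by rw [semP_pow, hpow, semP_id])
  have h := hit N w
  rw [← Φ.pow_fn, ← Φ.pow_fn, ha, ha, Semi.id_fn, Semi.id_fn, hN.neg_one_pow, neg_one_smul,
    Matrix.mulVec_smul] at h
  have h' : ((2 : F) * a) • (mat g' *ᵥ w) = 0 := by
    rw [mul_smul, two_smul]
    nth_rw 2 [h]
    exact add_neg_cancel _
  rcases smul_eq_zero.1 h' with h'' | h''
  · exact mul_ne_zero h2 a.ne_zero h''
  · exact hw0 (by rw [← g_g hgg w, h'', Matrix.mulVec_zero])

end Cfsg.Agent.AutPOmega.Outer
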