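import Cfsg.Agent.Lib.AutPOmega.OuterModel
import Cfsg.Agent.Lib.AutPOmega.LocalBalance
import Mathlib.RingTheory.Norm.Transitivity
import Mathlib.Algebra.QuadraticAlgebra.NormDeterminant

/-!
# Outer involutions induced by similarities, form not of plus type

An involution induced by a similarity that exchanges the two classes centralises either two
subspaces of odd dimension or a quadratic extension. In both cases the largest odd normal subgroup
of its centraliser in a group containing the inner automorphisms is trivial.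
-/

set_option autoImplicit false
set_option linter.unusedSectionVars false
set_option linter.unusedVariables false
set_option maxHeartbeats 1600000

namespace Cfsg.Agent.AutPOmega.Outer

open Matrix Module Cfsg.Agent.Forms Cfsg.Agent.Forms.QuadStd Cfsg.Agent.Forms.Reflections
open Cfsg.Agent.Classical Cfsg.Agent.Classical.Orth Cfsg.Agent.Classical.OmegaCrit

universe u

variable {F : Type u} [Field F] {ι : Type} [Fintype ι] [DecidableEq ι]
variable {Q : QuadraticForm F (ι → F)}

theorem semP_congr {Φ Ψ : Semi Q Q} (hσ : Φ.σ = Ψ.σ) (h : ∀ v, Φ.fn v = Ψ.fn v) :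
    (semP Φ : MulAut (Cfsg.POmega F ⇑Q)) = semP Ψ := by
  have hg : Φ.g = Ψ.g := Units.ext (Matrix.ext_iff_mulVec.2 fun v => by
    have h1 := h fun i => Φ.σ.symm (v i)
    simp only [Semi.fn, ← hσ, RingEquiv.apply_symm_apply] at h1
    exact h1)
  refine MulEquiv.ext fun x => ?_
  induction x using QuotientGroup.induction_on with | H s => ?_
  refine congrArg QuotientGroup.mk (Subtype.ext (Subtype.ext ?_))
  show Φ.g * fld Φ.σ _ * Φ.g⁻¹ = Ψ.g * fld Ψ.σ _ * Ψ.g⁻¹
  rw [hg, hσ]

theorem semP_eq_gAut {Φ : Semi Q Q} (hσ : Φ.σ = 1) (G : GO Q) (h : ∀ v, Φ.fn v = mat G *ᵥ v) :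
    (semP Φ : MulAut (Cfsg.POmega F ⇑Q)) = gAut Q G := by
  rw [← semP_gSemi]
  exact semP_congr hσ h

theorem polar_fn (Φ : Semi Q Q) (u v : ι → F) :
    QuadraticMap.polar Q (Φ.fn u) (Φ.fn v) = (Φ.c : F) * Φ.σ (QuadraticMap.polar Q u v) := by
  simp only [QuadraticMap.polar, ← Φ.fn_add, Φ.fn_map, map_sub]
  ring

/-- A linear map preserving a nondegenerate form is an isometry. -/
theorem iso_of_preserves (hQ : (QuadraticMap.polarBilin Q).Nondegenerate)
    (L : (ι → F) →ₗ[F] (ι → F)) (hL : ∀ v, Q (L v) = Q v) :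
    ∃ h : Cfsg.isometryGroup F ⇑Q, ∀ v, act h v = L v := by
  have hinj : Function.Injective L := (injective_iff_map_eq_zero L).2 fun v hv =>
    hQ.1 v fun w => by
      have e : QuadraticMap.polar Q (L v) (L w) = QuadraticMap.polar Q v w := by
        simp only [QuadraticMap.polar, ← map_add, hL]
      rw [QuadraticMap.polarBilin_apply_apply, ← e, hv]
      simp [QuadraticMap.polar]
  exact ⟨isoOfEquiv ⇑Q (LinearEquiv.ofInjectiveEndo L hinj) hL, fun v =>
    (act_apply _ v).trans (isoOfEquiv_mulVec _ _ _ v)⟩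

/-- Action by scalars on every space attached to the involution. -/
def Scal (Q : QuadraticForm F (ι → F)) (g : GO Q) (P : Semi Q Q → Prop) (Φ : Semi Q Q) : Prop :=
  ∀ (E : Type u) [Field E] [Fintype E] (W : Type u) [AddCommGroup W] [Module E W]
    (M : Model Q g P E W) (n : ℕ) (_ : Basis (Fin n) E W), 3 ≤ n →
    Φ.σ = 1 ∧ ∃ t : E, ∀ w, Φ.fn (M.j w) = M.j (t • w)

/-- Exact commutation. -/
def Exact (g : GO Q) (Φ : Semi Q Q) : Prop := ∀ v, Φ.fn (mat g *ᵥ v) = mat g *ᵥ Φ.fn v

/-- Commutation up to a scalar. -/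
def Twist (g : GO Q) (Φ : Semi Q Q) : Prop :=
  ∃ e : Fˣ, ∀ v, Φ.fn (mat g *ᵥ v) = (e : F) • (mat g *ᵥ Φ.fn v)

variable {M : ℕ} [Fintype F] (E : EvenSetup Q M) (h2 : (2 : F) ≠ 0)

include E h2

theorem det_neg_of_cls {g : GO Q} (hcls : E.cls g = -1) :
    (mat g).det ≠ (muC g : F) ^ M := fun h => by
  have h1 : E.cls g = 1 := by
    rw [E.cls_apply, E.clsF_odd h2, (E.toSetup h2).dsgH_eq_one_iff]
    exact h
  rw [h1] at hcls
  exact absurd hcls (by decide)

omit [Fintype F] E h2 in
/-- The eigenspace. -/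
noncomputable def eig (g : GO Q) (s : F) : Submodule F (ι → F) :=
  LinearMap.ker (Matrix.toLin' (mat g) - s • LinearMap.id)

omit [Fintype F] E h2 in
theorem mem_eig {g : GO Q} {s : F} {v : ι → F} : v ∈ eig g s ↔ mat g *ᵥ v = s • v := by
  simp [eig, sub_eq_zero]

/-! ### Two eigenspaces -/

section split

variable {g : GO Q} (hg : g * g = 1)

include hg

omit [Fintype F] E h2 in
theorem g_g (v : ι → F) : mat g *ᵥ (mat g *ᵥ v) = v := by
  rw [Matrix.mulVec_mulVec, ← mat_mul, hg, mat_one, Matrix.one_mulVec]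

omit [Fintype F] in
theorem isCompl : IsCompl (eig g 1) (eig g (-1)) := by
  refine ⟨Submodule.disjoint_def.2 fun v h1 h2' => ?_, codisjoint_iff.2 (eq_top_iff.2 fun v _ => ?_)⟩
  · rw [mem_eig, one_smul] at h1
    rw [mem_eig, h1, neg_one_smul] at h2'
    have h3 : (2 : F) • v = 0 := by rw [two_smul]; nth_rw 2 [h2']; abel
    exact (smul_eq_zero.1 h3).resolve_left h2
  · refine Submodule.mem_sup.2 ⟨(2 : F)⁻¹ • (v + mat g *ᵥ v), ?_, (2 : F)⁻¹ • (v - mat g *ᵥ v), ?_, ?_⟩
    · rw [mem_eig, one_smul, Matrix.mulVec_smul, Matrix.mulVec_add, g_g hg, add_comm]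
    · rw [mem_eig, neg_one_smul, Matrix.mulVec_smul, Matrix.mulVec_sub, g_g hg, ← smul_neg, neg_sub]
    · rw [← smul_add, add_add_sub_cancel, ← two_smul F v, inv_smul_smul₀ h2]

omit [Fintype F] in
theorem det_eq : (mat g).det = (-1) ^ finrank F ↥(eig g (-1)) := by
  set e := Submodule.prodEquivOfIsCompl _ _ (isCompl E h2 hg)
  have hL : Matrix.toLin' (mat g) =
      (e.toLinearMap ∘ₗ (LinearMap.id.prodMap ((-1 : F) • LinearMap.id))) ∘ₗ e.symm.toLinearMap := by
    refine LinearMap.ext fun v => ?_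
    obtain ⟨⟨a, b⟩, rfl⟩ := e.surjective v
    simp only [LinearMap.comp_apply, LinearEquiv.coe_coe, LinearEquiv.symm_apply_apply,
      LinearMap.prodMap_apply, LinearMap.id_coe, LinearMap.smul_apply, id_eq, toLin'_apply]
    rw [Submodule.coe_prodEquivOfIsCompl', Submodule.coe_prodEquivOfIsCompl', Matrix.mulVec_add,
      mem_eig.1 a.2, mem_eig.1 b.2, one_smul]
    rfl
  rw [← LinearMap.det_toLin', hL]
  rw [show (e.toLinearMap ∘ₗ (LinearMap.id.prodMap ((-1 : F) • LinearMap.id))) ∘ₗ e.symm.toLinearMap =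
    e.conj (LinearMap.id.prodMap ((-1 : F) • LinearMap.id)) from rfl, LinearEquiv.conj_apply,
    LinearMap.comp_assoc, LinearMap.det_conj, LinearMap.det_prodMap, LinearMap.det_id, one_mul, LinearMap.det_smul,
    LinearMap.det_id, mul_one]

variable (hμ : (muC g : F) = 1)

include hμ

omit [Fintype F] in
theorem perp {s : F} (hs : s = 1 ∨ s = -1) {u v : ι → F} (hu : u ∈ eig g s) (hv : v ∈ eig g (-s)) :
    QuadraticMap.polar Q u v = 0 := by
  have h := polar_mat g u v
  rw [mem_eig.1 hu, mem_eig.1 hv, hμ, one_mul, QuadraticMap.polar_smul_left,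
    QuadraticMap.polar_smul_right, smul_eq_mul, smul_eq_mul] at h
  have hss : s * s = 1 := by rcases hs with rfl | rfl <;> ring
  exact (mul_eq_zero.1 (show (2 : F) * _ = 0 by
    linear_combination -h - QuadraticMap.polar Q u v * hss)).resolve_left h2

omit [Fintype F] in
theorem nondeg_eig {s : F} (hs : s = 1 ∨ s = -1) {u : ι → F} (hu : u ∈ eig g s)
    (h : ∀ w ∈ eig g s, QuadraticMap.polar Q u w = 0) : u = 0 := by
  refine E.hQ.1 u fun v => ?_
  obtain ⟨a, b, rfl, -⟩ := Submodule.existsUnique_add_of_isCompl (isCompl E h2 hg) v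
  rw [QuadraticMap.polarBilin_apply_apply, QuadraticMap.polar_add_right]
  rcases hs with rfl | rfl
  · rw [h _ a.2, perp E h2 hg hμ (Or.inl rfl) hu b.2, add_zero]
  · rw [h _ b.2, perp E h2 hg hμ (Or.inr rfl) hu (by rw [neg_neg]; exact a.2), add_zero]

omit [Fintype F] in
theorem exists_aniso {s : F} (hs : s = 1 ∨ s = -1) (h0 : eig g s ≠ ⊥) :
    ∃ w ∈ eig g s, Q w ≠ 0 := by
  by_contra hall
  push Not at hall
  refine h0 ((Submodule.eq_bot_iff _).2 fun u hu => nondeg_eig E h2 hg hμ hs hu fun w hw => ?_)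
  rw [QuadraticMap.polar, hall _ (add_mem hu hw), hall _ hu, hall _ hw]
  simp

omit [Fintype F] in
/-- The model on one eigenspace. -/
theorem exists_model {s : F} (hs : s = 1 ∨ s = -1) :
    ∃ M' : Model Q g (Exact g) F ↥(eig g s), (∀ w, M'.j w = w.1) ∧
      ∀ u w, M'.β u w = QuadraticMap.polar Q u.1 w.1 := by
  have hss : s * s = 1 := by rcases hs with rfl | rfl <;> ring
  let π : (ι → F) →ₗ[F] (ι → F) := (2 : F)⁻¹ • (LinearMap.id + s • Matrix.toLin' (mat g))
  have hπ : ∀ v, π v = (2 : F)⁻¹ • (v + s • (mat g *ᵥ v)) := fun v => by simp [π]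
  have hπm : ∀ v, π v ∈ eig g s := fun v => by
    rw [hπ, mem_eig, Matrix.mulVec_smul, Matrix.mulVec_add, Matrix.mulVec_smul, g_g hg, smul_comm s,
      smul_add s, smul_smul s s, hss, one_smul, add_comm]
  have hρm : ∀ v, v - π v ∈ eig g (-s) := fun v => by
    rw [hπ, mem_eig, Matrix.mulVec_sub, Matrix.mulVec_smul, Matrix.mulVec_add, Matrix.mulVec_smul,
      g_g hg]
    have h22 : (2 : F)⁻¹ + (2 : F)⁻¹ = 1 := by field_simp; norm_num
    match_scalars
    · linear_combination (-(1 : F)) * h22 - (2 : F)⁻¹ * hss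
    · linear_combination (-s) * h22
  refine ⟨{
    φ := RingHom.id F
    β := (polB Q).compl₁₂ (eig g s).subtype (eig g s).subtype
    symm := fun u w => QuadraticMap.polar_comm _ _ _
    nondeg := fun u hu => Subtype.ext (nondeg_eig E h2 hg hμ hs u.2 fun w hw => hu ⟨w, hw⟩)
    j := (eig g s).subtype.toAddMonoidHom
    inj := Subtype.val_injective
    j_smul := fun a w => rfl
    lift := fun Φ hΦ => ?_
    ext := fun Y hY => ?_ }, fun w => rfl, fun u w => rfl⟩
  · have hmem : ∀ w : ↥(eig g s), Φ.fn w.1 ∈ eig g s := fun w => by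
      have hσs : Φ.σ s = s := by rcases hs with rfl | rfl <;> simp
      rw [mem_eig, ← hΦ, mem_eig.1 w.2, Φ.fn_smul, hσs]
    refine ⟨Φ.σ, fun w => ⟨Φ.fn w.1, hmem w⟩, fun a => rfl, fun w => rfl,
      fun e w => Subtype.ext (Φ.fn_smul e w.1), fun w hw => ?_⟩
    show QuadraticMap.polar Q (Φ.fn w.1) (Φ.fn w.1) = 0
    rw [polar_fn, show QuadraticMap.polar Q w.1 w.1 = 0 from hw, map_zero, mul_zero]
  · let L : (ι → F) →ₗ[F] (ι → F) := ((eig g s).subtype ∘ₗ Y.toLinearMap) ∘ₗ
      π.codRestrict _ hπm + (LinearMap.id - π)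
    have hLv : ∀ v, L v = (Y ⟨π v, hπm v⟩).1 + (v - π v) := fun v => rfl
    have hsplit : ∀ a b : ι → F, a ∈ eig g s → b ∈ eig g (-s) → Q (a + b) = Q a + Q b :=
      fun a b ha hb => by
        have h := perp E h2 hg hμ hs ha hb
        rw [QuadraticMap.polar, sub_sub, sub_eq_zero] at h
        exact h
    have hQY : ∀ w : ↥(eig g s), Q (Y w).1 = Q w.1 := fun w => by
      have h : QuadraticMap.polar Q (Y w).1 (Y w).1 = QuadraticMap.polar Q w.1 w.1 := hY w w
      rw [QuadraticMap.polar_self, QuadraticMap.polar_self, two_nsmul, two_nsmul] at h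
      exact mul_left_cancel₀ h2 (by linear_combination h)
    obtain ⟨h, hh⟩ := iso_of_preserves E.hQ L fun v => by
      rw [hLv, hsplit _ _ (Y _).2 (hρm v), hQY]
      conv_rhs => rw [← add_sub_cancel (π v) v, hsplit _ _ (hπm v) (hρm v)]
    refine ⟨h, go_ext fun v => ?_, fun w => ?_⟩
    · rw [mat_mul, mat_mul, ← Matrix.mulVec_mulVec, ← Matrix.mulVec_mulVec, ofIso_mulVec,
        ofIso_mulVec, hh, hh, hLv, hLv, Matrix.mulVec_add, mem_eig.1 (Y _).2,
        mem_eig.1 (hρm v)]
      have e1 : π (mat g *ᵥ v) = s • π v := by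
        rw [← mem_eig.1 (hπm v), hπ, hπ, Matrix.mulVec_smul, Matrix.mulVec_add, Matrix.mulVec_smul]
      have e2 : mat g *ᵥ v - π (mat g *ᵥ v) = -s • (v - π v) := by
        rw [e1, ← mem_eig.1 (hρm v), ← mem_eig.1 (hπm v), Matrix.mulVec_sub]
      rw [e2]
      congr 1
      have e3 : (⟨π (mat g *ᵥ v), hπm _⟩ : ↥(eig g s)) = s • ⟨π v, hπm v⟩ := Subtype.ext e1
      rw [e3, map_smul]
      rfl
    · show act h w.1 = (Y w).1
      have e : π w.1 = w.1 := by
        rw [hπ, mem_eig.1 w.2, smul_smul, hss, one_smul, ← two_smul F w.1, inv_smul_smul₀ h2]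
      rw [hh, hLv, show (⟨π w.1, hπm _⟩ : ↥(eig g s)) = w from Subtype.ext e, e, sub_self, add_zero]

omit [Fintype F] in
/-- A semisimilarity acting by scalars is trivial or the involution. -/
theorem split_case [Fintype F] (hcls : E.cls g = -1) (Φ : Semi Q Q) (hΦ : Exact g Φ)
    (hS : Scal Q g (Exact g) Φ) :
    (semP Φ : MulAut (Cfsg.POmega F ⇑Q)) = 1 ∨
      (semP Φ : MulAut (Cfsg.POmega F ⇑Q)) = gAut Q g := by
  have hdet := det_neg_of_cls E h2 hcls
  rw [hμ, one_pow, det_eq E h2 hg] at hdet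
  have hsum : finrank F ↥(eig g 1) + finrank F ↥(eig g (-1)) = 2 * M := by
    rw [Submodule.finrank_add_eq_of_isCompl (isCompl E h2 hg), Module.finrank_pi, E.hM]
  have hodd : Odd (finrank F ↥(eig g (-1))) := by
    rcases Nat.even_or_odd (finrank F ↥(eig g (-1))) with h | h
    · exact absurd h.neg_one_pow hdet
    · exact h
  have hn := E.hn
  rw [E.hM] at hn
  have key : ∀ s : F, (s = 1 ∨ s = -1) → 3 ≤ finrank F ↥(eig g s) →
      Φ.σ = 1 ∧ ∃ t : F, ∀ v ∈ eig g s, Φ.fn v = t • v := fun s hs h3 => by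
    obtain ⟨M', hj, -⟩ := exists_model E h2 hg hμ hs
    obtain ⟨h1, t, ht⟩ := hS F _ M' _ (Module.finBasis F _) h3
    refine ⟨h1, t, fun v hv => ?_⟩
    have := ht ⟨v, hv⟩
    rwa [hj, hj] at this
  have hσ : Φ.σ = 1 := by
    by_cases h : 3 ≤ finrank F ↥(eig g 1)
    · exact (key 1 (Or.inl rfl) h).1
    · exact (key (-1) (Or.inr rfl) (by omega)).1
  have hne : ∀ s : F, (s = 1 ∨ s = -1) → Odd (finrank F ↥(eig g s)) →
      ∃ t : F, (∀ v ∈ eig g s, Φ.fn v = t • v) ∧ t * t = Φ.c := fun s hs ho => by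
    have hbot : eig g s ≠ ⊥ := fun h => by
      rw [h, finrank_bot] at ho
      exact Nat.not_odd_zero ho
    obtain ⟨w, hw, hw0⟩ := exists_aniso E h2 hg hμ hs hbot
    have hfin : ∀ t : F, (∀ v ∈ eig g s, Φ.fn v = t • v) → t * t = Φ.c := fun t ht => by
      have h := Φ.fn_map w
      rw [ht w hw, Orth.map_smul', hσ, RingAut.one_apply] at h
      exact mul_right_cancel₀ hw0 h
    obtain ⟨l, hl⟩ := ho
    by_cases h3 : 3 ≤ finrank F ↥(eig g s)
    · obtain ⟨-, t, ht⟩ := key s hs h3
      exact ⟨t, ht, hfin t ht⟩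
    · have hmem : ∀ v ∈ eig g s, Φ.fn v ∈ eig g s := fun v hv => by
        have hσs : Φ.σ s = s := by rw [hσ]; rfl
        rw [mem_eig, ← hΦ, mem_eig.1 hv, Φ.fn_smul, hσs]
      have h1 : finrank F ↥(eig g s) = 1 := by omega
      have hw' : (⟨w, hw⟩ : ↥(eig g s)) ≠ 0 := fun h => hw0 (by
        rw [show w = 0 from congrArg Subtype.val h, map_zero])
      obtain ⟨t, ht⟩ := (finrank_eq_one_iff_of_nonzero' _ hw').1 h1 ⟨_, hmem w hw⟩
      have ht' : ∀ v ∈ eig g s, Φ.fn v = t • v := fun v hv => by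
        obtain ⟨a, ha⟩ := (finrank_eq_one_iff_of_nonzero' _ hw').1 h1 ⟨v, hv⟩
        rw [← show a • w = v from congrArg Subtype.val ha, Φ.fn_smul, hσ, RingAut.one_apply,
          ← show t • w = Φ.fn w from congrArg Subtype.val ht, smul_comm]
      exact ⟨t, ht', hfin t ht'⟩
  have hodd1 : Odd (finrank F ↥(eig g 1)) := by
    obtain ⟨l, hl⟩ := hodd
    exact ⟨M - l - 1, by omega⟩
  obtain ⟨t, ht, htc⟩ := hne 1 (Or.inl rfl) hodd1
  obtain ⟨t', ht', htc'⟩ := hne (-1) (Or.inr rfl) hodd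
  have ht0 : t ≠ 0 := fun h => Φ.c.ne_zero (by rw [← htc, h, mul_zero])
  set T : Fˣ := Units.mk0 t ht0
  rcases mul_self_eq_mul_self_iff.1 (htc'.trans htc.symm) with h | h
  · left
    rw [semP_eq_gAut hσ (scal Q T) fun v => ?_, gAut_scal]
    obtain ⟨a, b, rfl, -⟩ := Submodule.existsUnique_add_of_isCompl (isCompl E h2 hg) v
    rw [Φ.fn_add, ht _ a.2, ht' _ b.2, h, scal_mulVec, smul_add]
    rfl
  · right
    rw [semP_eq_gAut hσ (scal Q T * g) fun v => ?_, map_mul, gAut_scal, one_mul]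
    obtain ⟨a, b, rfl, -⟩ := Submodule.existsUnique_add_of_isCompl (isCompl E h2 hg) v
    rw [Φ.fn_add, ht _ a.2, ht' _ b.2, h, mat_mul, ← Matrix.mulVec_mulVec, scal_mulVec,
      Matrix.mulVec_add, mem_eig.1 a.2, mem_eig.1 b.2, smul_add, one_smul, smul_smul]
    congr 1
    rw [mul_neg_one]
    rfl

end split

/-! ### A quadratic extension -/

theorem inert_model {g : GO Q} {l : Fˣ} (hl : ¬ IsSquare (l : F)) (hg : g * g = scal Q l)
    (hcls : E.cls g = -1) :
    ∃ (K : Type u) (_ : Field K) (_ : Fintype K) (_ : Module K (ι → F))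
      (M' : Model Q g (Twist g) K (ι → F)) (_ : Basis (Fin M) K (ι → F)) (ω : K),
      ((muC g : F) = l ∧ (mat g).det = (-(l : F)) ^ M) ∧ (∀ v, M'.j v = v) ∧
      (∀ t : K, ∃ x y : F, ∀ v : ι → F, t • v = x • v + y • (mat g *ᵥ v)) ∧
      ∀ v, M'.β v v = ω →
        QuadraticMap.polar Q v (mat g *ᵥ v) = 0 ∧ QuadraticMap.polar Q v v = 1 := by
  set a : F := (l : F)
  have : Fact (∀ r : F, r ^ 2 ≠ a + 0 * r) := ⟨fun r hr => hl ⟨r, by linear_combination -hr⟩⟩
  haveI : Module.Finite F (QuadraticAlgebra F a 0) :=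
    Module.finite_of_finrank_eq_succ (QuadraticAlgebra.finrank_eq_two _ _)
  haveI : Finite (QuadraticAlgebra F a 0) := Module.finite_of_finite F
  letI := Fintype.ofFinite (QuadraticAlgebra F a 0)
  have gg : ∀ v, mat g *ᵥ (mat g *ᵥ v) = a • v := fun v => by
    rw [Matrix.mulVec_mulVec, ← mat_mul, hg, scal_mulVec]
  let G : Module.End F (ι → F) := Matrix.toLin' (mat g)
  have hG : G * G = a • 1 + (0 : F) • G := LinearMap.ext fun v => by
    simp [G, gg v]
  let ρ : QuadraticAlgebra F a 0 →ₐ[F] Module.End F (ι → F) := QuadraticAlgebra.lift ⟨G, hG⟩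
  letI : Module (QuadraticAlgebra F a 0) (ι → F) := Module.compHom (ι → F) ρ.toRingHom
  have hsm : ∀ (z : QuadraticAlgebra F a 0) (v : ι → F), z • v = z.re • v + z.im • (mat g *ᵥ v) :=
    fun z v => by
      show ρ z v = _
      simp [ρ, G]
  haveI : IsScalarTower F (QuadraticAlgebra F a 0) (ι → F) := ⟨fun c z v => by
    show ρ (c • z) v = c • ρ z v
    rw [map_smul]
    rfl⟩
  haveI : Module.Finite (QuadraticAlgebra F a 0) (ι → F) :=
    Module.Finite.of_restrictScalars_finite F _ _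
  have hn : finrank (QuadraticAlgebra F a 0) (ι → F) = M := by
    have h := Module.finrank_mul_finrank F (QuadraticAlgebra F a 0) (ι → F)
    rw [QuadraticAlgebra.finrank_eq_two, Module.finrank_pi, E.hM] at h
    omega
  obtain ⟨w0, hw0⟩ : ∃ w : ι → F, Q w ≠ 0 := ⟨E.fr.x₀, E.fr.hx⟩
  set μ : F := (muC g : F)
  have hμμ : μ * μ = a * a := mul_right_cancel₀ hw0 (by
    rw [mul_assoc, ← muC_spec, ← muC_spec, gg, Orth.map_smul'])
  have hdet : (mat g).det = (-a) ^ M := by
    let om : (ι → F) →ₗ[QuadraticAlgebra F a 0] (ι → F) :=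
      (QuadraticAlgebra.omega : QuadraticAlgebra F a 0) • LinearMap.id
    have hom : Matrix.toLin' (mat g) = om.restrictScalars F := LinearMap.ext fun v => by
      show _ = (QuadraticAlgebra.omega : QuadraticAlgebra F a 0) • v
      rw [hsm]
      simp
    rw [← LinearMap.det_toLin', hom, LinearMap.det_restrictScalars, LinearMap.det_smul,
      LinearMap.det_id, mul_one, map_pow, hn]
    congr 1
    rw [Algebra.norm_apply, show Algebra.lmul F (QuadraticAlgebra F a 0) QuadraticAlgebra.omega =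
      DistribSMul.toLinearMap F _ (QuadraticAlgebra.omega : QuadraticAlgebra F a 0) from
      LinearMap.ext fun z => rfl, QuadraticAlgebra.det_toLinearMap_eq_norm, QuadraticAlgebra.norm_def]
    simp
  have hμ : μ = a := by
    rcases mul_self_eq_mul_self_iff.1 hμμ with h | h
    · exact h
    · exact absurd (by rw [hdet, show (muC g : F) = -a from h]) (det_neg_of_cls E h2 hcls)
  have hsa : ∀ u v, QuadraticMap.polar Q (mat g *ᵥ u) v = QuadraticMap.polar Q u (mat g *ᵥ v) :=
    fun u v => by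
      have h := polar_mat g u (mat g *ᵥ v)
      rw [gg, QuadraticMap.polar_smul_right, smul_eq_mul, show (muC g : F) = a from hμ] at h
      exact mul_left_cancel₀ l.ne_zero h
  let β : (ι → F) →ₗ[QuadraticAlgebra F a 0] (ι → F) →ₗ[QuadraticAlgebra F a 0]
      QuadraticAlgebra F a 0 :=
    LinearMap.mk₂ _ (fun u v => ⟨QuadraticMap.polar Q u (mat g *ᵥ v), QuadraticMap.polar Q u v⟩)
      (fun u u' v => by ext <;> simp [QuadraticMap.polar_add_left])
      (fun z u v => by
        ext <;> simp [hsm, hsa, gg, Matrix.mulVec_smul, QuadraticMap.polar_add_left,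
          QuadraticMap.polar_smul_left, QuadraticMap.polar_smul_right] <;> ring)
      (fun u v v' => by ext <;> simp [Matrix.mulVec_add, QuadraticMap.polar_add_right])
      (fun z u v => by
        ext <;> simp [hsm, gg, Matrix.mulVec_add, Matrix.mulVec_smul, QuadraticMap.polar_add_right,
          QuadraticMap.polar_smul_right] <;> ring)
  let M' : Model Q g (Twist g) (QuadraticAlgebra F a 0) (ι → F) := {
    φ := algebraMap F (QuadraticAlgebra F a 0)
    β := β
    symm := fun u v => by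
      ext
      · exact (QuadraticMap.polar_comm _ _ _).trans (hsa _ _)
      · exact QuadraticMap.polar_comm _ _ _
    nondeg := fun u hu => E.hQ.1 u fun w => congrArg QuadraticAlgebra.im (hu w)
    j := AddMonoidHom.id _
    inj := fun _ _ h => h
    j_smul := fun c w => IsScalarTower.algebraMap_smul _ c w
    lift := fun Ψ ⟨e, he⟩ => by
      have hl' : Ψ.σ a = (e : F) * e * a := by
        obtain ⟨u, hu⟩ : ∃ u, Ψ.fn u = w0 := Ψ.fn_surjective w0
        have h := congrArg Ψ.fn (gg u)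
        rw [he, he, Matrix.mulVec_smul, gg, Ψ.fn_smul, smul_smul, smul_smul, hu] at h
        have hw : w0 ≠ 0 := fun h0 => hw0 (by rw [h0, map_zero])
        exact (smul_left_injective F hw h).symm
      let τh : QuadraticAlgebra F a 0 →+* QuadraticAlgebra F a 0 :=
        { toFun := fun z => ⟨Ψ.σ z.re, (e : F) * Ψ.σ z.im⟩
          map_one' := by ext <;> simp [QuadraticAlgebra.re_one, QuadraticAlgebra.im_one]
          map_zero' := by ext <;> simp
          map_add' := fun z z' => by ext <;> simp [mul_add]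
          map_mul' := fun z z' => by
            ext <;> simp [hl'] <;> ring }
      have hb : Function.Bijective τh :=
        Finite.injective_iff_bijective.1 τh.injective
      refine ⟨RingEquiv.ofBijective τh hb, Ψ.fn, fun c => ?_, fun w => rfl, fun z w => ?_,
        fun w hw => ?_⟩
      · show τh (algebraMap F _ c) = algebraMap F _ (Ψ.σ c)
        ext <;> simp [τh]
      · show Ψ.fn (z • w) = τh z • Ψ.fn w
        rw [hsm, hsm, Ψ.fn_add, Ψ.fn_smul, Ψ.fn_smul, he, smul_smul, mul_comm (Ψ.σ z.im)]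
        rfl
      · have h1 : QuadraticMap.polar Q w w = 0 := congrArg QuadraticAlgebra.im hw
        have h2' : QuadraticMap.polar Q w (mat g *ᵥ w) = 0 := congrArg QuadraticAlgebra.re hw
        ext
        · show QuadraticMap.polar Q (Ψ.fn w) (mat g *ᵥ Ψ.fn w) = 0
          have h3 := polar_fn Ψ w (mat g *ᵥ w)
          rw [he, QuadraticMap.polar_smul_right, h2', map_zero, mul_zero, smul_eq_mul] at h3
          exact (mul_eq_zero.1 h3).resolve_left e.ne_zero
        · show QuadraticMap.polar Q (Ψ.fn w) (Ψ.fn w) = 0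
          rw [polar_fn, h1, map_zero, mul_zero]
    ext := fun Y hY => by
      have hQY : ∀ v, Q (Y v) = Q v := fun v => by
        have h : QuadraticMap.polar Q (Y v) (Y v) = QuadraticMap.polar Q v v :=
          congrArg QuadraticAlgebra.im (hY v v)
        rw [QuadraticMap.polar_self, QuadraticMap.polar_self, two_nsmul, two_nsmul] at h
        exact mul_left_cancel₀ h2 (by linear_combination h)
      obtain ⟨h, hh⟩ := iso_of_preserves E.hQ (Y.toLinearMap.restrictScalars F) hQY
      refine ⟨h, go_ext fun v => ?_, fun w => hh w⟩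
      rw [mat_mul, mat_mul, ← Matrix.mulVec_mulVec, ← Matrix.mulVec_mulVec, ofIso_mulVec,
        ofIso_mulVec, hh, hh]
      show Y (mat g *ᵥ v) = mat g *ᵥ Y v
      have e1 : ∀ u, (QuadraticAlgebra.omega : QuadraticAlgebra F a 0) • u = mat g *ᵥ u := fun u => by
        rw [hsm]; simp
      rw [← e1, ← e1, map_smul] }
  exact ⟨QuadraticAlgebra F a 0, inferInstance, inferInstance, inferInstance, M',
    Module.finBasisOfFinrankEq _ _ hn, QuadraticAlgebra.omega, ⟨hμ, hdet⟩, fun v => rfl,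
    fun t => ⟨t.re, t.im, hsm t⟩, fun v hv => ⟨congrArg QuadraticAlgebra.re hv,
      congrArg QuadraticAlgebra.im hv⟩⟩

theorem inert_case {g : GO Q} {l : Fˣ} (hl : ¬ IsSquare (l : F)) (hg : g * g = scal Q l)
    (hcls : E.cls g = -1) (Φ : Semi Q Q) (hΦ : Twist g Φ) (hS : Scal Q g (Twist g) Φ) :
    (semP Φ : MulAut (Cfsg.POmega F ⇑Q)) = 1 ∨
      (semP Φ : MulAut (Cfsg.POmega F ⇑Q)) = gAut Q g := by
  set a : F := (l : F)
  obtain ⟨K, _, _, _, M', b, ω, ⟨hμ, -⟩, hj, hsm, -⟩ := inert_model E h2 hl hg hcls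
  have gg : ∀ v, mat g *ᵥ (mat g *ᵥ v) = a • v := fun v => by
    rw [Matrix.mulVec_mulVec, ← mat_mul, hg, scal_mulVec]
  obtain ⟨w0, hw0⟩ : ∃ w : ι → F, Q w ≠ 0 := ⟨E.fr.x₀, E.fr.hx⟩
  have hsa : ∀ u v, QuadraticMap.polar Q (mat g *ᵥ u) v = QuadraticMap.polar Q u (mat g *ᵥ v) :=
    fun u v => by
      have h := polar_mat g u (mat g *ᵥ v)
      rw [gg, QuadraticMap.polar_smul_right, smul_eq_mul, show (muC g : F) = a from hμ] at h
      exact mul_left_cancel₀ l.ne_zero h
  have hn6 := E.hn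
  rw [E.hM] at hn6
  obtain ⟨hσ, t, ht⟩ := hS K _ M' M b (by omega)
  obtain ⟨tr, ti, hti⟩ := hsm t
  have hfn : ∀ v, Φ.fn v = tr • v + ti • (mat g *ᵥ v) := fun v => by
    have h := ht v
    rw [hj, hj] at h
    rw [h, hti]
  by_cases hq : ti = 0
  · left
    have ht0 : tr ≠ 0 := fun h => by
      obtain ⟨u, hu⟩ := Φ.fn_surjective w0
      exact hw0 (by rw [← hu, hfn, h, hq]; simp)
    rw [semP_eq_gAut hσ (scal Q (Units.mk0 _ ht0)) fun v => ?_, gAut_scal]
    rw [hfn, hq, zero_smul, add_zero, scal_mulVec, Units.val_mk0]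
  · by_cases hp : tr = 0
    · right
      rw [semP_eq_gAut hσ (scal Q (Units.mk0 _ hq) * g) fun v => ?_, map_mul, gAut_scal, one_mul]
      rw [hfn, hp, zero_smul, zero_add, mat_mul, ← Matrix.mulVec_mulVec, scal_mulVec, Units.val_mk0]
    · exfalso
      set κ : F := ((Φ.c : F) - (tr * tr + a * (ti * ti))) / (2 * (tr * ti))
      have hκ : ∀ u v, QuadraticMap.polar Q (mat g *ᵥ u) v = κ * QuadraticMap.polar Q u v :=
        fun u v => by
          have h := polar_fn Φ u v
          rw [hfn, hfn, hσ] at h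
          simp only [QuadraticMap.polar_add_left, QuadraticMap.polar_add_right,
            QuadraticMap.polar_smul_left, QuadraticMap.polar_smul_right, smul_eq_mul,
            RingAut.one_apply] at h
          rw [polar_mat, show (muC g : F) = a from hμ, ← hsa u v] at h
          simp only [κ]
          field_simp
          linear_combination h
      have hgk : ∀ u, mat g *ᵥ u = κ • u := fun u => sub_eq_zero.1 (E.hQ.1 _ fun v => by
        rw [QuadraticMap.polarBilin_apply_apply, QuadraticMap.polar_sub_left, hκ,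
          QuadraticMap.polar_smul_left, smul_eq_mul, sub_self])
      have h1 := gg w0
      rw [hgk, hgk, smul_smul] at h1
      exact hl ⟨κ, (smul_left_injective F (fun h0 => hw0 (by rw [h0, map_zero])) h1).symm⟩

end Cfsg.Agent.AutPOmega.Outer
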