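import Cfsg.Agent.Lib.AutPOmega.SemiComp
import Cfsg.Agent.Lib.AutPSL.GraphBalance

/-!
# A symmetric form attached to an outer involution

If an involution of `PΩ(Q)` leaves a symmetric bilinear space of dimension at least three, then odd
subgroups of its centraliser normalised by the isometries of that space act on it by scalars, and so
does a semisimilarity commuting with their squares.
-/

set_option autoImplicit false
set_option linter.unusedSectionVars false
set_option linter.unusedVariables false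

namespace Cfsg.Agent.AutPOmega.Outer

open Matrix Module Cfsg.Agent.Forms Cfsg.Agent.Forms.QuadStd Cfsg.Agent.Forms.Reflections
open Cfsg.Agent.Classical Cfsg.Agent.Classical.Orth Cfsg.Agent.AutPSL
open scoped LinearAlgebra.Projectivization

universe u v

variable {F : Type u} [Field F] {ι : Type} [Fintype ι] [DecidableEq ι]

/-- A symmetric bilinear space over `E` inside the space of `Q`. -/
structure Model (Q : QuadraticForm F (ι → F)) (g : GO Q) (P : Semi Q Q → Prop)
    (E : Type v) [Field E] (W : Type v) [AddCommGroup W] [Module E W] where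
  φ : F →+* E
  β : W →ₗ[E] W →ₗ[E] E
  symm : ∀ u w, β u w = β w u
  nondeg : ∀ u, (∀ w, β u w = 0) → u = 0
  j : W →+ (ι → F)
  inj : Function.Injective j
  j_smul : ∀ (a : F) (w : W), j (φ a • w) = a • j w
  lift : ∀ Φ, P Φ → ∃ (τ : E ≃+* E) (T : W → W), (∀ a, τ (φ a) = φ (Φ.σ a)) ∧
    (∀ w, j (T w) = Φ.fn (j w)) ∧ (∀ (e : E) w, T (e • w) = τ e • T w) ∧
    (∀ w, β w w = 0 → β (T w) (T w) = 0)
  ext : ∀ Y : W ≃ₗ[E] W, (∀ u w, β (Y u) (Y w) = β u w) →
    ∃ h : Cfsg.isometryGroup F ⇑Q, ofIso Q h * g = g * ofIso Q h ∧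
      ∀ w, act h (j w) = j (Y w)

variable {Q : QuadraticForm F (ι → F)} {g : GO Q} {P : Semi Q Q → Prop}
  {E : Type v} [Field E] {W : Type v} [AddCommGroup W] [Module E W] {n : ℕ}

namespace Model

variable (M : Model Q g P E W) (b : Basis (Fin n) E W) (h2 : (2 : F) ≠ 0)

/-- The coordinates. -/
noncomputable def J (v : Fin n → E) : ι → F := M.j (b.equivFun.symm v)

theorem J_injective : Function.Injective (M.J b) := M.inj.comp b.equivFun.symm.injective

theorem J_add (v w : Fin n → E) : M.J b (v + w) = M.J b v + M.J b w := by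
  rw [J, map_add, map_add]; rfl

theorem J_zero : M.J b 0 = 0 := by rw [J, map_zero, map_zero]

/-- The Gram matrix. -/
noncomputable def gram : Matrix (Fin n) (Fin n) E := LinearMap.toMatrix₂ b b M.β

theorem gram_apply (u w : Fin n → E) :
    u ⬝ᵥ (M.gram b *ᵥ w) = M.β (b.equivFun.symm u) (b.equivFun.symm w) :=
  dotProduct_toMatrix₂_mulVec b b M.β u w

theorem gram_det : (M.gram b).det ≠ 0 := by
  intro h0
  obtain ⟨w, hw, hw0⟩ := Matrix.exists_mulVec_eq_zero_iff.2 h0
  refine hw (b.equivFun.symm.injective ?_)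
  rw [map_zero]
  refine M.nondeg _ fun u => ?_
  rw [M.symm, ← LinearEquiv.symm_apply_apply b.equivFun u, ← M.gram_apply b, hw0, dotProduct_zero]

/-- The form in coordinates. -/
noncomputable def data : ReflForm.Data E n where
  σ := 1
  P := GeneralLinearGroup.mkOfDetNeZero _ (M.gram_det b)
  c := 1
  hσ _ := rfl
  herm u v := by
    rw [one_mul]
    show v ⬝ᵥ (M.gram b *ᵥ u) = u ⬝ᵥ (M.gram b *ᵥ v)
    rw [M.gram_apply b, M.gram_apply b, M.symm]
  two := by rw [← map_ofNat M.φ 2]; exact (map_ne_zero M.φ).2 h2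

theorem data_form (u w : Fin n → E) :
    ReflForm.Φ (M.data b h2) u w = M.β (b.equivFun.symm u) (b.equivFun.symm w) := M.gram_apply b u w

/-- The lift in coordinates. -/
theorem coord (Φ : Semi Q Q) (hP : P Φ) : ∃ (g₀ : GL (Fin n) E) (τ : E ≃+* E),
    (∀ a, τ (M.φ a) = M.φ (Φ.σ a)) ∧
    (∀ v : Fin n → E, Φ.fn (M.J b v) =
      M.J b ((g₀ : Matrix (Fin n) (Fin n) E) *ᵥ fun i => τ (v i))) ∧
    ∀ v, ReflForm.Φ (M.data b h2) v v = 0 →
      ReflForm.Φ (M.data b h2) ((g₀ : Matrix (Fin n) (Fin n) E) *ᵥ fun i => τ (v i))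
        ((g₀ : Matrix (Fin n) (Fin n) E) *ᵥ fun i => τ (v i)) = 0 := by
  obtain ⟨τ, T, hτ, hT, hTs, hiso⟩ := M.lift Φ hP
  have hTa : ∀ u w, T (u + w) = T u + T w := fun u w => M.inj (by
    rw [map_add, hT, hT, hT, map_add, Φ.fn_add])
  let Tl : W →+ W := AddMonoidHom.mk' T hTa
  set A : Matrix (Fin n) (Fin n) E := fun i k => b.equivFun (T (b k)) i
  have key : ∀ v : Fin n → E, b.equivFun.symm (A *ᵥ fun i => τ (v i)) = T (b.equivFun.symm v) :=
    fun v => by
      refine b.equivFun.injective ?_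
      rw [LinearEquiv.apply_symm_apply, Basis.equivFun_symm_apply,
        show T (∑ i, v i • b i) = ∑ i, τ (v i) • T (b i) from
          (map_sum Tl _ _).trans (Finset.sum_congr rfl fun i _ => hTs _ _), map_sum]
      funext i
      simp [A, Matrix.mulVec, dotProduct, mul_comm]
  have hTz : ∀ w, T w = 0 → w = 0 := fun w hw => by
    refine M.inj ?_
    rw [map_zero]
    by_contra hne
    exact Φ.fn_ne_zero hne (by rw [← hT, hw, map_zero])
  have hA : A.det ≠ 0 := fun h0 => by
    obtain ⟨w, hw, hw0⟩ := Matrix.exists_mulVec_eq_zero_iff.2 h0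
    have e := key fun i => τ.symm (w i)
    simp only [RingEquiv.apply_symm_apply] at e
    rw [hw0, map_zero] at e
    have e1 := b.equivFun.symm.injective ((hTz _ e.symm).trans (map_zero _).symm)
    exact hw (funext fun i => by simpa using congrArg τ (congrFun e1 i))
  refine ⟨GeneralLinearGroup.mkOfDetNeZero A hA, τ, hτ, fun v => ?_, fun v hv => ?_⟩
  · show Φ.fn (M.j _) = M.j (b.equivFun.symm (A *ᵥ fun i => τ (v i)))
    rw [key, hT]
  · show ReflForm.Φ (M.data b h2) (A *ᵥ fun i => τ (v i)) (A *ᵥ fun i => τ (v i)) = 0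
    rw [M.data_form b h2, key]
    rw [M.data_form b h2] at hv
    exact hiso _ hv

/-- An isometry in coordinates extends. -/
theorem extend (X : Matrix.SpecialLinearGroup (Fin n) E)
    (hX : ReflForm.IsIso (M.data b h2) (X : Matrix (Fin n) (Fin n) E)) :
    ∃ h : Cfsg.isometryGroup F ⇑Q, ofIso Q h * g = g * ofIso Q h ∧
      ∀ v, act h (M.J b v) = M.J b ((X : Matrix (Fin n) (Fin n) E) *ᵥ v) := by
  let Y : W ≃ₗ[E] W :=
    (b.equivFun.trans (Matrix.SpecialLinearGroup.toLin' X)).trans b.equivFun.symm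
  have hY : ∀ w, Y w = b.equivFun.symm ((X : Matrix (Fin n) (Fin n) E) *ᵥ b.equivFun w) :=
    fun w => congrArg b.equivFun.symm (Matrix.SpecialLinearGroup.toLin'_apply X _)
  obtain ⟨h, hc, hh⟩ := M.ext Y fun u w => by
    rw [hY, hY, ← M.data_form b h2, hX, M.data_form b h2, LinearEquiv.symm_apply_apply,
      LinearEquiv.symm_apply_apply]
  refine ⟨h, hc, fun v => ?_⟩
  show act h (M.j _) = M.j _
  rw [hh, hY, LinearEquiv.apply_symm_apply]

/-- Rigidity in coordinates. -/
theorem of_fix [Fintype E] (hn : 3 ≤ n) (Φ : Semi Q Q) (g₀ : GL (Fin n) E) (τ : E ≃+* E)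
    (hτ : ∀ a, τ (M.φ a) = M.φ (Φ.σ a))
    (hfn : ∀ v : Fin n → E, Φ.fn (M.J b v) =
      M.J b ((g₀ : Matrix (Fin n) (Fin n) E) *ᵥ fun i => τ (v i)))
    (hfix : ∀ v : Fin n → E, v ≠ 0 → ReflForm.Φ (M.data b h2) v v = 0 →
      ∃ a : E, (g₀ : Matrix (Fin n) (Fin n) E) *ᵥ (fun i => τ (v i)) = a • v) :
    Φ.σ = 1 ∧ ∃ t : E, ∀ w, Φ.fn (M.j w) = M.j (t • w) := by
  obtain ⟨hτ1, t, ht⟩ := ReflForm.rigid (M.data b h2) hn g₀ τ hfix
  refine ⟨RingEquiv.ext fun a => M.φ.injective ?_, t, fun w => ?_⟩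
  · rw [← hτ, hτ1]; rfl
  · have h := hfn (b.equivFun w)
    rw [hτ1, show (fun i => (1 : E ≃+* E) (b.equivFun w i)) = b.equivFun w from rfl, ht, J, J,
      map_smul, LinearEquiv.symm_apply_apply] at h
    exact h

end Model

section fin

variable [Fintype F] [Fintype E] (hQ : (QuadraticMap.polarBilin Q).Nondegenerate) (f : Frame Q)
  (hι : 5 ≤ Fintype.card ι)
  (hsemi : ∀ β : MulAut (Cfsg.POmega F ⇑Q), ∃ Φ : Semi Q Q, β = semP Φ)
  (M : Model Q g P E W) (b : Basis (Fin n) E W) (h2 : (2 : F) ≠ 0) (hn : 3 ≤ n)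

include hQ f hι hsemi b h2 hn

set_option maxHeartbeats 1600000 in
/-- An odd group normalised by the isometries of the space acts on it by scalars. -/
theorem fixes (R : Subgroup (MulAut (Cfsg.POmega F ⇑Q))) (hR : Odd (Nat.card R))
    (hP : ∀ Φ : Semi Q Q, (semP Φ : MulAut (Cfsg.POmega F ⇑Q)) ∈ R → P Φ)
    (hnorm : ∀ h : Cfsg.isometryGroup F ⇑Q, ofIso Q h * g = g * ofIso Q h → ∀ r ∈ R,
      gAut Q (ofIso Q h) * r * (gAut Q (ofIso Q h))⁻¹ ∈ R)
    (Φ₀ : Semi Q Q) (hΦ₀ : (semP Φ₀ : MulAut (Cfsg.POmega F ⇑Q)) ∈ R) :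
    Φ₀.σ = 1 ∧ ∃ t : E, ∀ w, Φ₀.fn (M.j w) = M.j (t • w) := by
  classical
  set D := M.data b h2
  choose Ψ hΨ using fun r : R => hsemi (r : MulAut (Cfsg.POmega F ⇑Q))
  choose G T hT hfn hiso using fun r : R => M.coord b h2 (Ψ r) (hP _ (hΨ r ▸ r.2))
  have hJi := M.J_injective b
  have hne : ∀ (r : R) {v : Fin n → E}, v ≠ 0 →
      (G r : Matrix (Fin n) (Fin n) E) *ᵥ (fun i => T r (v i)) ≠ 0 := fun r {v} hv =>
    GraphBalance.semi_ne_zero (G r) (T r) hv
  let pt : R → ℙ E (Fin n → E) → ℙ E (Fin n → E) := fun r p =>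
    Projectivization.mk E _ (hne r p.rep_nonzero)
  have hmk : ∀ (r : R) (v : Fin n → E) (hv : v ≠ 0),
      pt r (Projectivization.mk E v hv) = Projectivization.mk E _ (hne r hv) := by
    intro r v hv
    obtain ⟨c, hc⟩ := Projectivization.exists_smul_eq_mk_rep E v hv
    refine (Projectivization.mk_eq_mk_iff' E _ _ _ _).2 ⟨T r (c : E), ?_⟩
    rw [← hc, ← mulVec_smul]
    exact congrArg _ (funext fun i => (map_mul (T r) _ _).symm)
  have hrep : ∀ (r : R) (Φ : Semi Q Q), (semP Φ : MulAut (Cfsg.POmega F ⇑Q)) = r →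
      ∀ (v : Fin n → E) (hv : v ≠ 0) (w : Fin n → E) (hw : w ≠ 0), Φ.fn (M.J b v) = M.J b w →
        pt r (Projectivization.mk E v hv) = Projectivization.mk E w hw := by
    intro r Φ hΦ v hv w hw h
    rw [hmk]
    obtain ⟨-, a, ha⟩ := semP_prop hQ f hι ((hΨ r).symm.trans hΦ.symm)
    refine (Projectivization.mk_eq_mk_iff' E _ _ _ _).2 ⟨M.φ a, hJi ?_⟩
    rw [← hfn, ha, h]
    show M.j (b.equivFun.symm (M.φ a • w)) = _
    rw [map_smul, M.j_smul]
    rfl
  let _ : MulAction R (ℙ E (Fin n → E)) :=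
    { smul := pt
      one_smul := fun p => by
        change pt 1 p = p
        induction p with
        | h v hv => exact hrep 1 (Semi.id Q) semP_id v hv v hv (Semi.id_fn _)
      mul_smul := fun r s p => by
        change pt (r * s) p = pt r (pt s p)
        induction p with
        | h v hv =>
          rw [hmk s, hmk r]
          refine hrep (r * s) ((Ψ r).comp (Ψ s)) ?_ v hv _ (hne r (hne s hv)) ?_
          · rw [semP_mul, ← hΨ r, ← hΨ s]; rfl
          · rw [Semi.comp_fn, hfn, hfn] }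
  let B : ReflForm.Block D :=
    { rel := fun p q => q ∈ MulAction.orbit R p
      refl := fun p => MulAction.mem_orbit_self p
      symm := fun h => MulAction.mem_orbit_symm.1 h
      trans := fun {p q r} h h' => by rwa [MulAction.orbit_eq_iff.2 h] at h'
      odd := fun p => by
        refine hR.of_dvd_nat ?_
        rw [show Nat.card {q // q ∈ MulAction.orbit R p} = Nat.card (MulAction.orbit R p) from rfl,
          Nat.card_congr (MulAction.orbitEquivQuotientStabilizer R p)]
        exact Subgroup.card_quotient_dvd_card _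
      inv := fun X hX v w hv hw hv' hw' ⟨r, hr⟩ => by
        change pt r (Projectivization.mk E v hv) = _ at hr
        rw [hmk] at hr
        obtain ⟨a, ha⟩ := (Projectivization.mk_eq_mk_iff' E _ _ _ _).1 hr
        obtain ⟨h, hc, hh⟩ := M.extend b h2 X hX
        refine ⟨⟨_, hnorm h hc _ r.2⟩, ?_⟩
        change pt _ _ = _
        have hne' : (X : Matrix (Fin n) (Fin n) E) *ᵥ
            ((G r : Matrix (Fin n) (Fin n) E) *ᵥ fun i => T r (v i)) ≠ 0 :=
          ReflForm.sl_mulVec_ne_zero X (hne r hv)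
        refine (hrep _ (((gSemi (ofIso Q h)).comp (Ψ r)).comp (gSemi (ofIso Q h)).inv) ?_ _ hv' _
          hne' ?_).trans ((Projectivization.mk_eq_mk_iff' E _ _ _ _).2 ⟨a, ?_⟩)
        · rw [semP_mul, semP_mul, semP_inv, semP_gSemi, ← hΨ r]
          show gAut Q (ofIso Q h) * _ * ((semP (gSemi (ofIso Q h)) : MulAut _))⁻¹ = _
          rw [semP_gSemi]
        · rw [← hh v, ← ofIso_mulVec, Semi.comp_fn, Semi.comp_fn, ← gSemi_fn, Semi.inv_fn, hfn,
            gSemi_fn, ofIso_mulVec, hh]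
        · rw [← ha, mulVec_smul]
      iso := fun v hv w hw ⟨r, hr⟩ hvv => by
        change pt r (Projectivization.mk E v hv) = _ at hr
        rw [hmk] at hr
        obtain ⟨a, ha⟩ := (Projectivization.mk_eq_mk_iff' E _ _ _ _).1 hr
        have h1 := hiso r v hvv
        have ha0 : a ≠ 0 := fun e => hne r hv (by rw [← ha, e, zero_smul])
        rw [← ha, ReflForm.smul_left, ReflForm.smul_right] at h1
        exact ((mul_eq_zero.1 ((mul_eq_zero.1 h1).resolve_left
          ((map_ne_zero D.σ).2 ha0))).resolve_left ha0) }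
  obtain ⟨g₀, τ, hτ, hg₀, -⟩ := M.coord b h2 Φ₀ (hP _ hΦ₀)
  refine M.of_fix b h2 hn Φ₀ g₀ τ hτ hg₀ fun v hv hvv => ?_
  refine ReflForm.rel_isotropic B hn hvv ⟨hv, GraphBalance.semi_ne_zero g₀ τ hv, ⟨⟨_, hΦ₀⟩, ?_⟩⟩
  exact hrep ⟨_, hΦ₀⟩ Φ₀ rfl v hv _ _ (hg₀ v)

set_option maxHeartbeats 1600000 in
/-- A semisimilarity commuting with the squares of the isometries acts by scalars. -/
theorem central (Φ : Semi Q Q) (hP : P Φ)
    (hcomm : ∀ h : Cfsg.isometryGroup F ⇑Q, ofIso Q h * g = g * ofIso Q h →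
      (semP Φ : MulAut (Cfsg.POmega F ⇑Q)) * gAut Q (ofIso Q (h * h)) =
        gAut Q (ofIso Q (h * h)) * semP Φ) :
    Φ.σ = 1 ∧ ∃ t : E, ∀ w, Φ.fn (M.j w) = M.j (t • w) := by
  classical
  set D := M.data b h2
  obtain ⟨g₀, τ, hτ, hg₀, -⟩ := M.coord b h2 Φ hP
  set T : (Fin n → E) → (Fin n → E) :=
    fun v => (g₀ : Matrix (Fin n) (Fin n) E) *ᵥ fun i => τ (v i) with hTdef
  have hTsub : ∀ u w, T (u - w) = T u - T w := fun u w => by
    simp only [hTdef, Pi.sub_apply, map_sub]
    exact mulVec_sub _ _ _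
  refine M.of_fix b h2 hn Φ g₀ τ hτ hg₀ fun w hw hww => ?_
  obtain ⟨p, hp⟩ := CharP.exists E
  have hpp : Fact p.Prime := ⟨CharP.char_is_prime E p⟩
  have hp2 : p ≠ 2 := fun e => by subst e; exact D.two CharTwo.two_eq_zero
  have hodd : Odd p := hpp.out.odd_of_ne_two hp2
  have hsym : ∀ u z, ReflForm.Φ D z u = ReflForm.Φ D u z := fun u z => D.herm u z |>.trans
    (by rw [show D.c = 1 from rfl, one_mul]; rfl)
  have hσ : D.σ = 1 := rfl
  -- an anisotropic vector orthogonal to `w`
  obtain ⟨z, hz⟩ := ReflForm.exists_pair D hw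
  obtain ⟨a, haw, haa⟩ : ∃ a, ReflForm.Φ D w a = 0 ∧ ReflForm.Φ D a a ≠ 0 := by
    by_contra hall
    push Not at hall
    let S : Submodule E (Fin n → E) :=
      { carrier := {u | ReflForm.Φ D w u = 0}
        zero_mem' := ReflForm.zero_right D w
        add_mem' := fun {a b} ha hb => by
          show ReflForm.Φ D w (a + b) = 0
          rw [ReflForm.add_right, ha, hb, add_zero]
        smul_mem' := fun c u hu => by
          show ReflForm.Φ D w (c • u) = 0
          rw [ReflForm.smul_right, hu, mul_zero] }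
    have hSperp : ∀ u ∈ S, ∀ v ∈ S, ReflForm.Φ D u v = 0 := fun u hu v hv => by
      have h1 := hall (u + v) (S.add_mem hu hv)
      rw [ReflForm.add_left, ReflForm.add_right, ReflForm.add_right, hall u hu, hall v hv,
        hsym u v, zero_add, add_zero] at h1
      exact (mul_eq_zero.1 (show (2 : E) * _ = 0 by linear_combination h1)).resolve_left D.two
    -- `S` is a hyperplane orthogonal to itself
    let f : (Fin n → E) →ₗ[E] E :=
      { toFun := fun u => ReflForm.Φ D w u
        map_add' := ReflForm.add_right D w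
        map_smul' := fun c u => ReflForm.smul_right D c w u }
    let r : S →ₗ[E] E :=
      { toFun := fun u => ReflForm.Φ D z u
        map_add' := fun u v => ReflForm.add_right D z _ _
        map_smul' := fun c u => ReflForm.smul_right D c z _ }
    have hker : Function.Injective r := by
      refine (injective_iff_map_eq_zero r).2 fun u hu => Subtype.ext
        (ReflForm.eq_zero_of_perp D fun v => ?_)
      have hv : v - (ReflForm.Φ D w v / ReflForm.Φ D w z) • z ∈ S := by
        show ReflForm.Φ D w _ = 0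
        rw [ReflForm.sub_right, ReflForm.smul_right, div_mul_cancel₀ _ hz, sub_self]
      have h1 := hSperp _ u.2 _ hv
      rwa [ReflForm.sub_right, ReflForm.smul_right, hsym z u.1, show ReflForm.Φ D z u = 0 from hu,
        mul_zero, sub_zero] at h1
    have hS : LinearMap.ker f = S := rfl
    have h1 := LinearMap.finrank_le_finrank_of_injective hker
    have h2' := LinearMap.finrank_range_add_finrank_ker f
    have h3 := Submodule.finrank_le (LinearMap.range f)
    rw [Module.finrank_self] at h1 h3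
    rw [hS, Module.finrank_fin_fun] at h2'
    omega
  have hwa : ReflForm.Φ D a w = 0 := (hsym w a).trans haw
  have hbb : ReflForm.Φ D (a + w) (a + w) = ReflForm.Φ D a a := by
    rw [ReflForm.add_left, ReflForm.add_right, ReflForm.add_right, haw, hwa, hww]; ring
  have hbb0 : ReflForm.Φ D (a + w) (a + w) ≠ 0 := hbb ▸ haa
  set α := ReflForm.Φ D a a
  set X := ReflForm.refPair D a (a + w) haa hbb0
  have hX : ∀ u, (X : Matrix (Fin n) (Fin n) E) *ᵥ u = u + (2 * ReflForm.Φ D w u / α) • a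
      - (2 * (ReflForm.Φ D a u + ReflForm.Φ D w u) / α) • w := fun u => by
    show (ReflForm.tr D a (ReflForm.refK D a) * ReflForm.tr D (a + w) (ReflForm.refK D (a + w))) *ᵥ u
      = _
    rw [← mulVec_mulVec, ReflForm.tr_mulVec, ReflForm.tr_mulVec]
    simp only [ReflForm.refK, hbb, ReflForm.add_left, ReflForm.add_right, ReflForm.smul_right, hwa,
      add_zero, show ReflForm.Φ D a a = α from rfl]
    match_scalars <;> field_simp <;> ring
  have hiX : ReflForm.IsIso D (X : Matrix (Fin n) (Fin n) E) :=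
    ReflForm.iso_mul D (ReflForm.iso_ref D haa) (ReflForm.iso_ref D hbb0)
  set N : Matrix (Fin n) (Fin n) E := (X : Matrix (Fin n) (Fin n) E) - 1
  have hN : ∀ u, N *ᵥ u = (2 * ReflForm.Φ D w u / α) • a
      - (2 * (ReflForm.Φ D a u + ReflForm.Φ D w u) / α) • w := fun u => by
    rw [Matrix.sub_mulVec, one_mulVec, hX]; abel
  have hN2 : ∀ u, N *ᵥ (N *ᵥ u) = (-4 * ReflForm.Φ D w u / α) • w := fun u => by
    rw [hN (N *ᵥ u), hN u, ReflForm.sub_right, ReflForm.sub_right, ReflForm.smul_right,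
      ReflForm.smul_right, ReflForm.smul_right, ReflForm.smul_right, haw, hww, hwa,
      show ReflForm.Φ D a a = α from rfl]
    match_scalars <;> field_simp <;> ring
  have hN3 : N ^ 3 = 0 := Matrix.ext_iff_mulVec.2 fun u => by
    rw [pow_succ', pow_two, ← mulVec_mulVec, ← mulVec_mulVec, hN2, zero_mulVec, hN u,
      ReflForm.sub_right, ReflForm.smul_right, ReflForm.smul_right, haw, hww]
    simp
  have hXp : (X : Matrix (Fin n) (Fin n) E) ^ p = 1 := by
    have : CharP (Matrix (Fin n) (Fin n) E) p :=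
      charP_of_injective_ringHom (f := Matrix.scalar (Fin n)) (fun x y h => by
        simpa using congrFun (congrFun h ⟨0, by omega⟩) ⟨0, by omega⟩) p
    have h3 : 3 ≤ p := by have := hpp.out.two_le; omega
    have h1 : N ^ p = 0 := by rw [← Nat.sub_add_cancel h3, pow_add, hN3, mul_zero]
    rw [show (X : Matrix (Fin n) (Fin n) E) = N + 1 from (sub_add_cancel _ _).symm,
      add_pow_char_of_commute p (Commute.one_right N), h1, one_pow, zero_add]
  have hiY : ∀ i : ℕ, ReflForm.IsIso D ((X ^ i : Matrix.SpecialLinearGroup (Fin n) E) :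
      Matrix (Fin n) (Fin n) E) := fun i => by
    induction i with
    | zero => intro u v; rw [pow_zero, Matrix.SpecialLinearGroup.coe_one, one_mulVec, one_mulVec]
    | succ i ih => rw [pow_succ, Matrix.SpecialLinearGroup.coe_mul]; exact ReflForm.iso_mul D ih hiX
  obtain ⟨h, hc, hh⟩ := M.extend b h2 (X ^ ((p + 1) / 2)) (hiY _)
  have hhh : ∀ v, act (h * h) (M.J b v) = M.J b ((X : Matrix (Fin n) (Fin n) E) *ᵥ v) := fun v => by
    rw [act_mul, hh, hh, mulVec_mulVec, Matrix.SpecialLinearGroup.coe_pow, ← pow_add]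
    obtain ⟨l, rfl⟩ := hodd
    rw [show (2 * l + 1 + 1) / 2 + (2 * l + 1 + 1) / 2 = (2 * l + 1) + 1 by omega, pow_succ', hXp,
      mul_one]
  obtain ⟨e, he⟩ := fn_comm hQ f hι (hcomm h hc)
  have hTX : ∀ v, T ((X : Matrix (Fin n) (Fin n) E) *ᵥ v) =
      M.φ e • ((X : Matrix (Fin n) (Fin n) E) *ᵥ T v) := fun v => M.J_injective b (by
    rw [hTdef, ← hg₀, ← hhh, ← ofIso_mulVec, he, hg₀, ofIso_mulVec, hhh]
    show _ = M.j (b.equivFun.symm (M.φ e • _))
    rw [map_smul, M.j_smul]
    rfl)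
  have he1 : M.φ (e : F) = 1 := by
    have hit : ∀ (i : ℕ) v, T ((X : Matrix (Fin n) (Fin n) E) ^ i *ᵥ v) =
        M.φ e ^ i • ((X : Matrix (Fin n) (Fin n) E) ^ i *ᵥ T v) := fun i => by
      induction i with
      | zero => intro v; simp
      | succ i ih =>
        intro v
        rw [pow_succ', ← mulVec_mulVec, hTX, ih, mulVec_smul, smul_smul, pow_succ', mulVec_mulVec]
    have h1 := hit p w
    rw [hXp, one_mulVec, one_mulVec] at h1
    have h2 : M.φ (e : F) ^ p = 1 :=
      (smul_left_injective E (GraphBalance.semi_ne_zero g₀ τ hw) (show (1 : E) • T w = _ • T w by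
        rw [one_smul]; exact h1)).symm
    exact sub_eq_zero.1 (eq_zero_of_pow_eq_zero (n := p) (by
      rw [sub_pow_char, h2, one_pow, sub_self]))
  have hTN : ∀ v, T (N *ᵥ v) = N *ᵥ T v := fun v => by
    rw [Matrix.sub_mulVec, Matrix.sub_mulVec, one_mulVec, one_mulVec, hTsub, hTX, he1, one_smul]
  have hfin := hTN (N *ᵥ z)
  rw [hN2, hTN z, hN2] at hfin
  set c : E := -4 * ReflForm.Φ D w z / α
  have hc0 : c ≠ 0 := by
    refine div_ne_zero (mul_ne_zero (neg_ne_zero.2 ?_) hz) haa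
    rw [show (4 : E) = 2 * 2 by norm_num]
    exact mul_ne_zero D.two D.two
  rw [hTdef] at hfin
  simp only [Pi.smul_apply, smul_eq_mul, map_mul] at hfin
  rw [show (fun i => τ c * τ (w i)) = τ c • fun i => τ (w i) from rfl, mulVec_smul] at hfin
  refine ⟨(τ c)⁻¹ * (-4 * ReflForm.Φ D w (T z) / α), ?_⟩
  rw [← smul_smul, ← hfin, inv_smul_smul₀ ((map_ne_zero τ).2 hc0)]

end fin

end Cfsg.Agent.AutPOmega.Outer
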