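import Cfsg.Agent.Lib.AutPOmega.D4Natural
import Cfsg.Agent.Lib.AutPOmega.FieldCentStd

/-!
# Field automorphisms of prime order of `PΩ⁺₂ₘ`
-/

set_option autoImplicit false
set_option linter.unusedSectionVars false
set_option linter.unusedVariables false

namespace Cfsg.Agent.AutPOmega.PlusField

open Matrix Cfsg.Agent.Forms Cfsg.Agent.Forms.QuadStd Cfsg.Agent.Forms.Reflections
open Cfsg.Agent.Forms.PlusStd
open Cfsg.Agent.Classical Cfsg.Agent.Classical.Orth Cfsg.Agent.Classical.OmegaCrit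
open Cfsg.Agent.Classical.OrthForms Cfsg.Agent.AutPOmega.BaseChange

universe u v

variable {F : Type u} [Field F] [Fintype F] {m : ℕ}

/-- The inner-diagonal group is normal in the automorphism group, also for `m = 4`. -/
theorem inndiag_normal (hm : 4 ≤ m) (E : EvenSetup (plusQ F m) m) :
    (E.cls.ker.map (gAut (plusQ F m))).Normal := by
  rcases eq_or_lt_of_le hm with rfl | h5
  · exact D4Natural.inndiag_normal E
  · refine ⟨fun δ hδ α => ?_⟩
    obtain ⟨Φ, rfl⟩ := exists_semi (Standard.plusBig (show 5 ≤ m by omega)) α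
    exact map_cls_conj E Φ hδ

variable {K : Type v} [Field K] [Fintype K]

set_option maxHeartbeats 1600000 in
theorem plus_field (hm : 4 ≤ m) {Q' : (Fin m ⊕ Fin m → F) → F} (hQ' : Q' = ⇑(plusQ F m))
    {Q₀' : (Fin m ⊕ Fin m → K) → K} (hQ₀' : Q₀' = ⇑(plusQ K m))
    (x : MulAut (Cfsg.POmega F Q')) (hx : Cfsg.IsFieldAutClassPOmega Q' x)
    {p f : ℕ} [Fact p.Prime] (hF : Fintype.card F = p ^ f) {r : ℕ} (hr : r.Prime)
    (hxr : orderOf x = r) (hK : Fintype.card K = p ^ (f / r)) :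
    r ∣ f ∧
    Nonempty (↥(Plus.inndiagOf Q' (Cfsg.PreservesSingularClasses Q') ⊓ Subgroup.centralizer {x}) ≃*
      ↥(Plus.inndiagOf Q₀' (Cfsg.PreservesSingularClasses Q₀'))) ∧
    ((Odd r ∨ p = 2) → Cfsg.splitClassCount (Plus.inndiagOf Q' (Cfsg.PreservesSingularClasses Q'))
      (Cfsg.Inn (Cfsg.POmega F Q')) x = 1) ∧
    ((r = 2 ∧ p ≠ 2 ∧ Odd m ∧ p ^ (f / 2) % 4 = 1) →
      Cfsg.splitClassCount (Plus.inndiagOf Q' (Cfsg.PreservesSingularClasses Q'))
        (Cfsg.Inn (Cfsg.POmega F Q')) x = 2) ∧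
    ((r = 2 ∧ p ≠ 2 ∧ ¬ (Odd m ∧ p ^ (f / 2) % 4 = 1)) →
      Cfsg.splitClassCount (Plus.inndiagOf Q' (Cfsg.PreservesSingularClasses Q'))
        (Cfsg.Inn (Cfsg.POmega F Q')) x = 4) := by
  subst hQ' hQ₀'
  obtain ⟨E⟩ := plusEven (F := F) (m := m) hm
  obtain ⟨E₀⟩ := plusEven (F := K) (m := m) hm
  rw [inndiag_plus hm E, inndiag_plus hm E₀]
  obtain ⟨α, φ, τ, -, hφ, hα⟩ := hx
  have hσ := FieldStd.rat_plus τ m
  set e := MulAut.conj α with he
  have hex : e x = fAut τ hσ := hα.trans ((fAut_iff hσ φ).1 hφ)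
  have hσr : orderOf τ = r := by
    rw [← orderOf_fAut E.hQ E.fr E.hn5 hσ, ← hex, e.orderOf_eq, hxr]
  have hnorm := inndiag_normal hm E
  set N := E.cls.ker.map (gAut (plusQ F m))
  have hN : ∀ g, e g ∈ N ↔ g ∈ N := fun g => by
    refine ⟨fun h => ?_, fun h => hnorm.conj_mem g h α⟩
    have h' := hnorm.conj_mem _ h α⁻¹
    rwa [he, MulAut.conj_apply, ← mul_assoc, ← mul_assoc, inv_mul_cancel, one_mul, inv_inv,
      inv_mul_cancel_right] at h'
  obtain ⟨ι, hfix, hsur⟩ := AutPSL.FieldCent.exists_emb (F₀ := K) hF τ hσr hK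
  set D : Desc ι (plusQ K m) (plusQ F m) τ 1 := FieldCentStd.stdDesc (σ := τ) (plusQ K m) (ext_plusQ ι m) with hD
  have ok : DescOK D hσ := ⟨hfix, hsur⟩
  have h1 : gAut (plusQ F m) 1 * fAut τ hσ = e x := by rw [map_one, one_mul, hex]
  have hrf : r ∣ f := hσr ▸ AutPSL.FieldCent.dvd_degree hF τ
  have hcount : Cfsg.splitClassCount N (Cfsg.Inn (Cfsg.POmega F ⇑(plusQ F m))) x =
      Cfsg.splitClassCount N (Cfsg.Inn (Cfsg.POmega F ⇑(plusQ F m)))
        (gAut (plusQ F m) 1 * fAut τ hσ) := by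
    rw [FieldCentStd.count_transport e _ _ N (Cfsg.Inn (Cfsg.POmega F ⇑(plusQ F m))) E.inn_le hN
      (FieldCentStd.conj_inn _), h1]
  have hp2F : (2 : F) = 0 ↔ p = 2 := by
    have : CharP F p := charP_of_card_eq_prime_pow hF
    rw [show (2 : F) = ((2 : ℕ) : F) by norm_num, CharP.cast_eq_zero_iff F p]
    exact ⟨fun h => (Nat.prime_dvd_prime_iff_eq Fact.out Nat.prime_two).1 h, fun h => h ▸ dvd_rfl⟩
  have hsq : (r = 2 ∧ p ≠ 2) → ∀ ε : ℤˣ, (ε = if Odd m ∧ p ^ (f / 2) % 4 = 1 then -1 else 1) →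
      (ε = 1 → Cfsg.splitClassCount N (Cfsg.Inn (Cfsg.POmega F ⇑(plusQ F m))) x = 4) ∧
      (ε ≠ 1 → Cfsg.splitClassCount N (Cfsg.Inn (Cfsg.POmega F ⇑(plusQ F m))) x = 2) := by
    rintro ⟨rfl, hp⟩ ε hε
    have h2F : (2 : F) ≠ 0 := fun h => hp (hp2F.1 h)
    have h2K : (2 : K) ≠ 0 := FieldCentStd.two_ne_sub h2F ι
    have hcard : Fintype.card F = Fintype.card K ^ 2 := by
      rw [hF, hK, ← pow_mul, Nat.div_mul_cancel hrf]
    obtain ⟨c, hc0, hc⟩ := exists_nonsquare (F := K) h2K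
    obtain ⟨s, hs⟩ := chi_eq_one_iff.1 (FieldCentStd.chi_sq (F := F) (φ := ι) h2K hcard hc0)
    have hs0 : s ≠ 0 := fun h0 => (map_ne_zero ι).2 hc0 (by rw [hs, h0, mul_zero])
    obtain ⟨t, ht, htθ⟩ := Plus.dil_sq (F := F) (m := m) hm (Units.mk0 s hs0)
    set d := Plus.dil (F := K) m (Units.mk0 c hc0)
    have hmu : muC d = Units.mk0 c hc0 := Plus.muC_dil (by omega) _
    have hd1 : E₀.cls d = 1 :=
      (E₀.cls_eq_one_iff d).2 (Or.inl ⟨h2K, by rw [hmu]; exact Plus.det_dil _⟩)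
    have hdh : D.map d = scal (plusQ F m) (muC (Plus.dil m (Units.mk0 s hs0))) * ofIso (plusQ F m) t := by
      rw [← ht]
      refine go_ext fun v => funext fun z => ?_
      have hmv : mat (D.map d) *ᵥ v = (mat d).map ι *ᵥ v := by
        have := D.mat_map d v
        simpa [hD, FieldCentStd.stdDesc] using this
      rw [hmv, show mat d = Matrix.diagonal (Plus.dvec m (c : K)) from rfl,
        Matrix.diagonal_map (map_zero ι), mulVec_diagonal, mat_mul, ← Matrix.mulVec_mulVec,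
        Plus.dil_mulVec, Plus.dil_mulVec]
      rcases z with z | z
      · simp [Plus.dvec, hs, mul_assoc]
      · simp [Plus.dvec]
    have hneg : NegMem (plusQ F m) := by
      refine (Plus.negMem_iff (odd_card_of_two_ne h2F) hm).2 fun h => ?_
      obtain ⟨j, hj⟩ := odd_card_of_two_ne h2K
      rw [hcard, hj] at h
      have h4 := h.2
      ring_nf at h4
      omega
    have hth : theta E.hQ E.hq t = (1, ε) := by
      rw [hε]
      refine htθ.trans (Prod.ext rfl ?_)
      show chi (((Units.mk0 s hs0 : Fˣ) : F) ^ m) = _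
      rw [Units.val_mk0]
      have hchis : chi s = if p ^ (f / 2) % 4 = 1 then -1 else 1 := by
        have hrF : ringChar F ≠ 2 := fun hc' => h2F (by
          have : CharP F 2 := hc' ▸ ringChar.charP F
          exact CharTwo.two_eq_zero)
        have hrK : ringChar K ≠ 2 := fun hc' => h2K (by
          have : CharP K 2 := hc' ▸ ringChar.charP K
          exact CharTwo.two_eq_zero)
        obtain ⟨j, hj⟩ := odd_card_of_two_ne h2K
        rw [← hK, hj]
        have hcj : c ^ j = -1 := by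
          have he : j = Fintype.card K / 2 := by omega
          rw [he]
          refine (FiniteField.pow_dichotomy hrK hc0).resolve_left fun h0 => ?_
          exact chi_eq_neg_one_iff.1 hc ((FiniteField.isSquare_iff hrK hc0).2 h0)
        have hFhalf : Fintype.card F / 2 = 2 * (j * (j + 1)) := by
          rw [hcard, hj, show (2 * j + 1) ^ 2 = 1 + (2 * (j * (j + 1))) * 2 by ring,
            Nat.add_mul_div_right _ _ two_pos]
          simp
        have hspow : s ^ (Fintype.card F / 2) = (-1) ^ (j + 1) := by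
          rw [hFhalf, pow_mul, sq, ← hs, ← map_pow, pow_mul, hcj, map_pow, map_neg, map_one]
        have hiff : IsSquare s ↔ Even (j + 1) := by
          rw [FiniteField.isSquare_iff hrF hs0, hspow]
          refine neg_one_pow_eq_one_iff_even fun h0 => h2F ?_
          linear_combination -h0
        split_ifs with h4
        · refine chi_eq_neg_one_iff.2 fun h0 => ?_
          have := hiff.1 h0
          rw [Nat.even_iff] at this
          omega
        · refine chi_eq_one_iff.2 (hiff.2 ?_)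
          rw [Nat.even_iff]
          omega
      rcases Nat.even_or_odd m with ⟨l, hl⟩ | ho
      · rw [if_neg (fun h => Nat.not_odd_iff_even.2 ⟨l, hl⟩ h.1), chi_eq_one_iff]
        exact ⟨s ^ l, by rw [hl, pow_add]⟩
      · obtain ⟨l, hl⟩ := ho
        rw [hl, pow_succ, chi_mul (pow_ne_zero _ hs0) hs0,
          chi_eq_one_iff.2 (⟨s ^ l, by ring⟩ : IsSquare (s ^ (2 * l))), one_mul, hchis]
        simp only [show Odd (2 * l + 1) from ⟨l, rfl⟩, true_and]
    obtain ⟨h4, h2'⟩ := D.count_sq hσ ok E E₀ h2K hneg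
      (fun c hc => FieldCentStd.chi_sq (φ := ι) h2K hcard hc) hd1 (by rw [hmu]; exact hc) hdh hth
    rw [hcount]
    exact ⟨h4, h2'⟩
  refine ⟨hrf, ?_, ?_, ?_, ?_⟩
  · obtain ⟨e1⟩ := FieldCentStd.centralizer_transport e _ _ hN x
    obtain ⟨e2⟩ := D.centralizer_equiv hσ ok E E₀
    rw [← h1] at e1
    exact ⟨e1.trans e2⟩
  · rintro (hodd | hp)
    · rw [hcount]
      exact D.count_one hσ ok E E₀ fun c hc =>
        FieldCentStd.chi_odd hfix hsur hodd (hσr ▸ pow_orderOf_eq_one τ) hc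
    · rw [hcount]
      exact D.count_two hσ ok E E₀ (hp2F.2 hp)
  · rintro ⟨hr2, hp, hc⟩
    exact (hsq ⟨hr2, hp⟩ _ rfl).2 (by rw [if_pos hc]; decide)
  · rintro ⟨hr2, hp, hc⟩
    exact (hsq ⟨hr2, hp⟩ _ rfl).1 (if_neg hc)

end Cfsg.Agent.AutPOmega.PlusField
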