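import Cfsg.Agent.Lib.AutPOmega.Unipotent
import Cfsg.Agent.Lib.AutPOmega.Basic

/-!
# Automorphisms of `PΩ(Q)` permute the stabilisers of singular points
-/

set_option autoImplicit false
set_option linter.unusedSectionVars false

namespace Cfsg.Agent.AutPOmega.PointStab

open Matrix Module Cfsg.Agent.Forms Cfsg.Agent.Forms.QuadStd Cfsg.Agent.Forms.Reflections
open Cfsg.Agent.Classical Cfsg.Agent.Classical.Orth Cfsg.Agent.AutPOmega.Unipotent

/-! ### Lifting `p`-subgroups through a central extension -/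

theorem lift_pgroup {G H : Type*} [Group G] [Group H] [Finite G] (q : G →* H)
    (hq : Function.Surjective q) (hc : q.ker ≤ Subgroup.center G) (p : ℕ) [Fact p.Prime]
    (hcop : ¬ p ∣ Nat.card q.ker) (e : MulAut H) (A N : Subgroup G) (hp : IsPGroup p N)
    (hNA : N ≤ A) (hnorm : ∀ a ∈ A, ∀ n ∈ N, a * n * a⁻¹ ∈ N) :
    ∃ N' : Subgroup G, IsPGroup p N' ∧ N' ≤ ((A.map q).map e.toMonoidHom).comap q ∧
      (∀ b ∈ ((A.map q).map e.toMonoidHom).comap q, ∀ n ∈ N', b * n * b⁻¹ ∈ N') ∧
      Nat.card N ≤ Nat.card N' ∧ ∀ n ∈ N, ∃ n' ∈ N', q n' = e (q n) := by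
  classical
  have : Finite H := Finite.of_surjective q hq
  set T := (N.map q).map e.toMonoidHom
  set M := T.comap q
  let φ : M →* T := q.subgroupComap T
  have hφ : Function.Surjective φ := by
    rintro ⟨y, hy⟩
    obtain ⟨x, rfl⟩ := hq y
    exact ⟨⟨x, hy⟩, rfl⟩
  have hT : IsPGroup p T := (hp.map q).map _
  have hφk : φ.ker ≤ Subgroup.center M := fun x hx => Subgroup.mem_center_iff.2 fun y => Subtype.ext
    (Subgroup.mem_center_iff.1 (hc (show x.1 ∈ q.ker from congrArg Subtype.val hx)) y.1)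
  have : Group.IsNilpotent T := hT.isNilpotent
  have : Group.IsNilpotent M := Subgroup.isNilpotent_of_ker_le_center φ hφk
  obtain ⟨P⟩ : Nonempty (Sylow p M) := inferInstance
  have hPn : (P : Subgroup M).Normal := by
    have h := ((Group.isNilpotent_of_finite_tfae (G := M)).out 0 3).1 ‹Group.IsNilpotent M›
    exact h p inferInstance P
  have hchar : (P : Subgroup M).Characteristic := P.characteristic_of_normal hPn
  have hsurj : ∀ y ∈ T, ∃ x ∈ (P : Subgroup M), q x.1 = y := by
    intro y hy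
    let Q : Sylow p T := P.mapSurjective hφ
    have hQ : (Q : Subgroup T) = ⊤ :=
      (Q.is_maximal' (hT.comap_subtype (K := T) |> fun _ => ?_) le_top).symm
    · have h1 : (⟨y, hy⟩ : T) ∈ (Q : Subgroup T) := hQ ▸ Subgroup.mem_top _
      obtain ⟨x, hx, hxy⟩ := h1
      exact ⟨x, hx, congrArg Subtype.val hxy⟩
    · intro z
      obtain ⟨k, hk⟩ := hT z.1
      exact ⟨k, Subtype.ext hk⟩
  refine ⟨(P : Subgroup M).map M.subtype, P.isPGroup'.map _, ?_, ?_, ?_, ?_⟩
  · refine le_trans (Subgroup.map_subtype_le _) ?_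
    exact Subgroup.comap_mono (Subgroup.map_mono (Subgroup.map_mono hNA))
  · rintro b ⟨_, ⟨a, ha, rfl⟩, hb⟩ _ ⟨n, hn, rfl⟩
    have hM : ∀ x ∈ M, b * x * b⁻¹ ∈ M := by
      rintro x ⟨_, ⟨m, hm, rfl⟩, hx⟩
      refine ⟨_, ⟨_, hnorm a ha m hm, rfl⟩, ?_⟩
      simp only [map_mul, map_inv]
      rw [hb, hx]
    let ν₀ : M →* M := MonoidHom.mk' (fun x => ⟨b * x.1 * b⁻¹, hM _ x.2⟩) fun x y => Subtype.ext (by
      simp [mul_assoc])
    have hν : Function.Bijective ν₀ := Finite.injective_iff_bijective.1 fun x y hxy => Subtype.ext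
      (mul_left_cancel (mul_right_cancel (congrArg Subtype.val hxy :)))
    let ν : MulAut M := MulEquiv.ofBijective ν₀ hν
    have h1 : ν n ∈ (P : Subgroup M) :=
      Subgroup.characteristic_iff_map_le.1 hchar ν (Subgroup.mem_map_of_mem _ hn)
    exact ⟨ν n, h1, rfl⟩
  · have hcard : Nat.card N = Nat.card T := by
      have hinj : Function.Injective (q.comp N.subtype) := by
        refine (injective_iff_map_eq_one _).2 fun n hn => ?_
        by_contra hne
        have h1 : orderOf n ∣ Nat.card q.ker := by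
          rw [← Subgroup.orderOf_coe]
          exact Subgroup.orderOf_dvd_natCard q.ker (show n.1 ∈ q.ker from hn)
        obtain ⟨k, hk⟩ := IsPGroup.iff_card.1 hp
        obtain ⟨j, -, hj⟩ := (Nat.dvd_prime_pow Fact.out).1 (hk ▸ orderOf_dvd_natCard n)
        cases j with
        | zero => exact hne (orderOf_eq_one_iff.1 (by rw [hj, pow_zero]))
        | succ j => exact hcop ((dvd_pow_self p (Nat.succ_ne_zero j)).trans (hj ▸ h1))
      show Nat.card N = Nat.card ((N.map q).map e.toMonoidHom)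
      rw [Subgroup.card_map_of_injective (f := e.toMonoidHom) e.injective]
      have := Subgroup.card_map_of_injective (K := (⊤ : Subgroup N)) hinj
      rw [← Subgroup.map_map, ← MonoidHom.range_eq_map, Subgroup.range_subtype,
        Subgroup.card_top] at this
      exact this.symm
    rw [hcard, Subgroup.card_map_of_injective (K := (P : Subgroup M)) M.subtype_injective]
    refine Nat.card_le_card_of_surjective (fun x : (P : Subgroup M) => φ x.1) fun y => ?_
    obtain ⟨x, hx, hxy⟩ := hsurj y.1 y.2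
    exact ⟨⟨x, hx⟩, Subtype.ext hxy⟩
  · intro n hn
    obtain ⟨x, hx, hxy⟩ := hsurj _ ⟨_, ⟨n, hn, rfl⟩, rfl⟩
    exact ⟨_, ⟨x, hx, rfl⟩, hxy⟩

/-! ### The stabilisers -/

variable {F : Type*} [Field F] [Fintype F] {ι : Type} [Fintype ι] [DecidableEq ι]
variable {Q : QuadraticForm F (ι → F)}

local notation "Vec" => (ι → F)
local notation "B" => QuadraticMap.polar Q
local notation "Iso" => Cfsg.isometryGroup F (DFunLike.coe Q)
local notation "Ω" => Cfsg.Omega F (DFunLike.coe Q)

/-- The quotient map to `PΩ`. -/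
abbrev qP (Q : QuadraticForm F (ι → F)) : Cfsg.Omega F ⇑Q →* Cfsg.POmega F ⇑Q :=
  QuotientGroup.mk' (Subgroup.center (Cfsg.Omega F ⇑Q))

/-- The image in `PΩ` of the stabiliser of a singular point. -/
noncomputable def PS (x : SPt Q) : Subgroup (Cfsg.POmega F ⇑Q) :=
  (MulAction.stabilizer Ω x).map (qP Q)

/-- The hypotheses: Witt index and dimension large enough to exclude triality. -/
structure Big (Q : QuadraticForm F (ι → F)) where
  hQ : (QuadraticMap.polarBilin Q).Nondegenerate
  fr : Frame Q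
  hn : 7 ≤ Fintype.card ι
  htri : Fintype.card ι = 8 → ∀ R : Submodule F (ι → F), (∀ r ∈ R, Q r = 0) → finrank F R ≠ 4

variable (S : Big Q)

include S

theorem hn5 : 5 ≤ Fintype.card ι := by have := S.hn; omega

theorem comap_PS (x : SPt Q) : (PS x).comap (qP Q) = MulAction.stabilizer Ω x := by
  rw [PS, Subgroup.comap_map_eq_self]
  rw [QuotientGroup.ker_mk']
  exact fun g hg => fixes_of_central S.hQ S.fr (hn5 S) hg x

theorem stab_injective {x y : SPt Q}
    (h : MulAction.stabilizer Ω x = MulAction.stabilizer Ω y) : x = y := by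
  by_contra hne
  obtain ⟨g, hg, hg'⟩ := exists_moving S.hQ S.fr (hn5 S) hne
  exact hg' (show g ∈ MulAction.stabilizer Ω y from h ▸ hg)

theorem PS_injective {x y : SPt Q} (h : PS x = PS y) : x = y :=
  stab_injective S (by rw [← comap_PS S, ← comap_PS S, h])

theorem PS_smul (g : Ω) (x : SPt Q) :
    PS (g • x) = (PS x).map (MulAut.conj (qP Q g)).toMonoidHom := by
  rw [PS, PS, MulAction.stabilizer_smul_eq_stabilizer_map_conj, Subgroup.map_map, Subgroup.map_map]
  congr 1

theorem card_center_coprime (p : ℕ) [Fact p.Prime] [CharP F p] :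
    ¬ p ∣ Nat.card (qP Q).ker := by
  rw [QuotientGroup.ker_mk']
  have hp := (Fact.out : p.Prime)
  by_cases h2 : (2 : F) = 0
  · rw [natCard_center_one S.hQ S.fr (hn5 S) (Or.inl h2)]
    exact hp.not_dvd_one
  · have hp2 : p ≠ 2 := fun h => h2 (by subst h; exact CharTwo.two_eq_zero)
    by_cases hex : ∃ g ∈ Ω, ((g : Matrix.GeneralLinearGroup ι F) : Matrix ι ι F) = -1
    · rw [natCard_center_two S.hQ S.fr (hn5 S) h2 hex]
      exact fun h => hp2 ((Nat.prime_dvd_prime_iff_eq hp Nat.prime_two).1 h)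
    · rw [natCard_center_one S.hQ S.fr (hn5 S) (Or.inr hex)]
      exact hp.not_dvd_one

/-- The standard point. -/
noncomputable def pt0 : SPt Q := spt S.fr.u S.fr.p.ne_zero.1 S.fr.p.hu

/-- The unipotent radical at the standard point, inside `Ω`. -/
noncomputable def E0 : Subgroup Ω := (NR Q (F ∙ S.fr.u)).subgroupOf Ω

theorem smul_pt0_iff (g : Ω) :
    g • pt0 S = pt0 S ↔ ∃ c : F, act g.1 S.fr.u = c • S.fr.u := by
  rw [pt0, smul_spt, spt_eq]
  exact ⟨fun ⟨c, hc⟩ => ⟨c, hc.symm⟩, fun ⟨c, hc⟩ => ⟨c, hc.symm⟩⟩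

theorem map_span_of_smul {g : Ω} (hg : g • pt0 S = pt0 S) :
    (F ∙ S.fr.u).map (act g.1) = (F ∙ S.fr.u) := by
  obtain ⟨c, hc⟩ := (smul_pt0_iff S g).1 hg
  rw [Submodule.map_span, Set.image_singleton, hc]
  refine Submodule.span_singleton_smul_eq (isUnit_iff_ne_zero.2 fun h0 => ?_) _
  rw [h0, zero_smul] at hc
  exact Orth.act_ne_zero g.1 S.fr.p.ne_zero.1 hc

theorem E0_le : E0 S ≤ MulAction.stabilizer Ω (pt0 S) := fun g hg =>
  (smul_pt0_iff S g).2 ⟨1, by
    rw [one_smul]; exact hg.1 _ (Submodule.mem_span_singleton_self _)⟩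

theorem E0_norm : ∀ a ∈ MulAction.stabilizer Ω (pt0 S), ∀ n ∈ E0 S, a * n * a⁻¹ ∈ E0 S :=
  fun a ha n hn => conj_mem_NR (g := n.1) (h := a.1) hn (map_span_of_smul S ha)

theorem eich_mem_E0 {w : Vec} (hw : B S.fr.u w = 0) :
    (⟨eich S.fr.u w S.fr.p.hu hw, eGroup_mem_omega S.hQ S.fr (hn5 S)
      (eich_mem _ _ trivial trivial)⟩ : Ω) ∈ E0 S := by
  refine eich_mem_NR (singular_polar fun r hr => ?_) S.fr.p.hu hw (Submodule.mem_span_singleton_self _)
    fun r hr => ?_
  · obtain ⟨a, rfl⟩ := Submodule.mem_span_singleton.1 hr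
    rw [Orth.map_smul', S.fr.p.hu, mul_zero]
  · obtain ⟨a, rfl⟩ := Submodule.mem_span_singleton.1 hr
    rw [QuadraticMap.polar_smul_left, hw, smul_zero]

theorem nonempty_idx : Nonempty ι := Fintype.card_pos_iff.1 (by have := S.hn; omega)

theorem E0_pgroup (p : ℕ) [Fact p.Prime] [CharP F p] : IsPGroup p (E0 S) := by
  have := nonempty_idx S
  intro g
  obtain ⟨k, hk⟩ := isPGroup_NR (Q := Q) p (F ∙ S.fr.u) ⟨g.1.1, g.2⟩
  exact ⟨k, Subtype.ext (Subtype.ext (congrArg Subtype.val hk :))⟩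

theorem act_eich_v {w : Vec} (hw : w ∈ S.fr.W) :
    act (eich S.fr.u w S.fr.p.hu (S.fr.mem_W.1 hw).1) S.fr.v = S.fr.v + w - Q w • S.fr.u := by
  rw [act_eich, S.fr.p.hvu, (S.fr.mem_W.1 hw).2]
  simp

theorem eich_orbit_injective {w w' : Vec} (hw : w ∈ S.fr.W) (hw' : w' ∈ S.fr.W) {c : F}
    (h : c • (S.fr.v + w' - Q w' • S.fr.u) = S.fr.v + w - Q w • S.fr.u) : w = w' := by
  have h1 := congrArg (fun x => B S.fr.u x) h
  simp only [QuadraticMap.polar_smul_right, QuadraticMap.polar_sub_right,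
    QuadraticMap.polar_add_right, S.fr.p.huv, (S.fr.mem_W.1 hw).1, (S.fr.mem_W.1 hw').1,
    polar_self_zero S.fr.p.hu, smul_zero, mul_zero, add_zero, sub_zero, smul_eq_mul, mul_one] at h1
  rw [h1, one_smul] at h
  have h2 := congrArg (fun x => B S.fr.v x) h
  simp only [QuadraticMap.polar_smul_right, QuadraticMap.polar_sub_right,
    QuadraticMap.polar_add_right, S.fr.p.hvu, (S.fr.mem_W.1 hw).2, (S.fr.mem_W.1 hw').2,
    polar_self_zero S.fr.p.hv, smul_zero, mul_zero, add_zero, zero_sub, smul_eq_mul, mul_one, neg_inj] at h2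
  rw [h2] at h
  exact (add_left_cancel (sub_left_injective h)).symm

theorem E0_fixed {x : Vec} (hx : ∀ g ∈ E0 S, act (g : Iso) x = x) : x ∈ (F ∙ S.fr.u) :=
  fixed_eich S.hQ S.fr.p.hu S.fr.p.ne_zero.1 (by have := S.hn; omega) fun w hw =>
    hx _ (eich_mem_E0 S hw)

theorem E0_ne_bot : E0 S ≠ ⊥ := by
  intro h
  have hv : S.fr.v ∈ (F ∙ S.fr.u) := E0_fixed S fun g hg => by
    rw [h, Subgroup.mem_bot] at hg
    rw [hg, Subgroup.coe_one, act_one]
  obtain ⟨a, ha⟩ := Submodule.mem_span_singleton.1 hv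
  have h1 := S.fr.p.huv
  rw [← ha, QuadraticMap.polar_smul_right, polar_self_zero S.fr.p.hu, smul_zero] at h1
  exact zero_ne_one h1

theorem card_stab_orbit_modEq (p : ℕ) [Fact p.Prime] [CharP F p] :
    ¬ p ∣ (MulAction.stabilizer Ω (pt0 S)).index := by
  have := omega_isPretransitive S.hQ S.fr (hn5 S)
  have : Finite (SPt Q) := Subtype.finite
  rw [MulAction.index_stabilizer_of_transitive]
  have hfix : MulAction.fixedPoints (E0 S) (SPt Q) = {pt0 S} := by
    ext x
    refine ⟨fun hx => ?_, fun hx g => ?_⟩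
    · obtain ⟨a, ha, hqa, rfl⟩ := exists_spt x
      have hfx : ∀ g ∈ E0 S, act (g : Iso) a = a := by
        intro g hg
        have h1 := hx ⟨g, hg⟩
        change g • spt a ha hqa = _ at h1
        rw [smul_spt] at h1
        obtain ⟨c, hc⟩ := spt_eq.1 h1
        obtain ⟨k, hk⟩ := E0_pgroup S p ⟨g, hg⟩
        have hpow : ∀ j : ℕ, act (g.1 ^ j) a = c ^ j • a := by
          intro j
          induction j with
          | zero => rw [pow_zero, act_one, pow_zero, one_smul]
          | succ j ih => rw [pow_succ, act_mul, ← hc, map_smul, ih, smul_smul, pow_succ']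
        have h2 := hpow (p ^ k)
        rw [show g.1 ^ p ^ k = 1 from congrArg (fun y : E0 S => (y.1 : Ω).1) hk, act_one] at h2
        have h3 : c ^ p ^ k = 1 := by
          by_contra h4
          have h5 : (c ^ p ^ k - 1) • a = 0 := by rw [sub_smul, one_smul, ← h2, sub_self]
          exact ha ((smul_eq_zero.1 h5).resolve_left (sub_ne_zero.2 h4))
        have h6 : (c - 1) ^ p ^ k = 0 := by rw [sub_pow_char_pow, h3, one_pow, sub_self]
        rw [← hc, sub_eq_zero.1 (eq_zero_of_pow_eq_zero h6), one_smul]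
      obtain ⟨b, hb⟩ := Submodule.mem_span_singleton.1 (E0_fixed S hfx)
      exact spt_eq.2 ⟨b, hb⟩
    · rw [Set.mem_singleton_iff.1 hx]
      exact E0_le S g.2
  have h1 := (E0_pgroup S p).card_modEq_card_fixedPoints (SPt Q)
  rw [hfix, Nat.card_coe_set_eq, Set.ncard_singleton] at h1
  intro hd
  have h2 : 1 % p = 0 := h1 ▸ Nat.mod_eq_zero_of_dvd hd
  rw [Nat.one_mod_eq_one.2 (Fact.out : p.Prime).ne_one] at h2
  exact one_ne_zero h2

/-- A `p`-group fixes a non-zero vector of every non-zero invariant subspace. -/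
theorem exists_fixed (p : ℕ) [Fact p.Prime] [CharP F p] (N : Subgroup Ω) (hN : IsPGroup p N)
    (W : Submodule F Vec) (hW : ∀ g ∈ N, ∀ x ∈ W, act (g : Iso) x ∈ W) (h0 : W ≠ ⊥) :
    ∃ x ∈ W, x ≠ 0 ∧ ∀ g ∈ N, act (g : Iso) x = x := by
  classical
  let X := {x : Vec // x ∈ W}
  letI : SMul N X := ⟨fun g x => ⟨act g.1.1 x.1, hW _ g.2 _ x.2⟩⟩
  have hsm : ∀ (g : N) (x : X), (g • x).1 = act g.1.1 x.1 := fun _ _ => rfl
  letI : MulAction N X :=
    { one_smul := fun x => Subtype.ext (by rw [hsm]; exact act_one _)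
      mul_smul := fun g h x => Subtype.ext (by rw [hsm, hsm, hsm]; exact act_mul _ _ _) }
  have hfix0 : (⟨0, W.zero_mem⟩ : X) ∈ MulAction.fixedPoints N X := fun g => Subtype.ext (by
    rw [hsm]; exact map_zero _)
  have hdvd : p ∣ Nat.card X := by
    have e : Nat.card X = Fintype.card F ^ finrank F W := by
      haveI : Fintype W := Fintype.ofFinite _
      rw [show Nat.card X = Nat.card W from rfl, Nat.card_eq_fintype_card,
        Module.card_eq_pow_finrank (K := F) (V := W)]
    rw [e]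
    refine dvd_pow ?_ fun h => h0 (Submodule.finrank_eq_zero.1 h)
    obtain ⟨k, hk, hF⟩ := FiniteField.card F p
    rw [hF]
    exact dvd_pow_self p k.pos.ne'
  obtain ⟨x, hx, hx0⟩ := hN.exists_fixed_point_of_prime_dvd_card_of_fixed_point _ hdvd hfix0
  exact ⟨x.1, x.2, fun h => hx0 (Subtype.ext h.symm),
    fun g hg => congrArg Subtype.val (hx ⟨g, hg⟩)⟩

theorem card_normal_le (p : ℕ) [Fact p.Prime] [CharP F p] (N : Subgroup Ω) (hN : IsPGroup p N)
    (hle : N ≤ MulAction.stabilizer Ω (pt0 S))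
    (hnorm : ∀ a ∈ MulAction.stabilizer Ω (pt0 S), ∀ n ∈ N, a * n * a⁻¹ ∈ N) :
    N ≤ E0 S ∧ Nat.card N ≤ Fintype.card F ^ (Fintype.card ι - 2) := by
  have h1 : N ≤ E0 S := fun g hg => normal_pgroup_le S.hQ S.fr (hn5 S) p N hN
    (fun g hg => (smul_pt0_iff S g).1 (hle hg))
    (fun h g hh hg => hnorm h ((smul_pt0_iff S h).2 hh) g hg) g hg
  refine ⟨h1, le_trans ?_ (natCard_NR_le S.hQ S.fr)⟩
  exact Nat.card_le_card_of_injective (fun g : N => (⟨g.1.1, h1 g.2⟩ : NR Q (F ∙ S.fr.u)))
    fun g h e => Subtype.ext (Subtype.ext (congrArg Subtype.val e :))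

theorem exists_PS_image0 (p : ℕ) [Fact p.Prime] [CharP F p] (β : MulAut (Cfsg.POmega F ⇑Q)) :
    ∃ y : SPt Q, (PS (pt0 S)).map β.toMonoidHom = PS y := by
  classical
  have hq : Function.Surjective (qP Q) := QuotientGroup.mk'_surjective _
  have hc : (qP Q).ker ≤ Subgroup.center Ω := (QuotientGroup.ker_mk' _).le
  set A := MulAction.stabilizer Ω (pt0 S)
  set H := ((A.map (qP Q)).map β.toMonoidHom).comap (qP Q)
  suffices h : ∃ y : SPt Q, H = MulAction.stabilizer Ω y by
    obtain ⟨y, hy⟩ := h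
    refine ⟨y, ?_⟩
    rw [PS, PS, ← hy, Subgroup.map_comap_eq_self_of_surjective hq]
  have := omega_isPretransitive S.hQ S.fr (hn5 S)
  -- `H` is a maximal subgroup
  have hmax : ∀ K : Subgroup Ω, H ≤ K → K = ⊤ ∨ K = H := by
    intro K hK
    have hzK : (qP Q).ker ≤ K := le_trans (fun z hz => by
      show qP Q z ∈ (A.map (qP Q)).map β.toMonoidHom
      rw [MonoidHom.mem_ker.1 hz]
      exact one_mem _) hK
    set K' := ((K.map (qP Q)).map β.symm.toMonoidHom).comap (qP Q)
    have hAK : A ≤ K' := fun a ha => by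
      obtain ⟨x, hx⟩ := hq (β (qP Q a))
      exact ⟨_, ⟨x, hK ⟨_, ⟨a, ha, rfl⟩, hx.symm⟩, rfl⟩, by
        show β.symm (qP Q x) = _; rw [hx, β.symm_apply_apply]⟩
    have hprim := omega_isPreprimitive S.hQ S.fr (hn5 S)
    have : Nontrivial (SPt Q) := ⟨⟨pt0 S, spt S.fr.v S.fr.p.ne_zero.2 S.fr.p.hv, fun he => by
      obtain ⟨a, ha⟩ := spt_eq.1 he
      have h1 := S.fr.p.huv
      rw [← ha, QuadraticMap.polar_smul_left, polar_self_zero S.fr.p.hv, smul_zero] at h1
      exact zero_ne_one h1⟩⟩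
    have hco : IsCoatom A := (MulAction.isCoatom_stabilizer_iff_preprimitive (G := Ω) (pt0 S)).2 hprim
    have hKK : ((K'.map (qP Q)).map β.toMonoidHom).comap (qP Q) = K := by
      rw [Subgroup.map_comap_eq_self_of_surjective hq, Subgroup.map_map,
        show β.toMonoidHom.comp β.symm.toMonoidHom = MonoidHom.id _ from
          MonoidHom.ext fun x => β.apply_symm_apply x, Subgroup.map_id,
        Subgroup.comap_map_eq_self hzK]
    rcases hco.le_iff.1 hAK with h | h
    · left
      rw [← hKK, h, Subgroup.map_top_of_surjective _ hq, Subgroup.map_top_of_surjective _ β.surjective,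
        Subgroup.comap_top]
    · right
      rw [← hKK, h]
  -- a normal `p`-subgroup
  obtain ⟨N, hNp, hNH, hNn, hNc, -⟩ := lift_pgroup (qP Q) hq hc p (card_center_coprime S p) β A
    (E0 S) (E0_pgroup S p) (E0_le S) (E0_norm S)
  have hNne : N ≠ ⊥ := fun h => by
    rw [h, Subgroup.card_bot] at hNc
    exact E0_ne_bot S ((Subgroup.card_le_one_iff_eq_bot _).1 hNc)
  let W : Submodule F Vec :=
    { carrier := {x | ∀ g ∈ N, act (g : Iso) x = x}
      zero_mem' := fun g _ => map_zero _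
      add_mem' := fun {x y} hx hy g hg => by rw [map_add, hx g hg, hy g hg]
      smul_mem' := fun a x hx g hg => by rw [map_smul, hx g hg] }
  have hHW : ∀ h ∈ H, ∀ x ∈ W, act (h : Iso) x ∈ W := fun h hh x hx g hg => by
    have h1 := hx _ (hNn h⁻¹ (inv_mem hh) g hg)
    have h2 := congrArg (act (h : Iso)) h1
    rw [inv_inv, Subgroup.coe_mul, Subgroup.coe_mul, Subgroup.coe_inv, act_mul, act_mul,
      Orth.act_cancel_inv] at h2
    exact h2
  set R := W ⊓ (polB Q).orthogonal W
  have hHperp : ∀ h ∈ H, ∀ x ∈ (polB Q).orthogonal W, act (h : Iso) x ∈ (polB Q).orthogonal W :=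
    fun h hh x hx => mem_orth.2 fun w hw => by
      rw [← act_polar (h : Iso)⁻¹, Spinor.act_inv_cancel]
      exact mem_orth.1 hx _ (hHW h⁻¹ (inv_mem hh) w hw)
  have hR0 : R ≠ ⊥ := by
    intro hR
    by_cases hWo : (polB Q).orthogonal W = ⊥
    · have hWtop : W = ⊤ := by
        rw [← LinearMap.BilinForm.orthogonal_orthogonal (show (polB Q).Nondegenerate from S.hQ)
          polB_refl W, hWo]
        exact eq_top_iff.2 fun x _ => mem_orth.2 fun w hw => by
          rw [(Submodule.mem_bot F).1 hw]; simp [QuadraticMap.polar]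
      refine hNne (eq_bot_iff.2 fun g hg => Subgroup.mem_bot.2 (Subtype.ext (act_ext fun x => ?_)))
      rw [Subgroup.coe_one, act_one]
      exact (hWtop ▸ Submodule.mem_top : x ∈ W) g hg
    · obtain ⟨x, hx, hx0, hfx⟩ := exists_fixed S p N hNp _
        (fun g hg => hHperp g (hNH hg)) hWo
      exact hx0 ((Submodule.mem_bot F).1 (hR ▸ Submodule.mem_inf.2 ⟨hfx, hx⟩))
  have hRR : ∀ x ∈ R, ∀ y ∈ R, B x y = 0 := fun x hx y hy =>
    mem_orth.1 (Submodule.mem_inf.1 hy).2 x (Submodule.mem_inf.1 hx).1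
  let R0 : Submodule F Vec :=
    { carrier := {x | x ∈ R ∧ Q x = 0}
      zero_mem' := ⟨R.zero_mem, QuadraticMap.map_zero _⟩
      add_mem' := fun {x y} hx hy => ⟨R.add_mem hx.1 hy.1, by
        rw [map_add', hx.2, hy.2, hRR x hx.1 y hy.1]; simp⟩
      smul_mem' := fun a x hx => ⟨R.smul_mem a hx.1, by rw [Orth.map_smul', hx.2, mul_zero]⟩ }
  have hHR : ∀ h ∈ H, ∀ x ∈ R0, act (h : Iso) x ∈ R0 := fun h hh x hx =>
    ⟨⟨hHW h hh x hx.1.1, hHperp h hh x hx.1.2⟩, by rw [act_map]; exact hx.2⟩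
  -- `R0` is non-zero: `H` contains a Sylow subgroup
  have hidx : H.index = A.index := by
    rw [Subgroup.index_comap_of_surjective _ hq,
      Subgroup.index_map_eq _ (f := β.toMonoidHom) β.surjective (fun z hz => by
        rw [β.injective ((MonoidHom.mem_ker.1 hz).trans (map_one β).symm)]; exact one_mem _),
      Subgroup.index_map_eq A hq (fun z hz => ?_)]
    exact fixes_of_central S.hQ S.fr (hn5 S) (hc hz) _
  obtain ⟨x, hx, hx0⟩ : ∃ x ∈ R0, x ≠ 0 := by
    obtain ⟨U⟩ : Nonempty (Sylow p H) := inferInstance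
    have hU : ¬ p ∣ ((U : Subgroup H).map H.subtype).index := by
      rw [Subgroup.index_map_subtype, hidx]
      intro hd
      rcases (Fact.out : p.Prime).dvd_mul.1 hd with h | h
      · exact U.not_dvd_index h
      · exact card_stab_orbit_modEq S p h
    let U' : Sylow p Ω := (U.isPGroup'.map H.subtype).toSylow hU
    obtain ⟨T, hT⟩ := (E0_pgroup S p).exists_le_sylow
    obtain ⟨g, hg⟩ := MulAction.exists_smul_eq Ω T U'
    obtain ⟨x, hxR, hx0, hfx⟩ := exists_fixed S p ((U : Subgroup H).map H.subtype)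
      (U.isPGroup'.map _) R (fun k hk x hx => by
        obtain ⟨k', -, rfl⟩ := hk
        exact ⟨hHW _ k'.2 x hx.1, hHperp _ k'.2 x hx.2⟩) hR0
    refine ⟨x, ⟨hxR, ?_⟩, hx0⟩
    have h1 : act (g : Iso)⁻¹ x ∈ (F ∙ S.fr.u) := E0_fixed S fun e he => by
      have h2 : g * e * g⁻¹ ∈ (U : Subgroup H).map H.subtype := by
        have h3 := congrArg (fun P : Sylow p Ω => (P : Subgroup Ω)) hg
        change _ = (U : Subgroup H).map H.subtype at h3
        rw [← h3]
        exact ⟨e, hT he, rfl⟩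
      have h4 := congrArg (act (g : Iso)⁻¹) (hfx _ h2)
      rwa [Subgroup.coe_mul, Subgroup.coe_mul, Subgroup.coe_inv, act_mul, act_mul,
        Spinor.act_inv_cancel] at h4
    obtain ⟨a, ha⟩ := Submodule.mem_span_singleton.1 h1
    rw [← act_map (g : Iso)⁻¹ x, ← ha, Orth.map_smul', S.fr.p.hu, mul_zero]
  have hR0s : ∀ r ∈ R0, Q r = 0 := fun r hr => hr.2
  -- the stabiliser of `R0`
  let K : Subgroup Ω :=
    { carrier := {g : Ω | R0.map (act g.1) = R0}
      one_mem' := by
        show R0.map (act (1 : Iso)) = R0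
        rw [show act (1 : Iso) = LinearMap.id from LinearMap.ext act_one, Submodule.map_id]
      mul_mem' := fun {g h} hg hh => by
        show R0.map (act (g.1 * h.1)) = R0
        rw [show act (g.1 * h.1) = (act g.1).comp (act h.1) from
          LinearMap.ext (act_mul _ _), Submodule.map_comp, hh, hg]
      inv_mem' := fun {g} hg => by
        show R0.map (act g.1⁻¹) = R0
        conv_lhs => rw [← hg]
        rw [← Submodule.map_comp, show (act g.1⁻¹).comp (act g.1) = LinearMap.id from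
          LinearMap.ext fun x => Spinor.act_inv_cancel _ _, Submodule.map_id] }
  have hHK : H ≤ K := fun h hh => by
    show R0.map (act (h : Iso)) = R0
    refine Submodule.eq_of_le_of_finrank_eq ?_
      (Submodule.equivMapOfInjective _ (Orth.act_injective _) R0).finrank_eq.symm
    rintro _ ⟨r, hr, rfl⟩
    exact hHR h hh r hr
  have hKtop : K ≠ ⊤ := by
    intro htop
    have hall : ∀ (y : Vec) (hy : y ≠ 0) (hqy : Q y = 0), y ∈ R0 := by
      intro y hy hqy
      obtain ⟨g, hg⟩ := MulAction.exists_smul_eq Ω (spt x hx0 hx.2) (spt y hy hqy)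
      rw [smul_spt] at hg
      obtain ⟨a, ha⟩ := spt_eq.1 hg
      have hgK : R0.map (act (g : Iso)) = R0 := (htop ▸ Subgroup.mem_top g : g ∈ K)
      have h1 : act (g : Iso) x ∈ R0 := hgK ▸ Submodule.mem_map_of_mem hx
      have ha0 : a ≠ 0 := fun h => Orth.act_ne_zero _ hx0 (by rw [← ha, h, zero_smul])
      exact (R0.smul_mem_iff ha0).1 (ha ▸ h1)
    have h1 := hRR _ (hall _ S.fr.p.ne_zero.1 S.fr.p.hu).1 _ (hall _ S.fr.p.ne_zero.2 S.fr.p.hv).1
    rw [S.fr.p.huv] at h1
    exact one_ne_zero h1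
  have hKH : K = H := (hmax K hHK).resolve_left hKtop
  have hk1 : 1 ≤ finrank F R0 := by
    rw [Nat.one_le_iff_ne_zero]
    intro h
    exact hx0 ((Submodule.mem_bot F).1 (Submodule.finrank_eq_zero.1 h ▸ hx))
  rcases eq_or_lt_of_le hk1 with hk | hk
  · refine ⟨spt x hx0 hx.2, ?_⟩
    have hspan : R0 = (F ∙ x) := (Submodule.eq_of_le_of_finrank_eq
      ((Submodule.span_singleton_le_iff_mem _ _).2 hx) (by rw [finrank_span_singleton hx0, hk])).symm
    rw [← hKH]
    ext g
    show R0.map (act (g : Iso)) = R0 ↔ g • spt x hx0 hx.2 = spt x hx0 hx.2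
    rw [smul_spt, spt_eq, hspan, Submodule.map_span, Set.image_singleton]
    constructor
    · intro h
      obtain ⟨a, ha⟩ := Submodule.mem_span_singleton.1
        (h ▸ Submodule.mem_span_singleton_self (act (g : Iso) x) : act (g : Iso) x ∈ (F ∙ x))
      exact ⟨a, ha⟩
    · rintro ⟨a, ha⟩
      rw [← ha]
      refine Submodule.span_singleton_smul_eq (isUnit_iff_ne_zero.2 fun h0 => ?_) _
      exact Orth.act_ne_zero _ hx0 (by rw [← ha, h0, zero_smul])
  · exfalso
    have hne := nonempty_idx S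
    let M : Subgroup Ω := (NR Q R0).subgroupOf Ω
    have hMp : IsPGroup p M := fun g => by
      obtain ⟨k, hk⟩ := isPGroup_NR (Q := Q) p R0 ⟨g.1.1, g.2⟩
      exact ⟨k, Subtype.ext (Subtype.ext (congrArg Subtype.val hk :))⟩
    have hMH : M ≤ H := fun g hg => by
      rw [← hKH]
      refine Submodule.eq_of_le_of_finrank_eq ?_
        (Submodule.equivMapOfInjective _ (Orth.act_injective _) R0).finrank_eq.symm
      rintro _ ⟨r, hr, rfl⟩
      rw [show act g.1 r = r from hg.1 r hr]; exact hr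
    have hMn : ∀ a ∈ H, ∀ n ∈ M, a * n * a⁻¹ ∈ M := fun a ha n hn =>
      conj_mem_NR (g := n.1) (h := a.1) hn (hKH ▸ ha : a ∈ K)
    obtain ⟨N', hN'p, hN'le, hN'n, hN'c, -⟩ := lift_pgroup (qP Q) hq hc p (card_center_coprime S p)
      β.symm H M hMp hMH hMn
    have hback : ((H.map (qP Q)).map β.symm.toMonoidHom).comap (qP Q) = A := by
      rw [Subgroup.map_comap_eq_self_of_surjective hq, Subgroup.map_map,
        show β.symm.toMonoidHom.comp β.toMonoidHom = MonoidHom.id _ from
          MonoidHom.ext fun x => β.symm_apply_apply x, Subgroup.map_id,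
        Subgroup.comap_map_eq_self]
      exact fun z hz => fixes_of_central S.hQ S.fr (hn5 S) (hc hz) _
    rw [hback] at hN'le hN'n
    have hup := hN'c.trans (card_normal_le S p N' hN'p hN'le hN'n).2
    have hlow := le_natCard_NR S.hQ S.fr (hn5 S) hR0s rfl hk M (fun g hg => hg)
    have h2k : 2 * finrank F R0 ≤ Fintype.card ι := by
      have hle : R0 ≤ (polB Q).orthogonal R0 := fun y hy => mem_orth.2 fun z hz =>
        hRR z hz.1 y hy.1
      have h1 := Submodule.finrank_mono hle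
      rw [LinearMap.BilinForm.finrank_orthogonal (show (polB Q).Nondegenerate from S.hQ),
        Module.finrank_pi] at h1
      omega
    have hmono : ∀ {i j : ℕ}, Fintype.card F ^ i ≤ Fintype.card F ^ j → i ≤ j := fun h =>
      (Nat.pow_le_pow_iff_right Fintype.one_lt_card).1 h
    have hn7 := S.hn
    rcases eq_or_lt_of_le (show 2 ≤ finrank F R0 from hk) with h2 | h3
    · have := hmono (hlow.1.trans hup)
      omega
    · have := hmono ((hlow.2 h3).trans hup)
      have h4 : Fintype.card ι = 8 → finrank F R0 ≠ 4 := fun h => S.htri h R0 hR0s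
      omega

theorem exists_PS_image (p : ℕ) [Fact p.Prime] [CharP F p] (β : MulAut (Cfsg.POmega F ⇑Q))
    (x : SPt Q) : ∃ y : SPt Q, (PS x).map β.toMonoidHom = PS y := by
  have := omega_isPretransitive S.hQ S.fr (hn5 S)
  obtain ⟨g, rfl⟩ := MulAction.exists_smul_eq Ω (pt0 S) x
  obtain ⟨y, hy⟩ := exists_PS_image0 S p β
  obtain ⟨g', hg'⟩ := QuotientGroup.mk'_surjective _ (β (qP Q g))
  refine ⟨g' • y, ?_⟩
  rw [PS_smul S, PS_smul S, Subgroup.map_map, ← hy, Subgroup.map_map]
  congr 1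
  ext a
  simp [hg']

/-- The permutation of the singular points attached to an automorphism. -/
theorem exists_perm (p : ℕ) [Fact p.Prime] [CharP F p] (β : MulAut (Cfsg.POmega F ⇑Q)) :
    ∃ π : SPt Q ≃ SPt Q,
      (∀ (g g' : Ω) (x : SPt Q), qP Q g' = β (qP Q g) → π (g • x) = g' • π x) ∧
      ∀ x y : SPt Q, sorth (π x) (π y) ↔ sorth x y := by
  classical
  have := omega_isPretransitive S.hQ S.fr (hn5 S)
  have : Finite (SPt Q) := Subtype.finite
  choose f hf using exists_PS_image S p β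
  have hinj : Function.Injective f := fun a b h => PS_injective S (by
    have e := hf a
    rw [h, ← hf b] at e
    exact Subgroup.map_injective β.injective e)
  let π : SPt Q ≃ SPt Q := Equiv.ofBijective f (Finite.injective_iff_bijective.1 hinj)
  have hequiv : ∀ (g g' : Ω) (x : SPt Q), qP Q g' = β (qP Q g) → π (g • x) = g' • π x := by
    intro g g' x hg
    refine PS_injective S ?_
    show PS (f (g • x)) = PS (g' • f x)
    rw [← hf, PS_smul S, PS_smul S, ← hf, Subgroup.map_map, Subgroup.map_map, hg]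
    congr 1
    ext a
    simp
  refine ⟨π, hequiv, ?_⟩
  -- non-orthogonality at the standard point
  set v0 : SPt Q := spt S.fr.v S.fr.p.ne_zero.2 S.fr.p.hv
  have hbase : ¬ sorth (π (pt0 S)) (π v0) := by
    intro hperp
    obtain ⟨h, hh⟩ := MulAction.exists_smul_eq Ω (π (pt0 S)) (pt0 S)
    obtain ⟨N, hNp, hNle, hNn, -, hNl⟩ := lift_pgroup (qP Q) (QuotientGroup.mk'_surjective _)
      (QuotientGroup.ker_mk' _).le p (card_center_coprime S p)
      (MulAut.conj (qP Q h) * β) (MulAction.stabilizer Ω (pt0 S)) (E0 S) (E0_pgroup S p) (E0_le S)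
      (E0_norm S)
    have hA : (((MulAction.stabilizer Ω (pt0 S)).map (qP Q)).map
        (MulAut.conj (qP Q h) * β).toMonoidHom).comap (qP Q) = MulAction.stabilizer Ω (pt0 S) := by
      rw [show (MulAut.conj (qP Q h) * β).toMonoidHom =
        (MulAut.conj (qP Q h)).toMonoidHom.comp β.toMonoidHom from rfl, ← Subgroup.map_map]
      show (((PS (pt0 S)).map β.toMonoidHom).map _).comap _ = _
      rw [hf, ← PS_smul S, show h • f (pt0 S) = pt0 S from hh, comap_PS S]
    rw [hA] at hNle hNn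
    have hNE := (card_normal_le S p N hNp hNle hNn).1
    -- the image of the orbit of `v0` lies on a line
    obtain ⟨b, hb, hqb, hbe⟩ := exists_spt (h • π v0)
    have hub : B S.fr.u b = 0 := by
      have h1 : sorth (h • π (pt0 S)) (h • π v0) := by
        obtain ⟨a1, ha1, hqa1, e1⟩ := exists_spt (π (pt0 S))
        obtain ⟨a2, ha2, hqa2, e2⟩ := exists_spt (π v0)
        rw [← e1, ← e2, sorth_spt] at hperp
        rw [← e1, ← e2, smul_spt, smul_spt, sorth_spt, act_polar]
        exact hperp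
      rw [hh, ← hbe, pt0, sorth_spt] at h1
      exact h1
    set L : Submodule F Vec := Submodule.span F {S.fr.u, b}
    have hmem : ∀ w : ↥S.fr.W, ∃ y : L, ∃ (hy : (y : Vec) ≠ 0) (hqy : Q (y : Vec) = 0),
        h • π (spt (S.fr.v + w.1 - Q w.1 • S.fr.u)
          (by rw [← act_eich_v S w.2]; exact Orth.act_ne_zero _ S.fr.p.ne_zero.2)
          (by rw [← act_eich_v S w.2, act_map]; exact S.fr.p.hv)) = spt (y : Vec) hy hqy := by
      intro w
      set e : Ω := ⟨eich S.fr.u w.1 S.fr.p.hu (S.fr.mem_W.1 w.2).1,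
        eGroup_mem_omega S.hQ S.fr (hn5 S) (eich_mem _ _ trivial trivial)⟩
      have he : e • v0 = spt (S.fr.v + w.1 - Q w.1 • S.fr.u)
          (by rw [← act_eich_v S w.2]; exact Orth.act_ne_zero _ S.fr.p.ne_zero.2)
          (by rw [← act_eich_v S w.2, act_map]; exact S.fr.p.hv) := by
        rw [smul_spt, spt_eq]
        exact ⟨1, by rw [one_smul]; exact (act_eich_v S w.2).symm⟩
      obtain ⟨n, hn, hne⟩ := hNl e (eich_mem_E0 S (S.fr.mem_W.1 w.2).1)
      obtain ⟨e', he'⟩ := QuotientGroup.mk'_surjective _ (β (qP Q e))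
      have hn' : n • (h • π v0) = h • (e' • π v0) := by
        rw [← mul_smul, ← mul_smul]
        have hz : (h * e')⁻¹ * (n * h) ∈ Subgroup.center Ω := by
          rw [← QuotientGroup.ker_mk' (Subgroup.center Ω), MonoidHom.mem_ker]
          simp only [map_mul, map_inv]
          rw [hne, MulAut.mul_apply, MulAut.conj_apply, ← he']
          group
        calc (n * h) • π v0 = ((h * e') * ((h * e')⁻¹ * (n * h))) • π v0 := by
              rw [mul_inv_cancel_left]
          _ = (h * e') • π v0 := by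
              rw [mul_smul, fixes_of_central S.hQ S.fr (hn5 S) hz]
      rw [← he, hequiv e e' v0 he', ← hn', ← hbe, smul_spt]
      refine ⟨⟨act (n : Iso) b, ?_⟩, Orth.act_ne_zero _ hb, by rw [act_map]; exact hqb, rfl⟩
      obtain ⟨a, ha⟩ := Submodule.mem_span_singleton.1 ((hNE hn).2 b fun r hr => by
        obtain ⟨c, rfl⟩ := Submodule.mem_span_singleton.1 hr
        rw [QuadraticMap.polar_smul_left, hub, smul_zero])
      rw [show act (n : Iso) b = b + a • S.fr.u by rw [ha]; abel]
      exact L.add_mem (Submodule.subset_span (by simp))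
        (L.smul_mem _ (Submodule.subset_span (by simp)))
    choose Y hY0 hYq hY using hmem
    have hYinj : Function.Injective Y := by
      intro w w' e
      have e1 := hY w
      have e2 := hY w'
      have e3 : spt (Y w : Vec) (hY0 w) (hYq w) = spt (Y w' : Vec) (hY0 w') (hYq w') :=
        spt_eq.2 ⟨1, by rw [e, one_smul]⟩
      rw [← e1, ← e2, smul_left_cancel_iff, π.apply_eq_iff_eq] at e3
      obtain ⟨c, hc⟩ := spt_eq.1 e3
      exact Subtype.ext (eich_orbit_injective S w.2 w'.2 hc)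
    have hcard := Nat.card_le_card_of_injective Y hYinj
    haveI : Fintype ↥S.fr.W := Fintype.ofFinite _
    haveI : Fintype ↥L := Fintype.ofFinite _
    rw [Nat.card_eq_fintype_card, Nat.card_eq_fintype_card,
      Module.card_eq_pow_finrank (K := F) (V := ↥S.fr.W),
      Module.card_eq_pow_finrank (K := F) (V := ↥L)] at hcard
    have h1 := (Nat.pow_le_pow_iff_right Fintype.one_lt_card).1 hcard
    have h2 : finrank F ↥L ≤ 2 := (finrank_span_le_card _).trans (by
      rw [Set.toFinset_insert, Set.toFinset_singleton]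
      exact Finset.card_le_two)
    have := finrank_W S.hQ S.fr
    have := S.hn
    omega
  have hsmul : ∀ (g : Ω) (x y : SPt Q), sorth (g • x) (g • y) ↔ sorth x y := by
    intro g x y
    obtain ⟨a, ha, hqa, rfl⟩ := exists_spt x
    obtain ⟨b, hb, hqb, rfl⟩ := exists_spt y
    rw [smul_spt, smul_spt, sorth_spt, sorth_spt, act_polar]
  have hself : ∀ x : SPt Q, sorth x x := fun x => by
    obtain ⟨a, ha, hqa, rfl⟩ := exists_spt x
    rw [sorth_spt]
    exact polar_self_zero hqa
  have hfwd : ∀ x y : SPt Q, ¬ sorth x y → ¬ sorth (π x) (π y) := by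
    intro x y hxy
    obtain ⟨g, rfl⟩ := MulAction.exists_smul_eq Ω (pt0 S) x
    obtain ⟨y', rfl⟩ : ∃ y', g • y' = y := ⟨g⁻¹ • y, smul_inv_smul g y⟩
    rw [hsmul] at hxy
    have hv : ¬ sorth (pt0 S) v0 := fun h => by
      rw [pt0, sorth_spt, S.fr.p.huv] at h
      exact one_ne_zero h
    obtain ⟨k, hk, hkv⟩ := exists_stab S.hQ S.fr (hn5 S) (pt0 S) v0 y'
      (fun h => hv (h ▸ hself _)) (fun h => hxy (h ▸ hself _)) (iff_of_false hv hxy)
    obtain ⟨g', hg'⟩ := QuotientGroup.mk'_surjective _ (β (qP Q g))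
    obtain ⟨k', hk'⟩ := QuotientGroup.mk'_surjective _ (β (qP Q k))
    rw [hequiv g g' _ hg', hequiv g g' _ hg', hsmul, ← hkv]
    nth_rw 1 [← hk]
    rw [hequiv k k' _ hk', hequiv k k' _ hk', hsmul]
    exact hbase
  intro x y
  refine ⟨fun h => by_contra fun hn => hfwd x y hn h, fun h => ?_⟩
  by_contra hn
  let P := {z : SPt Q × SPt Q // ¬ sorth z.1 z.2}
  let Φ : P → P := fun z => ⟨(π z.1.1, π z.1.2), hfwd _ _ z.2⟩
  have hΦ : Function.Surjective Φ := Finite.surjective_of_injective fun a b e => by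
    have e1 := congrArg Subtype.val e
    exact Subtype.ext (Prod.ext (π.injective (congrArg Prod.fst e1))
      (π.injective (congrArg Prod.snd e1)))
  obtain ⟨⟨⟨a, b⟩, hab⟩, e⟩ := hΦ ⟨(π x, π y), hn⟩
  have e1 := congrArg Subtype.val e
  have ea : a = x := π.injective (congrArg Prod.fst e1)
  have eb : b = y := π.injective (congrArg Prod.snd e1)
  exact hab (ea ▸ eb ▸ h)

end Cfsg.Agent.AutPOmega.PointStab
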