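import Cfsg.Agent.Lib.AutPOmega.Basic

/-!
# Isomorphisms of `PΩ` induced by semisimilarities
-/

set_option autoImplicit false
set_option linter.unusedSectionVars false
set_option linter.unusedVariables false

namespace Cfsg.Agent.AutPOmega

open Matrix Cfsg.Agent.Forms Cfsg.Agent.Forms.QuadStd Cfsg.Agent.Forms.Reflections
open Cfsg.Agent.Classical Cfsg.Agent.Classical.Orth

universe u

variable {F : Type u} [Field F] {ι : Type} [Fintype ι] [DecidableEq ι]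

/-- A field automorphism applied to the entries of an invertible matrix. -/
def fld (σ : F ≃+* F) : GL ι F ≃* GL ι F := Units.mapEquiv σ.mapMatrix.toMulEquiv

theorem fld_coe (σ : F ≃+* F) (g : GL ι F) :
    ((fld σ g : GL ι F) : Matrix ι ι F) = (g : Matrix ι ι F).map σ := rfl

theorem map_mulVec' (σ : F ≃+* F) (A : Matrix ι ι F) (v : ι → F) :
    A.map σ *ᵥ (fun i => σ (v i)) = fun i => σ ((A *ᵥ v) i) :=
  funext fun i => (RingHom.map_mulVec σ.toRingHom A v i).symm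

/-- A semisimilarity from `Q` to `Q'`. -/
structure Semi (Q Q' : QuadraticForm F (ι → F)) where
  g : GL ι F
  σ : F ≃+* F
  c : Fˣ
  h : ∀ v : ι → F, Q' ((g : Matrix ι ι F) *ᵥ fun i => σ (v i)) = (c : F) * σ (Q v)

variable {Q Q' : QuadraticForm F (ι → F)} (Φ : Semi Q Q')

/-- The semilinear map. -/
def Semi.fn (v : ι → F) : ι → F := (Φ.g : Matrix ι ι F) *ᵥ fun i => Φ.σ (v i)

theorem Semi.fn_map (v : ι → F) : Q' (Φ.fn v) = (Φ.c : F) * Φ.σ (Q v) := Φ.h v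

theorem Semi.fn_surjective (v : ι → F) : ∃ u, Φ.fn u = v :=
  ⟨fun i => Φ.σ.symm (((Φ.g⁻¹ : GL ι F) : Matrix ι ι F).mulVec v i), by
    simp [Semi.fn, Matrix.mulVec_mulVec, ← Units.val_mul]⟩

theorem Semi.fn_ne_zero {v : ι → F} (hv : v ≠ 0) : Φ.fn v ≠ 0 := fun h => hv (funext fun i => by
  have := congrArg (((Φ.g⁻¹ : GL ι F) : Matrix ι ι F) *ᵥ ·) h
  simp only [Semi.fn, Matrix.mulVec_mulVec, ← Units.val_mul, inv_mul_cancel, Units.val_one,
    Matrix.one_mulVec, Matrix.mulVec_zero] at this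
  simpa using congrFun this i)

theorem Semi.fn_smul (t : F) (v : ι → F) : Φ.fn (t • v) = Φ.σ t • Φ.fn v := by
  rw [Semi.fn, Semi.fn, ← Matrix.mulVec_smul]
  congr 1
  funext i
  simp

theorem Semi.fn_add (v w : ι → F) : Φ.fn (v + w) = Φ.fn v + Φ.fn w := by
  rw [Semi.fn, Semi.fn, Semi.fn, ← Matrix.mulVec_add]
  congr 1
  funext i
  simp

/-- `A ↦ g σ(A) g⁻¹`. -/
def Semi.conjGL : GL ι F ≃* GL ι F := (fld Φ.σ).trans (MulAut.conj Φ.g)

theorem Semi.conjGL_apply (A : GL ι F) : Φ.conjGL A = Φ.g * fld Φ.σ A * Φ.g⁻¹ := rfl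

theorem Semi.conjGL_fn (A : GL ι F) (v : ι → F) :
    ((Φ.conjGL A : GL ι F) : Matrix ι ι F) *ᵥ Φ.fn v = Φ.fn ((A : Matrix ι ι F) *ᵥ v) := by
  rw [Semi.conjGL_apply, Semi.fn, Matrix.mulVec_mulVec, ← Units.val_mul, inv_mul_cancel_right,
    Units.val_mul, ← Matrix.mulVec_mulVec, fld_coe, map_mulVec']
  rfl

theorem Semi.conjGL_sim_iff (A : GL ι F) (μ : F) :
    (∀ v, Q' (((Φ.conjGL A : GL ι F) : Matrix ι ι F) *ᵥ v) = Φ.σ μ * Q' v) ↔
      ∀ v, Q ((A : Matrix ι ι F) *ᵥ v) = μ * Q v := by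
  constructor
  · intro h v
    have h1 := h (Φ.fn v)
    rw [Φ.conjGL_fn, Φ.fn_map, Φ.fn_map, mul_left_comm, ← map_mul] at h1
    exact Φ.σ.injective (mul_left_cancel₀ Φ.c.ne_zero h1)
  · intro h v
    obtain ⟨u, rfl⟩ := Φ.fn_surjective v
    rw [Φ.conjGL_fn, Φ.fn_map, h, Φ.fn_map, map_mul, mul_left_comm]

theorem Semi.mem_iso_iff (A : GL ι F) :
    Φ.conjGL A ∈ Cfsg.isometryGroup F ⇑Q' ↔ A ∈ Cfsg.isometryGroup F ⇑Q := by
  rw [mem_isometry_iff, mem_isometry_iff]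
  have h := Φ.conjGL_sim_iff A 1
  simpa only [map_one, one_mul] using h

theorem Semi.mem_GO_iff (A : GL ι F) : Φ.conjGL A ∈ GO Q' ↔ A ∈ GO Q := by
  constructor
  · rintro ⟨c, hc⟩
    refine ⟨Units.map Φ.σ.symm.toRingHom.toMonoidHom c, ?_⟩
    refine (Φ.conjGL_sim_iff A _).1 fun v => ?_
    rw [hc v]
    simp
  · rintro ⟨c, hc⟩
    exact ⟨Units.map Φ.σ.toRingHom.toMonoidHom c, (Φ.conjGL_sim_iff A _).2 hc⟩

/-- The isomorphism of similarity groups. -/
def semGO : GO Q ≃* GO Q' where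
  toFun A := ⟨Φ.conjGL A.1, (Φ.mem_GO_iff _).2 A.2⟩
  invFun A := ⟨Φ.conjGL.symm A.1, (Φ.mem_GO_iff _).1 (by rw [Φ.conjGL.apply_symm_apply]; exact A.2)⟩
  left_inv A := Subtype.ext (Φ.conjGL.symm_apply_apply _)
  right_inv A := Subtype.ext (Φ.conjGL.apply_symm_apply _)
  map_mul' A B := Subtype.ext (map_mul Φ.conjGL _ _)

theorem semGO_coe (A : GO Q) : ((semGO Φ A : GO Q') : GL ι F) = Φ.conjGL A := rfl

theorem muC_semGO {w : ι → F} (hw : Q' w ≠ 0) (A : GO Q) :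
    (muC (semGO Φ A) : F) = Φ.σ (muC A : F) :=
  muC_eq hw ((Φ.conjGL_sim_iff A.1 _).2 (muC_spec A))

theorem det_semGO (A : GO Q) : (mat (semGO Φ A)).det = Φ.σ (mat A).det := by
  show ((Φ.g * fld Φ.σ A.1 * Φ.g⁻¹ : GL ι F) : Matrix ι ι F).det = _
  rw [Units.val_mul, Units.val_mul, Matrix.det_mul_right_comm, ← Units.val_mul, mul_inv_cancel,
    Units.val_one, one_mul, fld_coe]
  exact (RingHom.map_det Φ.σ.toRingHom _).symm

theorem semGO_scal (a : Fˣ) :
    semGO Φ (scal Q a) = scal Q' (Units.map Φ.σ.toRingHom.toMonoidHom a) := by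
  refine go_ext fun v => ?_
  obtain ⟨u, rfl⟩ := Φ.fn_surjective v
  show ((Φ.conjGL (scal Q a).1 : GL ι F) : Matrix ι ι F) *ᵥ _ = _
  rw [Φ.conjGL_fn, show ((scal Q a).1 : Matrix ι ι F) *ᵥ u = mat (scal Q a) *ᵥ u from rfl,
    scal_mulVec, scal_mulVec, Φ.fn_smul]
  rfl

/-- The isomorphism of isometry groups. -/
def semIso : Cfsg.isometryGroup F ⇑Q ≃* Cfsg.isometryGroup F ⇑Q' where
  toFun A := ⟨Φ.conjGL A.1, (Φ.mem_iso_iff _).2 A.2⟩
  invFun A := ⟨Φ.conjGL.symm A.1, (Φ.mem_iso_iff _).1 (by rw [Φ.conjGL.apply_symm_apply]; exact A.2)⟩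
  left_inv A := Subtype.ext (Φ.conjGL.symm_apply_apply _)
  right_inv A := Subtype.ext (Φ.conjGL.apply_symm_apply _)
  map_mul' A B := Subtype.ext (map_mul Φ.conjGL _ _)

theorem semGO_ofIso (h : Cfsg.isometryGroup F ⇑Q) :
    semGO Φ (ofIso Q h) = ofIso Q' (semIso Φ h) := rfl

/-- An isomorphism restricted to the commutator subgroups. -/
def resCommE {G H : Type*} [Group G] [Group H] (e : G ≃* H) :
    ↥(commutator G) ≃* ↥(commutator H) :=
  (e.subgroupMap (commutator G)).trans (MulEquiv.subgroupCongr (by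
    rw [commutator_def, commutator_def, Subgroup.map_commutator,
      Subgroup.map_top_of_surjective _ e.surjective]))

theorem resCommE_coe {G H : Type*} [Group G] [Group H] (e : G ≃* H) (s : ↥(commutator G)) :
    (resCommE e s : H) = e s.1 := rfl

/-- An isomorphism on the quotients by the centres. -/
def descCE {A B : Type*} [Group A] [Group B] (e : A ≃* B) :
    A ⧸ Subgroup.center A ≃* B ⧸ Subgroup.center B :=
  QuotientGroup.congr _ _ e (by
    ext x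
    constructor
    · rintro ⟨a, ha, rfl⟩
      refine Subgroup.mem_center_iff.2 fun y => ?_
      obtain ⟨b, rfl⟩ := e.surjective y
      show e b * e a = e a * e b
      rw [← map_mul, ← map_mul, Subgroup.mem_center_iff.1 ha b]
    · intro hx
      refine ⟨e.symm x, Subgroup.mem_center_iff.2 fun b => e.injective ?_, e.apply_symm_apply x⟩
      rw [map_mul, map_mul, e.apply_symm_apply]
      exact Subgroup.mem_center_iff.1 hx (e b))

/-- The isomorphism of `PΩ` induced by a semisimilarity. -/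
def semP : Cfsg.POmega F ⇑Q ≃* Cfsg.POmega F ⇑Q' := descCE (resCommE (semIso Φ))

theorem semP_mk (s : Cfsg.Omega F ⇑Q) :
    semP Φ (QuotientGroup.mk s) = QuotientGroup.mk (resCommE (semIso Φ) s) := rfl

theorem semP_gAut (A : GO Q) (x : Cfsg.POmega F ⇑Q) :
    semP Φ (gAut Q A x) = gAut Q' (semGO Φ A) (semP Φ x) := by
  induction x using QuotientGroup.induction_on with | H s => ?_
  refine congrArg QuotientGroup.mk (Subtype.ext (Subtype.ext ?_))
  show Φ.conjGL ((A : GL ι F) * ((s.1 : Cfsg.isometryGroup F ⇑Q) : GL ι F) * (A : GL ι F)⁻¹) =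
    Φ.conjGL A * Φ.conjGL _ * (Φ.conjGL (A : GL ι F))⁻¹
  rw [map_mul, map_mul, map_inv]

theorem semP_trans_gAut (A : GO Q) :
    ((semP Φ).symm.trans (gAut Q A)).trans (semP Φ) = gAut Q' (semGO Φ A) := by
  refine MulEquiv.ext fun x => ?_
  show semP Φ (gAut Q A ((semP Φ).symm x)) = _
  rw [semP_gAut, MulEquiv.apply_symm_apply]

theorem mul_gAut (Φ : Semi Q Q) (A : GO Q) :
    (semP Φ : MulAut (Cfsg.POmega F ⇑Q)) * gAut Q A =
      gAut Q (semGO Φ A) * (semP Φ : MulAut (Cfsg.POmega F ⇑Q)) :=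
  MulEquiv.ext fun x => semP_gAut Φ A x

theorem semP_isInduced (Φ : Semi Q Q) :
    Cfsg.IsInducedBySemilinearPOmega ⇑Q Φ.g Φ.σ (semP Φ) := by
  intro s s' h
  rw [semP_mk]
  refine congrArg QuotientGroup.mk (Subtype.ext (Subtype.ext (Units.ext ?_)))
  exact h.symm

theorem eq_semP (Φ : Semi Q Q) (β : MulAut (Cfsg.POmega F ⇑Q))
    (h : Cfsg.IsInducedBySemilinearPOmega ⇑Q Φ.g Φ.σ β) : β = semP Φ := by
  refine MulEquiv.ext fun x => ?_
  induction x using QuotientGroup.induction_on with | H s => ?_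
  rw [semP_mk]
  exact h s _ rfl

/-! ### Field automorphisms -/

/-- `Q` commutes with `σ`. -/
def Rat (Q : QuadraticForm F (ι → F)) (σ : F ≃+* F) : Prop :=
  ∀ v : ι → F, Q (fun i => σ (v i)) = σ (Q v)

theorem Rat.one : Rat Q 1 := fun v => rfl

theorem Rat.mul {σ τ : F ≃+* F} (hs : Rat Q σ) (ht : Rat Q τ) : Rat Q (σ * τ) := fun v => by
  rw [RingAut.mul_apply, ← ht v, ← hs]
  rfl

theorem Rat.pow {σ : F ≃+* F} (hs : Rat Q σ) : ∀ i : ℕ, Rat Q (σ ^ i)
  | 0 => Rat.one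
  | i + 1 => by rw [pow_succ']; exact hs.mul (Rat.pow hs i)

variable {σ τ : F ≃+* F}

/-- The semisimilarity `v ↦ σ v`. -/
def fSemi (σ : F ≃+* F) (hσ : Rat Q σ) : Semi Q Q :=
  ⟨1, σ, 1, fun v => by rw [Units.val_one, Matrix.one_mulVec, Units.val_one, one_mul, hσ]⟩

/-- The standard field automorphism. -/
def fAut (σ : F ≃+* F) (hσ : Rat Q σ) : MulAut (Cfsg.POmega F ⇑Q) := semP (fSemi σ hσ)

/-- A field automorphism applied to a similarity. -/
def fGO (σ : F ≃+* F) (hσ : Rat Q σ) : GO Q ≃* GO Q := semGO (fSemi σ hσ)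

theorem fGO_coe (hσ : Rat Q σ) (A : GO Q) : ((fGO σ hσ A : GO Q) : GL ι F) = fld σ A := by
  rw [fGO, semGO_coe, Semi.conjGL_apply]
  show (1 : GL ι F) * fld σ A * 1⁻¹ = _
  rw [one_mul, inv_one, mul_one]

theorem mat_fGO (hσ : Rat Q σ) (A : GO Q) : mat (fGO σ hσ A) = (mat A).map σ := by
  show (((fGO σ hσ A : GO Q) : GL ι F) : Matrix ι ι F) = _
  rw [fGO_coe]
  rfl

theorem fAut_mul_gAut (hσ : Rat Q σ) (A : GO Q) :
    fAut σ hσ * gAut Q A = gAut Q (fGO σ hσ A) * fAut σ hσ := mul_gAut _ A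

theorem fAut_mul (hσ : Rat Q σ) (hτ : Rat Q τ) :
    fAut σ hσ * fAut τ hτ = fAut (σ * τ) (hσ.mul hτ) := by
  refine MulEquiv.ext fun x => ?_
  induction x using QuotientGroup.induction_on with | H s => ?_
  refine congrArg QuotientGroup.mk (Subtype.ext (Subtype.ext ?_))
  show 1 * fld σ (1 * fld τ _ * 1⁻¹) * 1⁻¹ = 1 * fld (σ * τ) _ * 1⁻¹
  simp only [one_mul, inv_one, mul_one]
  exact Units.ext (Matrix.ext fun _ _ => rfl)

theorem fAut_congr (h : σ = τ) (hσ : Rat Q σ) (hτ : Rat Q τ) : fAut σ hσ = fAut τ hτ := by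
  subst h
  rfl

theorem fAut_one : fAut (Q := Q) 1 Rat.one = 1 := by
  refine MulEquiv.ext fun x => ?_
  induction x using QuotientGroup.induction_on with | H s => ?_
  refine congrArg QuotientGroup.mk (Subtype.ext (Subtype.ext ?_))
  show 1 * fld 1 _ * 1⁻¹ = _
  simp only [one_mul, inv_one, mul_one]
  exact Units.ext (Matrix.ext fun _ _ => rfl)

theorem fAut_pow (hσ : Rat Q σ) : ∀ i : ℕ, fAut σ hσ ^ i = fAut (σ ^ i) (hσ.pow i)
  | 0 => by rw [pow_zero]; exact fAut_one.symm.trans (fAut_congr (pow_zero σ).symm _ _)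
  | i + 1 => by
    rw [pow_succ', fAut_pow hσ i, fAut_mul]
    exact fAut_congr (pow_succ' σ i).symm _ _

theorem fAut_iff (hσ : Rat Q σ) (β : MulAut (Cfsg.POmega F ⇑Q)) :
    Cfsg.IsFieldAutPOmegaOf ⇑Q σ β ↔ β = fAut σ hσ := by
  constructor
  · intro h
    refine eq_semP (fSemi σ hσ) β fun s s' hs => h s s' ?_
    rw [hs]
    show ((1 : GL ι F) : Matrix ι ι F) * _ * ((1⁻¹ : GL ι F) : Matrix ι ι F) = _
    rw [inv_one, Units.val_one, Matrix.one_mul, Matrix.mul_one]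
    rfl
  · rintro rfl s s' hs
    refine semP_isInduced (fSemi σ hσ) s s' ?_
    rw [hs]
    show _ = ((1 : GL ι F) : Matrix ι ι F) * _ * ((1⁻¹ : GL ι F) : Matrix ι ι F)
    rw [inv_one, Units.val_one, Matrix.one_mul, Matrix.mul_one]
    rfl

/-- `A σ(A) … σ^{i-1}(A)`. -/
def tw (σ : F ≃+* F) (hσ : Rat Q σ) (A : GO Q) : ℕ → GO Q
  | 0 => 1
  | i + 1 => A * fGO σ hσ (tw σ hσ A i)

theorem pow_gAut_fAut (hσ : Rat Q σ) (A : GO Q) :
    ∀ i : ℕ, (gAut Q A * fAut σ hσ) ^ i = gAut Q (tw σ hσ A i) * fAut σ hσ ^ i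
  | 0 => by rw [pow_zero, pow_zero, tw, map_one, one_mul]
  | i + 1 => by
    rw [pow_succ', pow_gAut_fAut hσ A i, tw, map_mul, pow_succ', mul_assoc, mul_assoc,
      ← mul_assoc (fAut σ hσ), fAut_mul_gAut, mul_assoc]

/-! ### Faithfulness -/

variable [Fintype F] (hQ : (QuadraticMap.polarBilin Q).Nondegenerate) (f : Frame Q)
  (hn : 5 ≤ Fintype.card ι)

include hQ f hn

theorem semP_eq_one (Φ : Semi Q Q) (h : (semP Φ : MulAut (Cfsg.POmega F ⇑Q)) = 1) :
    Φ.σ = 1 ∧ ∃ a : Fˣ, ∀ v, (Φ.g : Matrix ι ι F) *ᵥ v = (a : F) • v := by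
  have hline : ∀ (a : ι → F), a ≠ 0 → Q a = 0 → ∃ c : F, Φ.fn a = c • a := by
    intro a ha hqa
    have hqf : Q (Φ.fn a) = 0 := by rw [Φ.fn_map, hqa, map_zero, mul_zero]
    by_contra hne
    push Not at hne
    have hne' : spt a ha hqa ≠ spt (Φ.fn a) (Φ.fn_ne_zero ha) hqf := fun h' => by
      obtain ⟨c, hc⟩ := spt_eq.1 h'.symm
      exact hne c hc.symm
    obtain ⟨k, hk1, hk2⟩ := exists_moving hQ f hn hne'
    apply hk2
    have h1 := DFunLike.congr_fun h (QuotientGroup.mk k)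
    rw [semP_mk, MulAut.one_apply] at h1
    have hz := QuotientGroup.eq.1 h1
    set k' := resCommE (semIso Φ) k
    have hfix : k' • spt (Φ.fn a) (Φ.fn_ne_zero ha) hqf = spt (Φ.fn a) (Φ.fn_ne_zero ha) hqf := by
      rw [smul_spt] at hk1 ⊢
      obtain ⟨c, hc⟩ := spt_eq.1 hk1
      refine spt_eq.2 ⟨Φ.σ c, ?_⟩
      rw [← Φ.fn_smul, hc, act_apply, act_apply]
      exact (Φ.conjGL_fn _ _).symm
    calc k • spt (Φ.fn a) (Φ.fn_ne_zero ha) hqf
        = (k' * (k'⁻¹ * k)) • spt (Φ.fn a) (Φ.fn_ne_zero ha) hqf := by rw [mul_inv_cancel_left]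
      _ = _ := by rw [mul_smul, fixes_of_central hQ f hn hz, hfix]
  have hne0 : ∀ {a : ι → F} {c : F}, a ≠ 0 → Φ.fn a = c • a → c ≠ 0 := fun ha he h0 =>
    Φ.fn_ne_zero ha (by rw [he, h0, zero_smul])
  obtain ⟨a, ha⟩ := hline f.u f.p.ne_zero.1 f.p.hu
  obtain ⟨b, hb⟩ := hline f.u' f.p'.ne_zero.1 f.p'.hu
  have hcoef : ∀ {s t : F}, s • f.u + t • f.u' = 0 → s = 0 ∧ t = 0 := fun {s t} h0 => by
    have h1 := congrArg (fun x => QuadraticMap.polar Q x f.v) h0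
    have h2 := congrArg (fun x => QuadraticMap.polar Q x f.v') h0
    simp only [QuadraticMap.polar_add_left, QuadraticMap.polar_smul_left, f.p.huv, f.uv', f.p'.huv,
      QuadraticMap.polar_comm _ f.u' f.v, f.vu', smul_eq_mul, mul_zero, mul_one, zero_add,
      add_zero] at h1 h2
    have hz : ∀ y : ι → F, QuadraticMap.polar Q 0 y = 0 := fun y => by simp [QuadraticMap.polar]
    rw [hz] at h1 h2
    exact ⟨h1, h2⟩
  have key : ∀ t : F, a = b ∧ Φ.σ t * b = a * t := by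
    intro t
    have hs : Q (f.u + t • f.u') = 0 := by
      rw [map_add', Orth.map_smul', f.p.hu, f.p'.hu, QuadraticMap.polar_smul_right, f.uu']
      simp
    have h0 : f.u + t • f.u' ≠ 0 := fun h0 =>
      one_ne_zero (hcoef (s := 1) (t := t) (by rw [one_smul]; exact h0)).1
    obtain ⟨c, hc⟩ := hline _ h0 hs
    rw [Φ.fn_add, Φ.fn_smul, ha, hb] at hc
    have e := hcoef (s := a - c) (t := Φ.σ t * b - c * t) (by
      linear_combination (norm := module) hc)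
    refine ⟨?_, by linear_combination e.2 - t * e.1⟩
    obtain ⟨c', hc'⟩ := hline (f.u + (1 : F) • f.u') (fun h0 => one_ne_zero
        (hcoef (s := 1) (t := 1) (by rw [one_smul] at h0 ⊢; rw [one_smul]; exact h0)).1)
      (by rw [map_add', Orth.map_smul', f.p.hu, f.p'.hu, QuadraticMap.polar_smul_right, f.uu']; simp)
    rw [Φ.fn_add, Φ.fn_smul, ha, hb, map_one, one_smul] at hc'
    have e' := hcoef (s := a - c') (t := b - c') (by linear_combination (norm := module) hc')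
    linear_combination e'.1 - e'.2
  have hσ : Φ.σ = 1 := RingEquiv.ext fun t => by
    obtain ⟨h1, h2⟩ := key t
    rw [← h1, mul_comm a t] at h2
    exact mul_right_cancel₀ (hne0 f.p.ne_zero.1 ha) h2
  refine ⟨hσ, ?_⟩
  have hg : ∀ v, (Φ.g : Matrix ι ι F) *ᵥ v = Φ.fn v := fun v => by
    rw [Semi.fn, hσ]
    rfl
  set G : GO Q := ⟨Φ.g, Φ.c, fun v => by
    rw [hg, Φ.fn_map, hσ]
    rfl⟩ with hG
  obtain ⟨l, hl⟩ := scalar_of_fixes' hQ f G fun a ha hqa => by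
    show ∃ c : F, (Φ.g : Matrix ι ι F) *ᵥ a = c • a
    rw [hg]
    exact hline a ha hqa
  exact ⟨l, fun v => by
    show mat G *ᵥ v = _
    rw [hl, scal_mulVec]⟩

theorem gAut_mul_fAut_eq_one (hσ : Rat Q σ) {A : GO Q} (h : gAut Q A * fAut σ hσ = 1) :
    σ = 1 ∧ ∃ a : Fˣ, A = scal Q a := by
  let Φ : Semi Q Q := ⟨A.1, σ, muC A, fun v => by rw [← hσ]; exact muC_spec A _⟩
  have hΦ : (semP Φ : MulAut (Cfsg.POmega F ⇑Q)) = gAut Q A * fAut σ hσ := by
    refine MulEquiv.ext fun x => ?_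
    induction x using QuotientGroup.induction_on with | H s => ?_
    refine congrArg QuotientGroup.mk (Subtype.ext (Subtype.ext ?_))
    show (A : GL ι F) * fld σ _ * (A : GL ι F)⁻¹ = (A : GL ι F) * (1 * fld σ _ * 1⁻¹) * (A : GL ι F)⁻¹
    rw [one_mul, inv_one, mul_one]
  obtain ⟨h1, a, ha⟩ := semP_eq_one hQ f hn Φ (hΦ.trans h)
  exact ⟨h1, a, go_ext fun v => by rw [scal_mulVec]; exact ha v⟩

theorem orderOf_fAut (hσ : Rat Q σ) : orderOf (fAut σ hσ) = orderOf σ := by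
  refine orderOf_eq_orderOf_iff.2 fun i => ?_
  rw [fAut_pow]
  constructor
  · intro h
    exact (gAut_mul_fAut_eq_one hQ f hn (hσ.pow i) (A := 1) (by rw [map_one, one_mul, h])).1
  · intro h
    exact (fAut_congr h _ Rat.one).trans fAut_one

end Cfsg.Agent.AutPOmega
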