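import Cfsg.Agent.Lib.AutPOmega.Out
import Cfsg.Agent.Lib.AutPOmega.Semi

/-!
# The class character of similarities in even dimension, any characteristic
-/

set_option autoImplicit false
set_option linter.unusedSectionVars false
set_option linter.unusedVariables false

namespace Cfsg.Agent.AutPOmega

open Matrix Cfsg.Agent.Forms Cfsg.Agent.Forms.QuadStd Cfsg.Agent.Forms.Reflections
open Cfsg.Agent.Classical Cfsg.Agent.Classical.Orth Cfsg.Agent.Classical.OmegaCrit

universe u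

variable {F : Type u} [Field F] [Fintype F] {ι : Type} [Fintype ι] [DecidableEq ι]
variable {Q Q' : QuadraticForm F (ι → F)} {M : ℕ}

/-- The standing hypotheses in even dimension, any characteristic. -/
structure EvenSetup (Q : QuadraticForm F (ι → F)) (M : ℕ) where
  hQ : (QuadraticMap.polarBilin Q).Nondegenerate
  fr : Frame Q
  hn : 6 ≤ Fintype.card ι
  hM : Fintype.card ι = 2 * M
  hD : (2 : F) ≠ 0 → ∀ c : Fˣ, ∃ d : GO Q, muC d = c ∧ (mat d).det = (c : F) ^ M

/-- The similarity preserves the two classes. -/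
def IsPos (M : ℕ) (g : GO Q) : Prop :=
  ((2 : F) ≠ 0 ∧ (mat g).det = (muC g : F) ^ M) ∨
    ((2 : F) = 0 ∧ ∃ (a : Fˣ) (h : Cfsg.isometryGroup F ⇑Q), g = scal Q a * ofIso Q h ∧ par h = 1)

open scoped _root_.Classical in
/-- The class sign. -/
noncomputable def clsF (M : ℕ) (g : GO Q) : ℤˣ := if IsPos M g then 1 else -1

theorem unit_eq_of_iff {a b : ℤˣ} (h : a = 1 ↔ b = 1) : a = b := by
  rcases Int.units_eq_one_or a with rfl | rfl <;> rcases Int.units_eq_one_or b with rfl | rfl <;>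
    first
      | rfl
      | exact absurd (h.1 rfl) (by decide)
      | exact absurd (h.2 rfl) (by decide)

theorem clsF_eq_one_iff (g : GO Q) : clsF M g = 1 ↔ IsPos M g := by
  classical
  rw [clsF]
  split_ifs with h
  · simp [h]
  · exact iff_of_false (by decide) h

namespace EvenSetup

variable (E : EvenSetup Q M)

include E

theorem hn5 : 5 ≤ Fintype.card ι := by have := E.hn; omega

theorem hq : Fintype.card F ≠ 2 ∨ Fintype.card ι ≠ 4 := Or.inr (by have := E.hn; omega)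

/-- The odd characteristic data. -/
def toSetup (h2 : (2 : F) ≠ 0) : Setup Q M := ⟨h2, E.hQ, E.fr, E.hn5, E.hM, E.hD h2⟩

theorem muC_scal (a : Fˣ) : muC (scal Q a) = a * a :=
  Units.ext (muC_eq E.fr.hx fun v => by
    rw [scal_mulVec, QuadraticMap.map_smul, Units.val_mul, smul_eq_mul])

theorem muC_ofIso (h : Cfsg.isometryGroup F ⇑Q) : muC (ofIso Q h) = 1 :=
  Units.ext (muC_eq E.fr.hx fun v => by
    rw [ofIso_mulVec, act_map, Units.val_one, one_mul])

theorem muC_mul (g h : GO Q) : muC (g * h) = muC g * muC h :=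
  Units.ext (muC_eq E.fr.hx fun v => by
    rw [mat_mul, ← Matrix.mulVec_mulVec, muC_spec, muC_spec, Units.val_mul, mul_assoc])

theorem exists_decomp (h2 : (2 : F) = 0) (g : GO Q) :
    ∃ (a : Fˣ) (h : Cfsg.isometryGroup F ⇑Q), g = scal Q a * ofIso Q h := by
  have : CharP F 2 := CharTwo.of_one_ne_zero_of_two_eq_zero one_ne_zero h2
  obtain ⟨r, hr⟩ := FiniteField.isSquare_of_char_two (ringChar.eq F 2) (muC g : F)
  have hr0 : r ≠ 0 := fun h0 => (muC g).ne_zero (by rw [hr, h0, mul_zero])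
  have h1 : ∀ v, Q (mat ((scal Q (Units.mk0 r hr0))⁻¹ * g) *ᵥ v) = Q v := fun v => by
    have e : muC ((scal Q (Units.mk0 r hr0))⁻¹ * g) = 1 := by
      have e1 := E.muC_mul (scal Q (Units.mk0 r hr0)) ((scal Q (Units.mk0 r hr0))⁻¹ * g)
      rw [mul_inv_cancel_left, E.muC_scal,
        show muC g = Units.mk0 r hr0 * Units.mk0 r hr0 from Units.ext hr] at e1
      exact left_eq_mul.1 e1
    rw [muC_spec, e, Units.val_one, one_mul]
  exact ⟨_, toIso _ h1, by rw [ofIso_toIso, mul_inv_cancel_left]⟩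

theorem decomp_unique (h2 : (2 : F) = 0) {a a' : Fˣ} {h h' : Cfsg.isometryGroup F ⇑Q}
    (e : scal Q a * ofIso Q h = scal Q a' * ofIso Q h') : a = a' ∧ h = h' := by
  have e1 := congrArg muC e
  rw [E.muC_mul, E.muC_mul, E.muC_scal, E.muC_scal, E.muC_ofIso, E.muC_ofIso, mul_one, mul_one] at e1
  have ha : a = a' := by
    refine Units.ext ?_
    have e2 : (a : F) * a = (a' : F) * a' := congrArg Units.val e1
    have e3 : ((a : F) - a') * ((a : F) - a') = 0 := by
      linear_combination e2 - ((a : F) * a' - (a' : F) * a') * h2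
    exact sub_eq_zero.1 (mul_self_eq_zero.1 e3)
  subst ha
  exact ⟨rfl, ofIso_injective (mul_left_cancel e)⟩

theorem clsF_decomp (h2 : (2 : F) = 0) (a : Fˣ) (h : Cfsg.isometryGroup F ⇑Q) :
    clsF M (scal Q a * ofIso Q h) = par h := by
  refine unit_eq_of_iff ((clsF_eq_one_iff _).trans ?_)
  constructor
  · rintro (⟨h', -⟩ | ⟨-, a', h', he, hp⟩)
    · exact absurd h2 h'
    · rw [(E.decomp_unique h2 he).2, hp]
  · exact fun hp => Or.inr ⟨h2, a, h, rfl, hp⟩

theorem clsF_odd (h2 : (2 : F) ≠ 0) (g : GO Q) : clsF M g = (E.toSetup h2).dsgH g := by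
  refine unit_eq_of_iff ((clsF_eq_one_iff _).trans ?_)
  rw [(E.toSetup h2).dsgH_eq_one_iff]
  exact ⟨fun h => h.elim (fun h => h.2) (fun h => absurd h.1 h2), fun h => Or.inl ⟨h2, h⟩⟩

/-- The class character. -/
noncomputable def cls : GO Q →* ℤˣ :=
  MonoidHom.mk' (clsF M) fun g g' => by
    by_cases h2 : (2 : F) = 0
    · obtain ⟨a, h, rfl⟩ := E.exists_decomp h2 g
      obtain ⟨a', h', rfl⟩ := E.exists_decomp h2 g'
      rw [mul_assoc, ← mul_assoc (ofIso Q h), ← scal_comm, mul_assoc (scal Q a'), ← mul_assoc,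
        ← scal_mul, ← map_mul, E.clsF_decomp h2, E.clsF_decomp h2, E.clsF_decomp h2,
        par_mul_all E.hQ E.hq]
    · rw [E.clsF_odd h2, E.clsF_odd h2, E.clsF_odd h2, map_mul]

theorem cls_apply (g : GO Q) : E.cls g = clsF M g := rfl

theorem cls_eq_one_iff (g : GO Q) : E.cls g = 1 ↔ IsPos M g := clsF_eq_one_iff g

theorem cls_ofIso (h : Cfsg.isometryGroup F ⇑Q) : E.cls (ofIso Q h) = par h := by
  rw [cls_apply]
  by_cases h2 : (2 : F) = 0
  · rw [← E.clsF_decomp h2 1 h, scal_one, one_mul]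
  · rw [E.clsF_odd h2, (E.toSetup h2).dsgH_ofIso]

theorem cls_scal (a : Fˣ) : E.cls (scal Q a) = 1 := by
  rw [cls_apply]
  by_cases h2 : (2 : F) = 0
  · rw [show scal Q a = scal Q a * ofIso Q 1 by rw [map_one, mul_one], E.clsF_decomp h2]
    exact par_one
  · rw [E.clsF_odd h2, (E.toSetup h2).dsgH_scal]

theorem cls_reflect {v : ι → F} (hv : Q v ≠ 0) : E.cls (ofIso Q (reflect Q v)) = -1 := by
  rw [E.cls_ofIso]
  have h := par_reflect_mul E.hQ hv (1 : Cfsg.isometryGroup F ⇑Q)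
  rwa [mul_one, par_one] at h

end EvenSetup

/-- A semisimilarity preserves the parity. -/
theorem par_semIso (Φ : Semi Q Q') (h : Cfsg.isometryGroup F ⇑Q) : par (semIso Φ h) = par h := by
  have hmem : ∀ v, Φ.fn v ∈ fixSp (semIso Φ h) ↔ v ∈ fixSp h := fun v => by
    rw [mem_fixSp, mem_fixSp, act_apply, act_apply]
    show ((Φ.conjGL h.1 : GL ι F) : Matrix ι ι F) *ᵥ Φ.fn v = _ ↔ _
    rw [Φ.conjGL_fn]
    constructor
    · intro e
      by_contra hne
      refine Φ.fn_ne_zero (sub_ne_zero.2 hne) ?_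
      rw [sub_eq_add_neg, Φ.fn_add, ← neg_one_smul F v, Φ.fn_smul, map_neg, map_one, e]
      module
    · intro e
      rw [e]
  let e : ↥(fixSp h) → ↥(fixSp (semIso Φ h)) := fun v => ⟨Φ.fn v.1, (hmem _).2 v.2⟩
  have he : Function.Bijective e := by
    refine ⟨fun v w hvw => ?_, fun w => ?_⟩
    · by_contra hne
      refine Φ.fn_ne_zero (v := v.1 - w.1) (sub_ne_zero.2 fun h' => hne (Subtype.ext h')) ?_
      rw [sub_eq_add_neg, Φ.fn_add, ← neg_one_smul F w.1, Φ.fn_smul, map_neg, map_one,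
        show Φ.fn v.1 = Φ.fn w.1 from congrArg Subtype.val hvw]
      module
    · obtain ⟨v, hv⟩ := Φ.fn_surjective w.1
      exact ⟨⟨v, (hmem v).1 (by rw [hv]; exact w.2)⟩, Subtype.ext hv⟩
  have hc := Nat.card_congr (Equiv.ofBijective e he)
  rw [Module.natCard_eq_pow_finrank (K := F) (V := ↥(fixSp h)),
    Module.natCard_eq_pow_finrank (K := F) (V := ↥(fixSp (semIso Φ h)))] at hc
  have hd := Nat.pow_right_injective (Finite.one_lt_card (α := F)) hc
  rw [par, par, hd]

/-- A semisimilarity preserves the class character. -/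
theorem clsF_semGO (E : EvenSetup Q M) (E' : EvenSetup Q' M) (Φ : Semi Q Q') (g : GO Q) :
    E'.cls (semGO Φ g) = E.cls g := by
  rw [E'.cls_apply, E.cls_apply]
  by_cases h2 : (2 : F) = 0
  · obtain ⟨a, h, rfl⟩ := E.exists_decomp h2 g
    rw [E.clsF_decomp h2, map_mul, semGO_scal, semGO_ofIso, E'.clsF_decomp h2, par_semIso]
  · refine unit_eq_of_iff ?_
    rw [E.clsF_odd h2, E'.clsF_odd h2, (E.toSetup h2).dsgH_eq_one_iff,
      (E'.toSetup h2).dsgH_eq_one_iff, det_semGO, muC_semGO Φ E'.fr.hx, ← map_pow]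
    exact Φ.σ.injective.eq_iff

/-- The class preserving similarities give a normal image, stable under all semisimilarities. -/
theorem map_cls_conj (E : EvenSetup Q M) (Φ : Semi Q Q) {δ : MulAut (Cfsg.POmega F ⇑Q)}
    (hδ : δ ∈ E.cls.ker.map (gAut Q)) :
    (semP Φ : MulAut (Cfsg.POmega F ⇑Q)) * δ * (semP Φ : MulAut (Cfsg.POmega F ⇑Q))⁻¹ ∈
      E.cls.ker.map (gAut Q) := by
  obtain ⟨g, hg, rfl⟩ := hδ
  refine ⟨semGO Φ g, ?_, ?_⟩
  · rw [SetLike.mem_coe, MonoidHom.mem_ker, clsF_semGO E E, MonoidHom.mem_ker.1 hg]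
  · rw [mul_gAut, mul_inv_cancel_right]

end Cfsg.Agent.AutPOmega
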