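import Cfsg.Agent.Lib.AutPOmega.InnDiag

/-!
# Composition of semisimilarities and the induced action on points

A semisimilarity is determined by the automorphism of `PΩ` it induces up to a scalar, so the
automorphism group acts on the points.
-/

set_option autoImplicit false
set_option linter.unusedSectionVars false
set_option linter.unusedVariables false

namespace Cfsg.Agent.AutPOmega

open Matrix Cfsg.Agent.Forms Cfsg.Agent.Forms.QuadStd Cfsg.Agent.Classical Cfsg.Agent.Classical.Orth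

universe u

variable {F : Type u} [Field F] {ι : Type} [Fintype ι] [DecidableEq ι]
variable {Q Q' Q'' : QuadraticForm F (ι → F)}

/-- The identity. -/
def Semi.id (Q : QuadraticForm F (ι → F)) : Semi Q Q :=
  ⟨1, 1, 1, fun v => by rw [Units.val_one, Matrix.one_mulVec, Units.val_one, one_mul]; rfl⟩

/-- The composite. -/
def Semi.comp (Φ : Semi Q' Q'') (Ψ : Semi Q Q') : Semi Q Q'' where
  g := Φ.g * fld Φ.σ Ψ.g
  σ := Φ.σ * Ψ.σ
  c := Φ.c * Units.map Φ.σ.toRingHom.toMonoidHom Ψ.c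
  h v := by
    have e := Φ.h (Ψ.fn v)
    rw [Ψ.fn_map] at e
    rw [Units.val_mul, ← Matrix.mulVec_mulVec, fld_coe]
    have e2 : (fun i => (Φ.σ * Ψ.σ) (v i)) = fun i => Φ.σ ((fun j => Ψ.σ (v j)) i) := rfl
    rw [e2, map_mulVec']
    refine e.trans ?_
    rw [map_mul, Units.val_mul, RingAut.mul_apply, mul_assoc]
    rfl

theorem Semi.comp_fn (Φ : Semi Q' Q'') (Ψ : Semi Q Q') (v : ι → F) :
    (Φ.comp Ψ).fn v = Φ.fn (Ψ.fn v) := by
  show ((Φ.g * fld Φ.σ Ψ.g : GL ι F) : Matrix ι ι F) *ᵥ _ = _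
  rw [Units.val_mul, ← Matrix.mulVec_mulVec, fld_coe,
    show (fun i => (Φ.comp Ψ).σ (v i)) = fun i => Φ.σ ((fun j => Ψ.σ (v j)) i) from rfl, map_mulVec']
  rfl

theorem Semi.comp_conjGL (Φ : Semi Q' Q'') (Ψ : Semi Q Q') (A : GL ι F) :
    (Φ.comp Ψ).conjGL A = Φ.conjGL (Ψ.conjGL A) := by
  rw [Semi.conjGL_apply, Semi.conjGL_apply, Semi.conjGL_apply, map_mul, map_mul, map_inv]
  show Φ.g * fld Φ.σ Ψ.g * fld (Φ.σ * Ψ.σ) A * (Φ.g * fld Φ.σ Ψ.g)⁻¹ = _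
  rw [show fld (Φ.σ * Ψ.σ) A = fld Φ.σ (fld Ψ.σ A) from Units.ext (Matrix.ext fun _ _ => rfl),
    _root_.mul_inv_rev]
  simp only [mul_assoc]

theorem semP_comp (Φ : Semi Q' Q'') (Ψ : Semi Q Q') :
    semP (Φ.comp Ψ) = (semP Ψ).trans (semP Φ) := by
  refine MulEquiv.ext fun x => ?_
  induction x using QuotientGroup.induction_on with | H s => ?_
  refine congrArg QuotientGroup.mk (Subtype.ext (Subtype.ext ?_))
  exact Φ.comp_conjGL Ψ _

theorem semP_mul (Φ Ψ : Semi Q Q) :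
    (semP (Φ.comp Ψ) : MulAut (Cfsg.POmega F ⇑Q)) =
      (semP Φ : MulAut (Cfsg.POmega F ⇑Q)) * semP Ψ := semP_comp Φ Ψ

theorem semP_id : (semP (Semi.id Q) : MulAut (Cfsg.POmega F ⇑Q)) = 1 := by
  refine MulEquiv.ext fun x => ?_
  induction x using QuotientGroup.induction_on with | H s => ?_
  refine congrArg QuotientGroup.mk (Subtype.ext (Subtype.ext (Units.ext ?_)))
  show ((1 * fld 1 _ * 1⁻¹ : GL ι F) : Matrix ι ι F) = _
  rw [one_mul, inv_one, mul_one]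
  rfl

theorem Semi.id_fn (v : ι → F) : (Semi.id Q).fn v = v := by
  show ((1 : GL ι F) : Matrix ι ι F) *ᵥ _ = v
  rw [Units.val_one, Matrix.one_mulVec]
  rfl

/-- The inverse. -/
def Semi.inv (Φ : Semi Q Q') : Semi Q' Q where
  g := fld Φ.σ.symm Φ.g⁻¹
  σ := Φ.σ.symm
  c := Units.map Φ.σ.symm.toRingHom.toMonoidHom Φ.c⁻¹
  h v := by
    obtain ⟨u, rfl⟩ := Φ.fn_surjective v
    rw [fld_coe, map_mulVec', Semi.fn, Matrix.mulVec_mulVec, Units.inv_mul, Matrix.one_mulVec,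
      show (fun i => Φ.σ.symm (Φ.σ (u i))) = u from funext fun i => Φ.σ.symm_apply_apply _]
    show _ = Φ.σ.symm ((Φ.c⁻¹ : Fˣ) : F) * Φ.σ.symm (Q' (Φ.fn u))
    rw [Φ.fn_map, ← map_mul, ← mul_assoc, Units.inv_mul, one_mul, RingEquiv.symm_apply_apply]

theorem Semi.inv_fn (Φ : Semi Q Q') (v : ι → F) : Φ.inv.fn (Φ.fn v) = v := by
  show ((fld Φ.σ.symm Φ.g⁻¹ : GL ι F) : Matrix ι ι F) *ᵥ (fun i => Φ.σ.symm (Φ.fn v i)) = v
  rw [fld_coe, map_mulVec', Semi.fn, Matrix.mulVec_mulVec, Units.inv_mul, Matrix.one_mulVec]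
  exact funext fun i => Φ.σ.symm_apply_apply _

theorem Semi.fn_inv (Φ : Semi Q Q') (v : ι → F) : Φ.fn (Φ.inv.fn v) = v := by
  obtain ⟨u, rfl⟩ := Φ.fn_surjective v
  rw [Φ.inv_fn]

theorem semP_inv (Φ : Semi Q Q') : semP Φ.inv = (semP Φ).symm := by
  refine MulEquiv.ext fun x => ?_
  obtain ⟨y, rfl⟩ := (semP Φ).surjective x
  rw [MulEquiv.symm_apply_apply, ← MulEquiv.trans_apply, ← semP_comp]
  induction y using QuotientGroup.induction_on with | H s => ?_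
  refine congrArg QuotientGroup.mk (Subtype.ext (Subtype.ext ?_))
  show (Φ.inv.comp Φ).conjGL _ = _
  refine Units.ext (Matrix.ext_iff_mulVec.2 fun v => ?_)
  obtain ⟨u, rfl⟩ := (Φ.inv.comp Φ).fn_surjective v
  rw [(Φ.inv.comp Φ).conjGL_fn, Semi.comp_fn, Semi.comp_fn, Φ.inv_fn, Φ.inv_fn]

/-- A similarity as a semisimilarity. -/
noncomputable def gSemi (G : GO Q) : Semi Q Q := ⟨G.1, 1, muC G, fun v => muC_spec G v⟩

theorem gSemi_fn (G : GO Q) (v : ι → F) : (gSemi G).fn v = mat G *ᵥ v := rfl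

theorem semP_gSemi (G : GO Q) : (semP (gSemi G) : MulAut (Cfsg.POmega F ⇑Q)) = gAut Q G := by
  refine MulEquiv.ext fun x => ?_
  induction x using QuotientGroup.induction_on with | H s => ?_
  refine congrArg QuotientGroup.mk (Subtype.ext (Subtype.ext ?_))
  show (G : GL ι F) * fld 1 _ * (G : GL ι F)⁻¹ = (G : GL ι F) * _ * (G : GL ι F)⁻¹
  congr 2

/-- Iterates. -/
def Semi.pow (Φ : Semi Q Q) : ℕ → Semi Q Q
  | 0 => Semi.id Q
  | i + 1 => Φ.comp (Φ.pow i)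

theorem semP_pow (Φ : Semi Q Q) :
    ∀ i, (semP (Φ.pow i) : MulAut (Cfsg.POmega F ⇑Q)) = (semP Φ : MulAut (Cfsg.POmega F ⇑Q)) ^ i
  | 0 => semP_id
  | i + 1 => by rw [Semi.pow, semP_mul, semP_pow Φ i, pow_succ']

theorem Semi.pow_fn (Φ : Semi Q Q) : ∀ i v, (Φ.pow i).fn v = Φ.fn^[i] v
  | 0, v => Semi.id_fn v
  | i + 1, v => by rw [Semi.pow, Semi.comp_fn, Φ.pow_fn i v, Function.iterate_succ_apply']

theorem Semi.pow_sigma (Φ : Semi Q Q) : ∀ i, (Φ.pow i).σ = Φ.σ ^ i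
  | 0 => rfl
  | i + 1 => by show Φ.σ * (Φ.pow i).σ = _; rw [Φ.pow_sigma i, pow_succ']

section faithful

variable [Fintype F] (hQ : (QuadraticMap.polarBilin Q).Nondegenerate) (f : Frame Q)
  (hn : 5 ≤ Fintype.card ι)

include hQ f hn

/-- Semisimilarities inducing the same automorphism are proportional. -/
theorem semP_prop {Φ Ψ : Semi Q Q}
    (h : (semP Φ : MulAut (Cfsg.POmega F ⇑Q)) = semP Ψ) :
    Φ.σ = Ψ.σ ∧ ∃ a : Fˣ, ∀ v, Φ.fn v = (a : F) • Ψ.fn v := by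
  have h1 : (semP (Ψ.inv.comp Φ) : MulAut (Cfsg.POmega F ⇑Q)) = 1 := by
    rw [semP_mul, semP_inv, h]
    exact inv_mul_cancel _
  obtain ⟨hσ, b, hb⟩ := semP_eq_one hQ f hn _ h1
  have hσ' : Φ.σ = Ψ.σ := by
    refine RingEquiv.ext fun x => Ψ.σ.symm.injective ?_
    rw [RingEquiv.symm_apply_apply]
    exact DFunLike.congr_fun hσ x
  refine ⟨hσ', Units.map Ψ.σ.toRingHom.toMonoidHom b, fun v => ?_⟩
  have e : (Ψ.inv.comp Φ).fn v = (b : F) • v := by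
    rw [Semi.fn, hσ]
    exact hb v
  rw [Semi.comp_fn] at e
  rw [← Ψ.fn_inv (Φ.fn v), e, Ψ.fn_smul]
  rfl

/-- Semisimilarities whose images multiply compose up to a scalar. -/
theorem semP_prop_mul {Φ Φ' Φ'' : Semi Q Q}
    (h : (semP Φ'' : MulAut (Cfsg.POmega F ⇑Q)) = (semP Φ : MulAut (Cfsg.POmega F ⇑Q)) * semP Φ') :
    Φ''.σ = Φ.σ * Φ'.σ ∧ ∃ a : Fˣ, ∀ v, Φ''.fn v = (a : F) • Φ.fn (Φ'.fn v) := by
  obtain ⟨h1, a, ha⟩ := semP_prop hQ f hn (h.trans (semP_mul Φ Φ').symm)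
  exact ⟨h1, a, fun v => by rw [ha, Semi.comp_fn]⟩

/-- An automorphism commuting with a similarity. -/
theorem fn_comm {Φ : Semi Q Q} {H : GO Q}
    (h : (semP Φ : MulAut (Cfsg.POmega F ⇑Q)) * gAut Q H = gAut Q H * semP Φ) :
    ∃ e : Fˣ, ∀ v, Φ.fn (mat H *ᵥ v) = (e : F) • (mat H *ᵥ Φ.fn v) := by
  rw [mul_gAut, mul_left_inj] at h
  have h1 : gAut Q (semGO Φ H * H⁻¹) = 1 := by rw [map_mul, h, map_inv, mul_inv_cancel]
  obtain ⟨e, he⟩ := (gAut_eq_one_iff hQ f hn _).1 h1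
  refine ⟨e, fun v => ?_⟩
  rw [mul_inv_eq_iff_eq_mul] at he
  have e1 : Φ.fn (mat H *ᵥ v) = mat (semGO Φ H) *ᵥ Φ.fn v := (Φ.conjGL_fn _ _).symm
  rw [e1, he, mat_mul, ← Matrix.mulVec_mulVec, scal_mulVec]

end faithful

end Cfsg.Agent.AutPOmega
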