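import Cfsg.Agent.Lib.AutPOmega.Conj

/-!
# Types of the descended forms and conjugacy in a coset of the class preserving similarities
-/

set_option autoImplicit false
set_option linter.unusedSectionVars false
set_option linter.unusedVariables false

namespace Cfsg.Agent.AutPOmega

open Matrix Cfsg.Agent.Forms Cfsg.Agent.Forms.QuadStd Cfsg.Agent.Forms.Reflections
open Cfsg.Agent.Forms.PlusStd Cfsg.Agent.Classical Cfsg.Agent.Classical.Orth
open Cfsg.Agent.Classical.OrthCount Cfsg.Agent.Classical.OrthForms Cfsg.Agent.Classical.QuadClass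
open Cfsg.Agent.AutPOmega.BaseChange

universe u

/-! ### Two types in even dimension -/

section types

variable {K : Type u} [Field K] {ι : Type} [Fintype ι] [DecidableEq ι]

/-- The form is of plus type. -/
def IsPlus (M : ℕ) (R : QuadraticForm K (ι → K)) : Prop :=
  ∃ e : (ι → K) ≃ₗ[K] (Fin M ⊕ Fin M → K), ∀ x, plusQ K M (e x) = R x

/-- Forms of the same type are isometric. -/
theorem iso_of_type [Fintype K] {M : ℕ} (hM : Fintype.card ι = 2 * M)
    {R R' : QuadraticForm K (ι → K)} (hR : (QuadraticMap.polarBilin R).Nondegenerate)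
    (hR' : (QuadraticMap.polarBilin R').Nondegenerate) (h : IsPlus M R ↔ IsPlus M R') :
    ∃ e : (ι → K) ≃ₗ[K] (ι → K), ∀ x, R' (e x) = R x := by
  by_cases hp : IsPlus M R
  · obtain ⟨e, he⟩ := hp
    obtain ⟨e', he'⟩ := h.1 ⟨e, he⟩
    exact ⟨e.trans e'.symm, fun x => by
      rw [← he', LinearEquiv.trans_apply, e'.apply_symm_apply, he]⟩
  · rcases classify_even M (V := ι → K) (by simpa using hM) R hR with hpl | ⟨-, ζ, e, hζ, he⟩
    · exact absurd hpl hp
    rcases classify_even M (V := ι → K) (by simpa using hM) R' hR' with hpl | ⟨-, ζ', e', hζ', he'⟩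
    · exact absurd hpl fun h' => hp (h.2 h')
    obtain ⟨g, hg⟩ := minQ_isometric (M - 1) hζ' hζ
    exact ⟨e.trans (g.trans e'.symm), fun x => by
      rw [← he', LinearEquiv.trans_apply, LinearEquiv.trans_apply, e'.apply_symm_apply, hg, he]⟩

end types

variable {F : Type u} [Field F] [Fintype F] {ι : Type} [Fintype ι] [DecidableEq ι]
variable {Q : QuadraticForm F (ι → F)} {σ : F ≃+* F} {hσ : Rat Q σ} {M : ℕ}

theorem Tw.zeros_eq {A : GO Q} (T : Tw hσ A) : zeros ⇑T.P = zeros ⇑Q :=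
  Nat.card_congr ((Matrix.GeneralLinearGroup.toLin T.B).toLinearEquiv.toEquiv.subtypeEquiv
    fun v => by
      show T.P v = 0 ↔ Q ((T.B : Matrix ι ι F) *ᵥ v) = 0
      rw [T.hP, mul_eq_zero, or_iff_right T.w.ne_zero])

theorem Tw.zeros_of_isPlus {A : GO Q} (T : Tw hσ A) (h : IsPlus M T.form) :
    zeros ⇑Q = zeros ⇑(plusQ F M) := by
  obtain ⟨e, he⟩ := h
  rw [← T.zeros_eq]
  exact QuadClass.zeros_eq _ _ (liftEquiv (Fix σ).subtype e)
    (lift_isometry T.form_ext (ext_plusQ _ M) e he)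

/-- For an automorphism of odd order the type of the descended form is the type of `Q`. -/
theorem Tw.isPlus_iff {A : GO Q} (T : Tw hσ A) (hQ : (QuadraticMap.polarBilin Q).Nondegenerate)
    (hM : Fintype.card ι = 2 * M) {r : ℕ} (hr : Odd r) (hσr : σ ^ r = 1) :
    IsPlus M T.form ↔ zeros ⇑Q = zeros ⇑(plusQ F M) := by
  refine ⟨T.zeros_of_isPlus, fun hz => ?_⟩
  let _ : Fintype (Fix σ) := Fintype.ofFinite _
  rcases classify_even M (V := ι → Fix σ) (by simpa using hM) T.form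
      (T.form_ext.nondeg (T.nondeg hQ)) with hpl | ⟨hM1, ζ, e, hζ, he⟩
  · exact hpl
  · exfalso
    have hz' : zeros ⇑T.P = zeros ⇑(minQ F (M - 1) 1 (ζ : F)) := by
      refine QuadClass.zeros_eq _ _ (liftEquiv (Fix σ).subtype e)
        (lift_isometry T.form_ext ?_ e he)
      have h := ext_minQ (Fix σ).subtype (M - 1) 1 ζ
      rwa [map_one] at h
    rw [T.zeros_eq, hz] at hz'
    exact plus_ne_min hM1 (aniso_one fun t => no_root hr hσr hζ t) hz'

namespace EvenSetup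

variable (E : EvenSetup Q M)

include E

theorem cls_fGO (g : GO Q) : E.cls (fGO σ hσ g) = E.cls g := clsF_semGO E E _ g

theorem cls_twisted (a : Fˣ) (N A : GO Q) :
    E.cls (scal Q a * (N * A * (fGO σ hσ N)⁻¹)) = E.cls A := by
  rw [map_mul, E.cls_scal, one_mul, map_mul, map_mul, map_inv, E.cls_fGO, mul_comm (E.cls N),
    mul_inv_cancel_right]

theorem cls_tw (A : GO Q) : ∀ i, E.cls (tw σ hσ A i) = E.cls A ^ i
  | 0 => by rw [tw, map_one, pow_zero]
  | i + 1 => by rw [tw, map_mul, E.cls_fGO, cls_tw A i, pow_succ']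

/-- The forms of two elements of one class with the same type give conjugacy. -/
theorem conj_of_type {A A₀ : GO Q} (T : Tw hσ A) (T₀ : Tw hσ A₀)
    (h : IsPlus M T.form ↔ IsPlus M T₀.form) :
    ∃ (a : Fˣ) (N : GO Q), A = scal Q a * (N * A₀ * (fGO σ hσ N)⁻¹) := by
  let _ : Fintype (Fix σ) := Fintype.ofFinite _
  obtain ⟨e, he⟩ := iso_of_type E.hM (T₀.form_ext.nondeg (T₀.nondeg E.hQ))
    (T.form_ext.nondeg (T.nondeg E.hQ)) h.symm
  exact conj_of_iso T T₀ one_ne_zero e fun x => by rw [he, one_mul]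

variable {v₀ : ι → F}

omit [Fintype F] E in
theorem fGO_reflect (hv : ∀ i, σ (v₀ i) = v₀ i) :
    fGO σ hσ (ofIso Q (reflect Q v₀)) = ofIso Q (reflect Q v₀) := by
  refine go_ext fun x => ?_
  obtain ⟨u, rfl⟩ : ∃ u : ι → F, (fun i => σ (u i)) = x := ⟨fun i => σ.symm (x i), by simp⟩
  have hv' : (fun i => σ (v₀ i)) = v₀ := funext hv
  have hpol : QuadraticMap.polar Q v₀ (fun i => σ (u i)) = σ (QuadraticMap.polar Q v₀ u) := by
    conv_lhs => rw [← hv']
    simp only [QuadraticMap.polar]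
    rw [show ((fun i => σ (v₀ i)) + fun i => σ (u i)) = fun i => σ ((v₀ + u) i) from
      funext fun i => (map_add σ (v₀ i) (u i)).symm, hσ, hσ, hσ, map_sub, map_sub]
  have hq : σ (Q v₀) = Q v₀ := by rw [← hσ, hv']
  rw [mat_fGO, map_mulVec', ofIso_mulVec, ofIso_mulVec, act_reflect, act_reflect]
  funext i
  simp only [Pi.sub_apply, Pi.smul_apply, smul_eq_mul, map_sub, map_mul, map_inv₀, hv, hq, hpol]

/-- The reflection gives an element of order two. -/
theorem reflect_pow (hv : ∀ i, σ (v₀ i) = v₀ i) (hr2 : σ ^ 2 = 1) :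
    (gAut Q (ofIso Q (reflect Q v₀)) * fAut σ hσ) ^ 2 = 1 := by
  rw [pow_gAut_fAut, fAut_pow, fAut_congr hr2 _ Rat.one, fAut_one, mul_one, tw, tw, tw, map_one,
    mul_one, fGO_reflect hv, ← map_mul, reflect_sq, map_one, map_one]

/-- Elements of order `r` in one class are conjugate. -/
theorem same_class_conj {r : ℕ} (hr : r.Prime) (hσr : orderOf σ = r) (hv₀ : Q v₀ ≠ 0)
    (hv : ∀ i, σ (v₀ i) = v₀ i) {A A₀ : GO Q} (hA : (gAut Q A * fAut σ hσ) ^ r = 1)
    (hA₀ : (gAut Q A₀ * fAut σ hσ) ^ r = 1) (hcls : E.cls A = E.cls A₀) :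
    ∃ (a : Fˣ) (N : GO Q), A = scal Q a * (N * A₀ * (fGO σ hσ N)⁻¹) := by
  obtain ⟨T⟩ := exists_tw E.hQ E.fr E.hn5 hσ hσr A hA
  obtain ⟨T₀⟩ := exists_tw E.hQ E.fr E.hn5 hσ hσr A₀ hA₀
  rcases hr.eq_two_or_odd' with rfl | hodd
  · obtain ⟨TR⟩ := exists_tw E.hQ E.fr E.hn5 hσ hσr (ofIso Q (reflect Q v₀))
      (E.reflect_pow hv (hσr ▸ pow_orderOf_eq_one σ))
    have hdiff : ¬ (IsPlus M (Tw.one hσ).form ↔ IsPlus M TR.form) := fun h => by
      obtain ⟨a, N, he⟩ := E.conj_of_type TR (Tw.one hσ) h.symm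
      have h1 := congrArg E.cls he
      rw [E.cls_reflect hv₀, E.cls_twisted, map_one] at h1
      exact absurd h1 (by decide)
    have key : ∀ (A : GO Q) (T : Tw hσ A),
        IsPlus M T.form ↔ (IsPlus M (Tw.one hσ).form ↔ E.cls A = 1) := fun A T => by
      by_cases h : (IsPlus M T.form ↔ IsPlus M (Tw.one hσ).form)
      · obtain ⟨a, N, he⟩ := E.conj_of_type T (Tw.one hσ) h
        have h1 := congrArg E.cls he
        rw [E.cls_twisted, map_one] at h1
        simp only [h1, iff_true, h]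
      · have h' : IsPlus M T.form ↔ IsPlus M TR.form := by tauto
        obtain ⟨a, N, he⟩ := E.conj_of_type T TR h'
        have h1 := congrArg E.cls he
        rw [E.cls_twisted, E.cls_reflect hv₀] at h1
        have h2 : ¬ (E.cls A = 1) := fun h3 => absurd (h1.symm.trans h3) (by decide)
        tauto
    refine E.conj_of_type T T₀ ?_
    rw [key A T, key A₀ T₀, hcls]
  · have hp : σ ^ r = 1 := hσr ▸ pow_orderOf_eq_one σ
    exact E.conj_of_type T T₀
      ((T.isPlus_iff E.hQ E.hM hodd hp).trans (T₀.isPlus_iff E.hQ E.hM hodd hp).symm)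

/-- The conjugating similarity can be taken class preserving. -/
theorem conj_in_ker {r : ℕ} (hr : r.Prime) (hσr : orderOf σ = r) (hv₀ : Q v₀ ≠ 0)
    (hv : ∀ i, σ (v₀ i) = v₀ i) {A A₀ : GO Q}
    (hA₀ : A₀ = 1 ∨ A₀ = ofIso Q (reflect Q v₀))
    (hA : (gAut Q A * fAut σ hσ) ^ r = 1) (hpow₀ : (gAut Q A₀ * fAut σ hσ) ^ r = 1)
    (hcls : E.cls A = E.cls A₀) :
    ∃ h ∈ E.cls.ker.map (gAut Q),
      gAut Q A * fAut σ hσ = h * (gAut Q A₀ * fAut σ hσ) * h⁻¹ := by
  obtain ⟨a, N, he⟩ := E.same_class_conj hr hσr hv₀ hv hA hpow₀ hcls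
  rcases Int.units_eq_one_or (E.cls N) with hN | hN
  · exact ⟨gAut Q N, ⟨N, hN, rfl⟩, conj_eq he⟩
  · set D := ofIso Q (reflect Q v₀) with hD
    have hfix : fGO σ hσ D = D := fGO_reflect hv
    have hDD : D * D = 1 := by rw [hD, ← map_mul, reflect_sq, map_one]
    have hcomm : D * A₀ = A₀ * D := by
      rcases hA₀ with rfl | rfl
      · rw [mul_one, one_mul]
      · rfl
    have he' : A = scal Q a * (N * D * A₀ * (fGO σ hσ (N * D))⁻¹) := by
      conv_lhs => rw [he]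
      rw [map_mul, hfix, _root_.mul_inv_rev, mul_assoc N D, hcomm]
      group
    refine ⟨gAut Q (N * D), ⟨N * D, ?_, rfl⟩, conj_eq he'⟩
    rw [SetLike.mem_coe, MonoidHom.mem_ker, map_mul, hN, hD, E.cls_reflect hv₀]
    rfl

/-- Class changing elements have even order. -/
theorem even_of_cls_neg {r : ℕ} {A : GO Q} (hA : (gAut Q A * fAut σ hσ) ^ r = 1)
    (hcls : E.cls A = -1) : Even r ∧ σ ^ r = 1 := by
  rw [pow_gAut_fAut, fAut_pow] at hA
  obtain ⟨hs, a, ha⟩ := gAut_mul_fAut_eq_one E.hQ E.fr E.hn5 (hσ.pow r) hA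
  refine ⟨?_, hs⟩
  have h1 := congrArg E.cls ha
  rw [E.cls_tw, E.cls_scal, hcls] at h1
  exact (neg_one_pow_eq_one_iff_even (by decide)).1 h1

/-- A form not of plus type has no rational involutory field automorphism. -/
theorem odd_of_not_plus (hσ : Rat Q σ) {r : ℕ} (hr : r.Prime) (hσr : orderOf σ = r) (hv₀ : Q v₀ ≠ 0)
    (hv : ∀ i, σ (v₀ i) = v₀ i) (hz : zeros ⇑Q ≠ zeros ⇑(plusQ F M)) : Odd r := by
  rcases hr.eq_two_or_odd' with rfl | hodd
  · exfalso
    obtain ⟨TR⟩ := exists_tw E.hQ E.fr E.hn5 hσ hσr (ofIso Q (reflect Q v₀))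
      (E.reflect_pow hv (hσr ▸ pow_orderOf_eq_one σ))
    have h1 : ¬ IsPlus M (Tw.one hσ).form := fun h => hz ((Tw.one hσ).zeros_of_isPlus h)
    have h2 : ¬ IsPlus M TR.form := fun h => hz (TR.zeros_of_isPlus h)
    obtain ⟨a, N, he⟩ := E.conj_of_type TR (Tw.one hσ) (iff_of_false h2 h1)
    have h3 := congrArg E.cls he
    rw [E.cls_reflect hv₀, E.cls_twisted, map_one] at h3
    exact absurd h3 (by decide)
  · exact hodd

end EvenSetup

/-! ### Odd dimension -/

/-- Elements of order `r` are conjugate in odd dimension. -/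
theorem conj_odd_dim (hQ : (QuadraticMap.polarBilin Q).Nondegenerate) (f : Frame Q)
    (hn : 5 ≤ Fintype.card ι) (hM : Fintype.card ι = 2 * M + 1) {r : ℕ} (hσr : orderOf σ = r)
    {A : GO Q} (hA : (gAut Q A * fAut σ hσ) ^ r = 1) :
    ∃ h ∈ (gAut Q).range, gAut Q A * fAut σ hσ = h * fAut σ hσ * h⁻¹ := by
  let _ : Fintype (Fix σ) := Fintype.ofFinite _
  obtain ⟨T⟩ := exists_tw hQ f hn hσ hσr A hA
  obtain ⟨c, hc, e, he⟩ := classify_odd M (V := ι → Fix σ) (by simpa using hM) T.form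
    (T.form_ext.nondeg (T.nondeg hQ))
  obtain ⟨c₀, hc₀, e₀, he₀⟩ := classify_odd M (V := ι → Fix σ) (by simpa using hM)
    (Tw.one hσ).form ((Tw.one hσ).form_ext.nondeg ((Tw.one hσ).nondeg hQ))
  set t := c / c₀
  have ht : t ≠ 0 := div_ne_zero hc hc₀
  let d : Unit ⊕ (Fin M ⊕ Fin M) → (Fix σ)ˣ :=
    Sum.elim (fun _ => 1) (Sum.elim (fun _ => Units.mk0 t ht) fun _ => 1)
  let D : (Unit ⊕ (Fin M ⊕ Fin M) → Fix σ) ≃ₗ[Fix σ] (Unit ⊕ (Fin M ⊕ Fin M) → Fix σ) :=
    LinearEquiv.piCongrRight fun i => LinearEquiv.smulOfUnit (d i)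
  have hD : ∀ y : Unit ⊕ (Fin M ⊕ Fin M) → Fix σ,
      c * D y (Sum.inl ()) ^ 2 + plusQ (Fix σ) M (D y ∘ Sum.inr) =
        t * (c₀ * y (Sum.inl ()) ^ 2 + plusQ (Fix σ) M (y ∘ Sum.inr)) := fun y => by
    have h1 : D y (Sum.inl ()) = y (Sum.inl ()) := one_mul _
    have h2 : plusQ (Fix σ) M (D y ∘ Sum.inr) = t * plusQ (Fix σ) M (y ∘ Sum.inr) := by
      rw [plusQ_apply, plusQ_apply, Cfsg.quadFormPlus, Cfsg.quadFormPlus, Finset.mul_sum]
      refine Finset.sum_congr rfl fun i _ => ?_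
      show t * y _ * (1 * y _) = t * (y _ * y _)
      ring
    rw [h1, h2, mul_add, ← mul_assoc t, div_mul_cancel₀ _ hc₀]
  obtain ⟨a, N, hAN⟩ := conj_of_iso T (Tw.one hσ) ht (e₀.trans (D.trans e.symm)) fun x => by
    rw [← he, LinearEquiv.trans_apply, LinearEquiv.trans_apply, e.apply_symm_apply, hD, he₀]
  refine ⟨gAut Q N, ⟨N, rfl⟩, ?_⟩
  rw [conj_eq hAN, map_one, one_mul]

/-- Conjugacy in a coset, transported along an isomorphism. -/
theorem coset_iff {G G' : Type*} [Group G] [Group G'] (e : G ≃* G') (N : Subgroup G)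
    (N' : Subgroup G') (hN : ∀ g, e g ∈ N' ↔ g ∈ N) {x δ : G} {y₀ : G'} (hy : e x = y₀)
    (hδ : δ ∈ N) {r : ℕ} (hxr : orderOf x = r)
    (key : ∀ n ∈ N', (n * y₀) ^ r = 1 → ∃ h ∈ N', n * y₀ = h * y₀ * h⁻¹) :
    orderOf (δ * x) = r ↔ Cfsg.IsConjUnder N x (δ * x) := by
  constructor
  swap
  · rintro ⟨h, -, e'⟩
    rw [e']
    exact ((MulAut.conj h).orderOf_eq x).trans hxr
  intro hor
  have h0 : e δ * y₀ = e (δ * x) := by rw [map_mul, hy]
  obtain ⟨h, hh, he⟩ := key (e δ) ((hN δ).2 hδ) (by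
    rw [h0, ← map_pow, ← hor, pow_orderOf_eq_one, map_one])
  refine ⟨e.symm h, (hN _).1 (by rwa [e.apply_symm_apply]), e.injective ?_⟩
  simp only [map_mul, map_inv, e.apply_symm_apply, hy, he]

end Cfsg.Agent.AutPOmega
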