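import Cfsg.Agent.Lib.Classical.OrthSimple

/-!
# Unipotent radicals of stabilisers of totally singular subspaces

`NR Q R` fixes `R` pointwise and acts trivially on `R^⊥ / R`. A normal `p`-subgroup of the stabiliser of a
singular point lies in `NR` of that point, which has order at most `q ^ (n - 2)`; for larger subspaces the
group is bigger.
-/

set_option autoImplicit false
set_option linter.unusedSectionVars false

namespace Cfsg.Agent.AutPOmega.Unipotent

open Matrix Module Cfsg.Agent.Forms Cfsg.Agent.Forms.QuadStd Cfsg.Agent.Forms.Reflections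
open Cfsg.Agent.Classical Cfsg.Agent.Classical.Orth

variable {F : Type*} [Field F] {ι : Type} [Fintype ι] [DecidableEq ι]
variable {Q : QuadraticForm F (ι → F)}

local notation "Vec" => (ι → F)
local notation "B" => QuadraticMap.polar Q
local notation "Iso" => Cfsg.isometryGroup F (DFunLike.coe Q)
local notation "Ω" => Cfsg.Omega F (DFunLike.coe Q)

/-- Fixing `R` pointwise and acting trivially on `R^⊥ / R`. -/
def NR (Q : QuadraticForm F (ι → F)) (R : Submodule F (ι → F)) :
    Subgroup (Cfsg.isometryGroup F ⇑Q) where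
  carrier := {g | (∀ r ∈ R, act g r = r) ∧
    ∀ x, (∀ r ∈ R, QuadraticMap.polar Q r x = 0) → act g x - x ∈ R}
  one_mem' := ⟨fun r _ => act_one r, fun x _ => by rw [act_one, sub_self]; exact R.zero_mem⟩
  mul_mem' := fun {g h} hg hh => ⟨fun r hr => by rw [act_mul, hh.1 r hr, hg.1 r hr], fun x hx => by
    have e : act (g * h) x - x = act g (act h x - x) + (act g x - x) := by
      rw [act_mul, map_sub]; abel
    rw [e, hg.1 _ (hh.2 x hx)]
    exact R.add_mem (hh.2 x hx) (hg.2 x hx)⟩
  inv_mem' := fun {g} hg => by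
    have hfix : ∀ r ∈ R, act g⁻¹ r = r := fun r hr => by
      conv_lhs => rw [← hg.1 r hr]
      exact Spinor.act_inv_cancel g r
    refine ⟨hfix, fun x hx => ?_⟩
    have hy : ∀ r ∈ R, QuadraticMap.polar Q r (act g⁻¹ x) = 0 := fun r hr => by
      rw [← hfix r hr, act_polar]; exact hx r hr
    have h1 := hg.2 _ hy
    rw [Orth.act_cancel_inv] at h1
    simpa using R.neg_mem h1

theorem mem_NR {R : Submodule F Vec} {g : Iso} :
    g ∈ NR Q R ↔ (∀ r ∈ R, act g r = r) ∧ ∀ x, (∀ r ∈ R, B r x = 0) → act g x - x ∈ R := Iff.rfl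

theorem conj_mem_NR {R R' : Submodule F Vec} {g h : Iso} (hg : g ∈ NR Q R)
    (hR : R.map (act h) = R') : h * g * h⁻¹ ∈ NR Q R' := by
  subst hR
  refine ⟨?_, fun x hx => ?_⟩
  · rintro _ ⟨r, hr, rfl⟩
    rw [act_mul, act_mul, Spinor.act_inv_cancel, hg.1 r hr]
  · have hy : ∀ r ∈ R, B r (act h⁻¹ x) = 0 := fun r hr => by
      rw [← act_polar h, Orth.act_cancel_inv]
      exact hx _ ⟨r, hr, rfl⟩
    refine ⟨_, hg.2 _ hy, ?_⟩
    rw [map_sub, act_mul, act_mul, Orth.act_cancel_inv]

theorem eich_mem_NR {R : Submodule F Vec} (hR : ∀ r ∈ R, ∀ s ∈ R, B r s = 0) {u w : Vec}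
    (hu : Q u = 0) (huw : B u w = 0) (huR : u ∈ R) (hw : ∀ r ∈ R, B r w = 0) :
    eich u w hu huw ∈ NR Q R := by
  refine ⟨fun r hr => act_eich_fix hu huw (hR r hr u huR) (hw r hr), fun x hx => ?_⟩
  have hxu : B x u = 0 := by rw [QuadraticMap.polar_comm]; exact hx u huR
  rw [act_eich, hxu]
  simpa using R.neg_mem (R.smul_mem (B x w) huR)

theorem singular_polar {R : Submodule F Vec} (hR : ∀ r ∈ R, Q r = 0) :
    ∀ r ∈ R, ∀ s ∈ R, B r s = 0 := fun r hr s hs => by
  simp [QuadraticMap.polar, hR _ hr, hR _ hs, hR _ (R.add_mem hr hs)]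

/-- `NR` is a `p`-group. -/
theorem isPGroup_NR (p : ℕ) [Fact p.Prime] [CharP F p] [Nonempty ι]
    (R : Submodule F Vec) : IsPGroup p (NR Q R) := by
  rintro ⟨g, hg⟩
  refine ⟨2, Subtype.ext (Subtype.ext (Units.ext ?_))⟩
  set M := ((g : GL ι F) : Matrix ι ι F)
  have hM : ∀ x, (M - 1) *ᵥ x = act g x - x := fun x => by
    rw [Matrix.sub_mulVec, Matrix.one_mulVec, act_apply]
  have h1 : ∀ x, ∀ r ∈ R, B r ((M - 1) *ᵥ x) = 0 := fun x r hr => by
    rw [hM, QuadraticMap.polar_sub_right]
    nth_rw 1 [← hg.1 r hr]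
    rw [act_polar, sub_self]
  have h3 : (M - 1) ^ 3 = 0 := by
    refine Matrix.ext_iff_mulVec.2 fun x => ?_
    rw [Matrix.zero_mulVec, pow_succ, pow_succ, pow_one, ← mulVec_mulVec, ← mulVec_mulVec]
    have e2 : (M - 1) *ᵥ (M - 1) *ᵥ x ∈ R := by
      rw [hM ((M - 1) *ᵥ x)]
      exact hg.2 _ (h1 x)
    rw [hM ((M - 1) *ᵥ (M - 1) *ᵥ x), hg.1 _ e2, sub_self]
  have hp3 : 3 ≤ p ^ 2 := by nlinarith [(Fact.out : p.Prime).two_le]
  have h4 := sub_pow_char_pow_of_commute (p := p) (n := 2) (Commute.one_right M)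
  rw [one_pow, pow_eq_zero_of_le hp3 h3] at h4
  simpa [M] using sub_eq_zero.1 h4.symm

/-! ### The stabiliser of a singular point -/

variable (hQ : (QuadraticMap.polarBilin Q).Nondegenerate) (f : Frame Q)

include hQ in
theorem finrank_W : finrank F ↥f.W + 2 = Fintype.card ι := by
  let φ : Vec →ₗ[F] F × F := (polB Q f.u).prod (polB Q f.v)
  have hs : Function.Surjective φ := by
    rintro ⟨a, b⟩
    refine ⟨b • f.u + a • f.v, ?_⟩
    simp [φ, polB_apply, QuadraticMap.polar_add_right, QuadraticMap.polar_smul_right,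
      polar_self_zero f.p.hu, polar_self_zero f.p.hv, f.p.huv, f.p.hvu]
  have h := LinearMap.finrank_range_add_finrank_ker φ
  rw [LinearMap.range_eq_top.2 hs, finrank_top, Module.finrank_prod, Module.finrank_self,
    Module.finrank_pi, show LinearMap.ker φ = f.W from LinearMap.ker_prod _ _] at h
  omega

theorem proj_mem_W (x : Vec) : proj Q f.u f.v x ∈ f.W :=
  f.mem_W.2 ⟨by rw [QuadraticMap.polar_comm]; exact (proj_perp f.p x).1,
    by rw [QuadraticMap.polar_comm]; exact (proj_perp f.p x).2⟩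

theorem u'_mem_W : f.u' ∈ f.W := f.mem_W.2 ⟨f.uu', f.vu'⟩

theorem v'_mem_W : f.v' ∈ f.W := f.mem_W.2 ⟨f.uv', f.vv'⟩

/-- An element of `NR` of the point `⟨u⟩` is determined by the image of `v`. -/
theorem NR_injective {g h : Iso} (hg : g ∈ NR Q (F ∙ f.u)) (hh : h ∈ NR Q (F ∙ f.u))
    (he : proj Q f.u f.v (act g f.v) = proj Q f.u f.v (act h f.v)) : g = h := by
  have hu : ∀ k : Iso, k ∈ NR Q (F ∙ f.u) → act k f.u = f.u := fun k hk =>
    hk.1 _ (Submodule.mem_span_singleton_self _)
  have hv : ∀ k : Iso, k ∈ NR Q (F ∙ f.u) →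
      B (act k f.v) f.u = 1 ∧
        act k f.v = (-Q (proj Q f.u f.v (act k f.v))) • f.u + f.v + proj Q f.u f.v (act k f.v) := by
    intro k hk
    have h1 : B (act k f.v) f.u = 1 := by
      nth_rw 1 [← hu k hk]
      rw [act_polar, f.p.hvu]
    have e := proj_add (Q := Q) f.u f.v (act k f.v)
    rw [h1, one_smul] at e
    set c := B (act k f.v) f.v
    set z := proj Q f.u f.v (act k f.v)
    refine ⟨h1, ?_⟩
    have hq := congrArg Q e
    rw [act_map, f.p.hv, map_add', map_add', Orth.map_smul', f.p.hu, f.p.hv,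
      QuadraticMap.polar_add_left, QuadraticMap.polar_smul_left, QuadraticMap.polar_smul_left,
      f.p.huv, QuadraticMap.polar_comm _ f.u z, (proj_perp f.p _).1,
      QuadraticMap.polar_comm _ f.v z, (proj_perp f.p _).2] at hq
    simp at hq
    rw [show -Q z = c by linear_combination hq]
    exact e
  have hgv : act g f.v = act h f.v := by rw [(hv g hg).2, (hv h hh).2, he]
  refine act_ext fun x => ?_
  have key : ∀ y, B f.u y = 0 → act g y = act h y := by
    intro y hy
    have hy' : ∀ r ∈ (F ∙ f.u), B r y = 0 := fun r hr => by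
      obtain ⟨t, rfl⟩ := Submodule.mem_span_singleton.1 hr
      rw [QuadraticMap.polar_smul_left, hy, smul_zero]
    obtain ⟨a, ha⟩ := Submodule.mem_span_singleton.1 (hg.2 y hy')
    obtain ⟨b, hb⟩ := Submodule.mem_span_singleton.1 (hh.2 y hy')
    have e : ∀ (k : Iso) (c : F), k ∈ NR Q (F ∙ f.u) → c • f.u = act k y - y →
        B y f.v = B y (act k f.v) + c := fun k c hk hc => by
      have h1 := act_polar k y f.v
      rw [show act k y = y + c • f.u by rw [hc]; abel, QuadraticMap.polar_add_left,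
        QuadraticMap.polar_smul_left, QuadraticMap.polar_comm _ f.u (act k f.v), (hv k hk).1,
        smul_eq_mul, mul_one] at h1
      exact h1.symm
    have hab : a = b := by
      have e1 := e g a hg ha
      have e2 := e h b hh hb
      rw [hgv] at e1
      linear_combination e2 - e1
    rw [← sub_left_inj (a := y), ← ha, ← hb, hab]
  have hx : x = (x - B f.u x • f.v) + B f.u x • f.v := (sub_add_cancel _ _).symm
  rw [hx, map_add, map_add, map_smul, map_smul, hgv, key]
  rw [QuadraticMap.polar_sub_right, QuadraticMap.polar_smul_right, f.p.huv, smul_eq_mul, mul_one,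
    sub_self]

variable [Fintype F]

include hQ in
theorem natCard_NR_le :
    Nat.card ↥(NR Q (F ∙ f.u)) ≤ Fintype.card F ^ (Fintype.card ι - 2) := by
  have : Fintype ↥f.W := Fintype.ofFinite _
  calc Nat.card ↥(NR Q (F ∙ f.u))
      ≤ Nat.card ↥f.W := Nat.card_le_card_of_injective
        (fun g => (⟨proj Q f.u f.v (act g.1 f.v), proj_mem_W f _⟩ : ↥f.W))
        (fun g h e => Subtype.ext (NR_injective f g.2 h.2 (congrArg Subtype.val e)))
    _ = _ := by
      rw [Nat.card_eq_fintype_card, Module.card_eq_pow_finrank (K := F) (V := ↥f.W)]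
      have := finrank_W hQ f
      congr 1
      omega

variable (hn : 5 ≤ Fintype.card ι)

include hQ f hn

/-- The stabiliser of `⟨u⟩` is irreducible on `u^⊥ / u`. -/
theorem stab_irreducible (S : Submodule F Vec) (hu : f.u ∈ S)
    (hle : ∀ x ∈ S, B f.u x = 0)
    (hinv : ∀ (z w : Vec) (hz : Q z = 0) (hzw : B z w = 0), z ∈ f.W → w ∈ f.W →
      ∀ x ∈ S, act (eich z w hz hzw) x ∈ S)
    {x : Vec} (hx : x ∈ S) (hxu : x ∉ (F ∙ f.u)) : ∀ y, B f.u y = 0 → y ∈ S := by
  classical
  have step : ∀ (z w : Vec) (hz : Q z = 0) (hzw : B z w = 0), z ∈ f.W → w ∈ f.W →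
      ∀ x ∈ S, B x z • w - B x w • z - (Q w * B x z) • z ∈ S := by
    intro z w hz hzw hzW hwW x hx
    have h1 := S.sub_mem (hinv z w hz hzw hzW hwW x hx) hx
    rw [act_eich] at h1
    convert h1 using 1
    abel
  set x' := proj Q f.u f.v x
  have hx'W : x' ∈ f.W := proj_mem_W f x
  have hxdec : x = B x f.v • f.u + x' := by
    have e := proj_add (Q := Q) f.u f.v x
    rwa [show B x f.u = 0 by rw [QuadraticMap.polar_comm]; exact hle x hx, zero_smul,
      add_zero] at e
  have hx'S : x' ∈ S := by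
    have h1 := S.sub_mem hx (S.smul_mem (B x f.v) hu)
    rwa [show x - B x f.v • f.u = x' by nth_rw 1 [hxdec]; abel] at h1
  have hx'0 : x' ≠ 0 := fun h0 => hxu (Submodule.mem_span_singleton.2 ⟨B x f.v, by
    rw [h0, add_zero] at hxdec; exact hxdec.symm⟩)
  -- a singular vector orthogonal to an element of `S ∩ W` lies in `S`
  have perp : ∀ z ∈ f.W, Q z = 0 → ∀ y ∈ S, y ∈ f.W → B y z = 0 → y ∉ (F ∙ z) → z ∈ S := by
    intro z hzW hzq y hyS hyW hyz hy
    obtain ⟨w, hwW, hzw, hyw⟩ : ∃ w ∈ f.W, B z w = 0 ∧ B y w ≠ 0 := by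
      by_contra hcon
      push Not at hcon
      apply hy
      -- `y` is orthogonal to `z^⊥`
      have hzne : z ≠ 0 ∨ z = 0 := (eq_or_ne z 0).symm
      rcases hzne with hzne | rfl
      · obtain ⟨s, hsW, hzs⟩ : ∃ s ∈ f.W, B z s ≠ 0 := by
          by_contra h; push Not at h
          exact hzne (f.W_nondeg hQ z hzW h)
        refine Submodule.mem_span_singleton.2 ⟨B y s / B z s, ?_⟩
        refine (sub_eq_zero.1 (f.W_nondeg hQ _ (f.W.sub_mem hyW (f.W.smul_mem _ hzW)) fun t ht =>
          ?_)).symm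
        have h1 := hcon (t - (B z t / B z s) • s) (f.W.sub_mem ht (f.W.smul_mem _ hsW)) (by
          rw [QuadraticMap.polar_sub_right, QuadraticMap.polar_smul_right, smul_eq_mul,
            div_mul_cancel₀ _ hzs, sub_self])
        rw [QuadraticMap.polar_sub_right, QuadraticMap.polar_smul_right, smul_eq_mul] at h1
        rw [QuadraticMap.polar_sub_left, QuadraticMap.polar_smul_left, smul_eq_mul]
        field_simp at h1 ⊢
        linear_combination h1
      · have hy0 : y = 0 := f.W_nondeg hQ y hyW fun t ht => hcon t ht (by simp [QuadraticMap.polar])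
        rw [hy0]; exact Submodule.zero_mem _
    have h1 := step z w hzq hzw hzW hwW y hyS
    rw [hyz, zero_smul, mul_zero, zero_smul, sub_zero, zero_sub, S.neg_mem_iff] at h1
    exact (S.smul_mem_iff hyw).1 h1
  have hne : ∀ {z : Vec}, z ∈ f.W → Q z = 0 → z ≠ 0 → z ∈ S := by
    intro z hzW hzq hz0
    by_cases hxz : x' ∈ (F ∙ z)
    · obtain ⟨a, ha⟩ := Submodule.mem_span_singleton.1 hxz
      have ha0 : a ≠ 0 := fun h => hx'0 (by rw [← ha, h, zero_smul])
      exact (S.smul_mem_iff ha0).1 (ha ▸ hx'S)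
    by_cases hb : B x' z = 0
    · exact perp z hzW hzq x' hx'S hx'W hb hxz
    -- find `w` orthogonal to `z` and `x'`, not a multiple of `z`
    obtain ⟨w, hwW, hzw, hxw, hw⟩ : ∃ w ∈ f.W, B z w = 0 ∧ B x' w = 0 ∧ w ∉ (F ∙ z) := by
      by_contra hcon
      push Not at hcon
      let φ : ↥f.W →ₗ[F] F × F := ((polB Q z).prod (polB Q x')).domRestrict f.W
      have h := LinearMap.finrank_range_add_finrank_ker φ
      have h1 : finrank F ↥(LinearMap.range φ) ≤ 2 :=
        (Submodule.finrank_le _).trans (by simp)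
      have h2 : LinearMap.ker φ = ⊥ := by
        refine LinearMap.ker_eq_bot'.2 fun y hy => ?_
        simp [φ, Prod.ext_iff, polB_apply] at hy
        obtain ⟨a, ha⟩ := Submodule.mem_span_singleton.1 (hcon y.1 y.2 hy.1 hy.2)
        have h3 := hy.2
        rw [← ha, QuadraticMap.polar_smul_right, smul_eq_mul, mul_eq_zero, or_iff_left hb] at h3
        exact Subtype.ext (by rw [← ha, h3, zero_smul]; rfl)
      rw [h2, finrank_bot] at h
      have := finrank_W hQ f
      omega
    have h1 := step z w hzq hzw hzW hwW x' hx'S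
    rw [hxw, zero_smul, sub_zero] at h1
    set y := B x' z • w - (Q w * B x' z) • z
    refine perp z hzW hzq y h1 (f.W.sub_mem (f.W.smul_mem _ hwW) (f.W.smul_mem _ hzW)) ?_ ?_
    · simp [y, QuadraticMap.polar_sub_left, QuadraticMap.polar_smul_left, polar_self_zero hzq,
        QuadraticMap.polar_comm _ w z, hzw]
    · intro hy
      apply hw
      have h2 : B x' z • w ∈ (F ∙ z) := by
        have := Submodule.add_mem _ hy (Submodule.smul_mem _ (Q w * B x' z)
          (Submodule.mem_span_singleton_self z))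
        simpa [y] using this
      exact (Submodule.smul_mem_iff _ hb).1 h2
  have hu' : f.u' ∈ S := hne (u'_mem_W f) f.p'.hu f.p'.ne_zero.1
  have hv' : f.v' ∈ S := hne (v'_mem_W f) f.p'.hv f.p'.ne_zero.2
  -- `W` is spanned by singular vectors
  have hW : ∀ w ∈ f.W, w ∈ S := by
    intro w hw
    set t := proj Q f.u' f.v' w
    have htW : t ∈ f.W := f.W.sub_mem (f.W.sub_mem hw (f.W.smul_mem _ (u'_mem_W f)))
      (f.W.smul_mem _ (v'_mem_W f))
    have ht : t ∈ S := by
      have hp := proj_perp f.p' w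
      set z := f.u' + t + (-Q t) • f.v'
      have hz : z ∈ f.W := f.W.add_mem (f.W.add_mem (u'_mem_W f) htW) (f.W.smul_mem _ (v'_mem_W f))
      have hQz : Q z = 0 := by
        simp only [z, map_add', Orth.map_smul', QuadraticMap.polar_add_left,
          QuadraticMap.polar_smul_right, smul_eq_mul, f.p'.hu, f.p'.hv, f.p'.huv,
          QuadraticMap.polar_comm _ f.u' t, hp.1, hp.2, t]
        ring
      have hzS : z ∈ S := by
        by_cases hz0 : z = 0
        · rw [hz0]; exact S.zero_mem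
        · exact hne hz hQz hz0
      have h1 := S.sub_mem (S.sub_mem hzS hu') (S.smul_mem (-Q t) hv')
      rwa [show z - f.u' - (-Q t) • f.v' = t by simp only [z]; abel] at h1
    rw [proj_add (Q := Q) f.u' f.v' w]
    exact S.add_mem (S.add_mem (S.smul_mem _ hu') (S.smul_mem _ hv')) ht
  intro y hy
  have e := proj_add (Q := Q) f.u f.v y
  rw [show B y f.u = 0 by rw [QuadraticMap.polar_comm]; exact hy, zero_smul, add_zero] at e
  rw [e]
  exact S.add_mem (S.smul_mem _ hu) (hW _ (proj_mem_W f y))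

set_option synthInstance.maxHeartbeats 400000 in
/-- A normal `p`-subgroup of the stabiliser of `⟨u⟩` lies in `NR`. -/
theorem normal_pgroup_le (p : ℕ) [Fact p.Prime] [CharP F p] (N : Subgroup Ω)
    (hp : IsPGroup p N) (hfix : ∀ g ∈ N, ∃ c : F, act g.1 f.u = c • f.u)
    (hnorm : ∀ (h g : Ω), (∃ c : F, act h.1 f.u = c • f.u) → g ∈ N → h * g * h⁻¹ ∈ N) :
    ∀ g ∈ N, (g : Iso) ∈ NR Q (F ∙ f.u) := by
  classical
  have hone : ∀ g ∈ N, act g.1 f.u = f.u := by
    intro g hg
    obtain ⟨c, hc⟩ := hfix g hg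
    obtain ⟨k, hk⟩ := hp ⟨g, hg⟩
    have hpow : ∀ j : ℕ, act (g.1 ^ j) f.u = c ^ j • f.u := by
      intro j
      induction j with
      | zero => rw [pow_zero, act_one, pow_zero, one_smul]
      | succ j ih => rw [pow_succ, act_mul, hc, map_smul, ih, smul_smul, pow_succ']
    have h1 : g.1 ^ p ^ k = 1 := congrArg (fun x : N => (x.1 : Ω).1) hk
    have h2 := hpow (p ^ k)
    rw [h1, act_one] at h2
    have h3 : c ^ p ^ k = 1 := by
      by_contra h4
      have h5 : (c ^ p ^ k - 1) • f.u = 0 := by rw [sub_smul, one_smul, ← h2, sub_self]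
      exact f.p.ne_zero.1 ((smul_eq_zero.1 h5).resolve_left (sub_ne_zero.2 h4))
    have h6 : (c - 1) ^ p ^ k = 0 := by rw [sub_pow_char_pow, h3, one_pow, sub_self]
    rw [hc, sub_eq_zero.1 (eq_zero_of_pow_eq_zero h6), one_smul]
  have hperp : ∀ g ∈ N, ∀ y, B f.u y = 0 → B f.u (act g.1 y) = 0 := fun g hg y hy => by
    nth_rw 1 [← hone g hg]
    rw [act_polar, hy]
  have hdec : ∀ y, B f.u y = 0 → y = B y f.v • f.u + proj Q f.u f.v y := fun y hy => by
    have e := proj_add (Q := Q) f.u f.v y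
    rwa [show B y f.u = 0 by rw [QuadraticMap.polar_comm]; exact hy, zero_smul, add_zero] at e
  have hWperp : ∀ w ∈ f.W, B f.u w = 0 := fun w hw => (f.mem_W.1 hw).1
  let act' : N → ↥f.W → ↥f.W := fun g w => ⟨proj Q f.u f.v (act g.1.1 w.1), proj_mem_W f _⟩
  have hprojW : ∀ w ∈ f.W, proj Q f.u f.v w = w := fun w hw => by
    rw [proj, QuadraticMap.polar_comm _ w f.v, (f.mem_W.1 hw).2, QuadraticMap.polar_comm _ w f.u,
      (f.mem_W.1 hw).1]
    simp
  have hprojadd : ∀ (a : F) (y : Vec), proj Q f.u f.v (a • f.u + y) = proj Q f.u f.v y := by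
    intro a y
    simp only [proj, QuadraticMap.polar_add_left, QuadraticMap.polar_smul_left,
      polar_self_zero f.p.hu, f.p.huv, smul_eq_mul, mul_zero, mul_one, zero_add, add_smul]
    abel
  letI inst : MulAction N ↥f.W :=
    { smul := act'
      one_smul := fun w => Subtype.ext (by
        show proj Q f.u f.v (act (1 : Iso) w.1) = w.1
        rw [act_one, hprojW _ w.2])
      mul_smul := fun g h w => Subtype.ext (by
        show proj Q f.u f.v (act (g.1.1 * h.1.1) w.1) =
          proj Q f.u f.v (act g.1.1 (proj Q f.u f.v (act h.1.1 w.1)))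
        have e := hdec _ (hperp h.1 h.2 w.1 (hWperp _ w.2))
        rw [act_mul]
        nth_rw 1 [e]
        rw [map_add, map_smul, hone g.1 g.2, hprojadd]) }
  have hsm : ∀ (g : N) (w : ↥f.W), ((g • w : ↥f.W) : Vec) = proj Q f.u f.v (act g.1.1 w.1) :=
    fun _ _ => rfl
  have h0 : (0 : ↥f.W) ∈ MulAction.fixedPoints N ↥f.W := fun g => Subtype.ext (by
    rw [hsm]
    simp [proj, QuadraticMap.polar])
  have hdvd : p ∣ Nat.card ↥f.W := by
    haveI : Fintype ↥f.W := Fintype.ofFinite _
    rw [Nat.card_eq_fintype_card, Module.card_eq_pow_finrank (K := F) (V := ↥f.W)]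
    refine dvd_pow ?_ (by have := finrank_W hQ f; omega)
    obtain ⟨e, he, hF⟩ := FiniteField.card F p
    rw [hF]
    exact dvd_pow_self p e.pos.ne'
  obtain ⟨w, hwfix, hw0⟩ := hp.exists_fixed_point_of_prime_dvd_card_of_fixed_point _ hdvd h0
  let S : Submodule F Vec :=
    { carrier := {y | B f.u y = 0 ∧ ∀ g ∈ N, act g.1 y - y ∈ (F ∙ f.u)}
      zero_mem' := ⟨by simp [QuadraticMap.polar], fun g _ => by simp⟩
      add_mem' := fun {y z} hy hz => ⟨by rw [QuadraticMap.polar_add_right, hy.1, hz.1, add_zero],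
        fun g hg => by
          rw [map_add, add_sub_add_comm]
          exact Submodule.add_mem _ (hy.2 g hg) (hz.2 g hg)⟩
      smul_mem' := fun a y hy => ⟨by rw [QuadraticMap.polar_smul_right, hy.1, smul_zero],
        fun g hg => by
          rw [map_smul, ← smul_sub]
          exact Submodule.smul_mem _ a (hy.2 g hg)⟩ }
  have hu : f.u ∈ S := ⟨polar_self_zero f.p.hu, fun g hg => by
    rw [hone g hg, sub_self]; exact Submodule.zero_mem _⟩
  have hwS : w.1 ∈ S := ⟨hWperp _ w.2, fun g hg => by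
    have h1 := congrArg Subtype.val (hwfix ⟨g, hg⟩)
    rw [hsm] at h1
    rw [hdec _ (hperp g hg w.1 (hWperp _ w.2)), h1, add_sub_cancel_right]
    exact Submodule.smul_mem _ _ (Submodule.mem_span_singleton_self _)⟩
  have hwu : w.1 ∉ (F ∙ f.u) := fun h => by
    obtain ⟨a, ha⟩ := Submodule.mem_span_singleton.1 h
    have h2 := (f.mem_W.1 w.2).2
    rw [← ha, QuadraticMap.polar_smul_right, f.p.hvu, smul_eq_mul, mul_one] at h2
    exact hw0 (Subtype.ext (by rw [← ha, h2, zero_smul]; rfl))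
  have hall := stab_irreducible hQ f hn S hu (fun y hy => hy.1) (fun z v hz hzv hzW hvW y hy => by
    set e := eich z v hz hzv
    have heu : act e f.u = f.u := act_eich_fix hz hzv (f.mem_W.1 hzW).1 (f.mem_W.1 hvW).1
    refine ⟨by nth_rw 1 [← heu]; rw [act_polar, hy.1], fun g hg => ?_⟩
    let eΩ : Ω := ⟨e, eGroup_mem_omega hQ f hn (eich_mem hz hzv trivial trivial)⟩
    have hg' : eΩ⁻¹ * g * eΩ⁻¹⁻¹ ∈ N := hnorm eΩ⁻¹ g ⟨1, by
      show act e⁻¹ f.u = _
      nth_rw 1 [← heu]
      rw [Spinor.act_inv_cancel, one_smul]⟩ hg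
    obtain ⟨a, ha⟩ := Submodule.mem_span_singleton.1 (hy.2 _ hg')
    refine Submodule.mem_span_singleton.2 ⟨a, ?_⟩
    have h1 := congrArg (act e) ha
    rw [map_smul, heu, map_sub] at h1
    rw [h1]
    congr 1
    show act e (act (e⁻¹ * g.1 * e⁻¹⁻¹) y) = _
    rw [inv_inv, act_mul, act_mul, Orth.act_cancel_inv]) hwS hwu
  intro g hg
  refine ⟨fun r hr => ?_, fun y hy => (hall y (hy _ (Submodule.mem_span_singleton_self _))).2 g hg⟩
  obtain ⟨a, rfl⟩ := Submodule.mem_span_singleton.1 hr
  rw [map_smul, hone g hg]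

omit f hn in
/-- The common fixed vectors of the Eichler transformations at `u` are multiples of `u`. -/
theorem fixed_eich {u : Vec} (hu : Q u = 0) (hu0 : u ≠ 0) (hn3 : 3 ≤ Fintype.card ι) {x : Vec}
    (hx : ∀ (w : Vec) (huw : B u w = 0), act (eich u w hu huw) x = x) : x ∈ (F ∙ u) := by
  have hxu : B x u = 0 := by
    by_contra h
    have hle : LinearMap.ker (polB Q u) ≤ (F ∙ u) := fun w hw => by
      have huw : B u w = 0 := hw
      have h1 := hx w huw
      rw [act_eich] at h1
      refine (Submodule.smul_mem_iff _ h).1 (Submodule.mem_span_singleton.2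
        ⟨B x w + Q w * B x u, ?_⟩)
      rw [add_smul]
      linear_combination (norm := module) (-1 : F) • h1
    have h1 := Submodule.finrank_mono hle
    have h2 := LinearMap.finrank_range_add_finrank_ker (polB Q u)
    have h3 : finrank F ↥(LinearMap.range (polB Q u)) ≤ 1 :=
      (Submodule.finrank_le _).trans (by simp)
    have h4 : finrank F ↥(F ∙ u) ≤ 1 := (finrank_span_le_card _).trans (by simp)
    rw [Module.finrank_pi] at h2
    omega
  have hperp : x ∈ (polB Q).orthogonal ((polB Q).orthogonal (F ∙ u)) := mem_orth.2 fun w hw => by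
    have huw : B u w = 0 := mem_orth.1 hw u (Submodule.mem_span_singleton_self u)
    have h1 := hx w huw
    rw [act_eich, hxu] at h1
    simp at h1
    rcases h1 with h2 | h2
    · rw [QuadraticMap.polar_comm]; exact h2
    · exact absurd h2 hu0
  rwa [LinearMap.BilinForm.orthogonal_orthogonal (show (polB Q).Nondegenerate from hQ) polB_refl]
    at hperp

omit f hn in
/-- Duals of independent vectors of a totally singular subspace. -/
theorem exists_duals (R : Submodule F Vec) {j : ℕ} (hj : j ≤ finrank F R) :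
    ∃ (u v : Fin j → Vec), (∀ i, u i ∈ R) ∧ ∀ i l, B (u i) (v l) = if i = l then 1 else 0 := by
  classical
  let b := Module.finBasis F R
  have hext : ∀ l : Fin j, ∃ φ : Vec →ₗ[F] F, φ.comp R.subtype = b.coord (Fin.castLE hj l) :=
    fun l => LinearMap.exists_extend _
  choose φ hφ using hext
  refine ⟨fun i => (b (Fin.castLE hj i) : Vec), fun l => ((polB Q).toDual hQ).symm (φ l),
    fun i => (b _).2, fun i l => ?_⟩
  rw [QuadraticMap.polar_comm]
  refine (LinearMap.BilinForm.apply_toDual_symm_apply (hB := hQ) (φ l) _).trans ?_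
  have h1 := LinearMap.congr_fun (hφ l) (b (Fin.castLE hj i))
  simp [Module.Basis.coord_apply, Module.Basis.repr_self, Finsupp.single_apply] at h1
  exact h1

/-- Lower bounds for `NR` of larger subspaces. -/
theorem le_natCard_NR {R : Submodule F Vec} (hR : ∀ r ∈ R, Q r = 0) {k : ℕ}
    (hk : finrank F R = k) (h2k : 2 ≤ k) (N : Subgroup Ω)
    (hN : ∀ g : Ω, g.1 ∈ NR Q R → g ∈ N) :
    Fintype.card F ^ (2 * (Fintype.card ι - k) - 3) ≤ Nat.card N ∧
      (3 ≤ k → Fintype.card F ^ (3 * (Fintype.card ι - k) - 6) ≤ Nat.card N) := by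
  classical
  have hRR := singular_polar hR
  have hrank : finrank F ↥((polB Q).orthogonal R) = Fintype.card ι - k := by
    rw [LinearMap.BilinForm.finrank_orthogonal (show (polB Q).Nondegenerate from hQ),
      Module.finrank_pi, hk]
  -- the parameter spaces
  let Wi : ∀ {j : ℕ}, (Fin j → Vec) → (i : ℕ) → Submodule F Vec := fun {j} v i =>
    (polB Q).orthogonal R ⊓
      LinearMap.ker (LinearMap.pi fun l : {l : Fin j // (l : ℕ) ≤ i} => polB Q (v l.1))
  have hWi : ∀ {j : ℕ} (u v : Fin j → Vec), (∀ i, u i ∈ R) →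
      (∀ i l, B (u i) (v l) = if i = l then 1 else 0) → ∀ i, i < j →
      Fintype.card ι - k ≤ finrank F ↥(Wi v i) + (i + 1) := by
    intro j u v hu huv i hi
    let φ : ↥((polB Q).orthogonal R) →ₗ[F] ({l : Fin j // (l : ℕ) ≤ i} → F) :=
      (LinearMap.pi fun l => polB Q (v l.1)).domRestrict _
    have h := LinearMap.finrank_range_add_finrank_ker φ
    have hr : finrank F ↥(LinearMap.range φ) ≤ i + 1 := by
      refine (Submodule.finrank_le _).trans ?_
      rw [Module.finrank_pi]
      have hinj : Function.Injective (fun l : {l : Fin j // (l : ℕ) ≤ i} => (⟨l.1, by omega⟩ : Fin (i + 1))) :=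
        fun a b e => Subtype.ext (Fin.ext (congrArg (fun x : Fin (i + 1) => (x : ℕ)) e))
      simpa using Fintype.card_le_of_injective _ hinj
    have hker : finrank F ↥(LinearMap.ker φ) = finrank F ↥(Wi v i) := by
      rw [(Submodule.equivMapOfInjective _ (Submodule.injective_subtype _) _).finrank_eq]
      have e : (LinearMap.ker φ).map ((polB Q).orthogonal R).subtype = Wi v i := by
        rw [LinearMap.ker_domRestrict, Submodule.map_comap_subtype]
      rw [e]
    rw [hrank] at h
    omega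
  have hWmem : ∀ {j : ℕ} {v : Fin j → Vec} {i : ℕ} {w : Vec}, w ∈ Wi v i →
      (∀ r ∈ R, B r w = 0) ∧ ∀ l : Fin j, (l : ℕ) ≤ i → B (v l) w = 0 := by
    intro j v i w hw
    obtain ⟨h1, h2⟩ := Submodule.mem_inf.1 hw
    refine ⟨fun r hr => mem_orth.1 h1 r hr, fun l hl => ?_⟩
    exact congrFun (LinearMap.mem_ker.1 h2) ⟨l, hl⟩
  -- triangular evaluation
  have hE : ∀ {j : ℕ} (u v : Fin j → Vec) (hu : ∀ i, u i ∈ R)
      (huv : ∀ i l, B (u i) (v l) = if i = l then 1 else 0) (i : Fin j) (w : ↥(Wi v i)),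
      (∀ l : Fin j, l < i →
        act (eich (u i) w.1 (hR _ (hu i)) ((hWmem w.2).1 _ (hu i))) (v l) = v l) ∧
      act (eich (u i) w.1 (hR _ (hu i)) ((hWmem w.2).1 _ (hu i))) (v i) =
        v i + w.1 - Q w.1 • u i := by
    intro j u v hu huv i w
    have hvu : ∀ l, B (v l) (u i) = if i = l then 1 else 0 := fun l => by
      rw [QuadraticMap.polar_comm]; exact huv i l
    refine ⟨fun l hl => ?_, ?_⟩
    · rw [act_eich, hvu, if_neg hl.ne', (hWmem w.2).2 l (Fin.le_def.1 hl.le)]
      simp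
    · rw [act_eich, hvu, if_pos rfl, (hWmem w.2).2 i le_rfl]
      simp
  have hinjE : ∀ {j : ℕ} (u v : Fin j → Vec) (hu : ∀ i, u i ∈ R)
      (huv : ∀ i l, B (u i) (v l) = if i = l then 1 else 0) (i : Fin j) (w w' : ↥(Wi v i)),
      act (eich (u i) w.1 (hR _ (hu i)) ((hWmem w.2).1 _ (hu i))) (v i) =
        act (eich (u i) w'.1 (hR _ (hu i)) ((hWmem w'.2).1 _ (hu i))) (v i) → w = w' := by
    intro j u v hu huv i w w' e
    rw [(hE u v hu huv i w).2, (hE u v hu huv i w').2] at e
    have h1 := congrArg (fun x => B (v i) x) e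
    simp only [QuadraticMap.polar_sub_right, QuadraticMap.polar_add_right,
      QuadraticMap.polar_smul_right, (hWmem w.2).2 i le_rfl, (hWmem w'.2).2 i le_rfl,
      QuadraticMap.polar_comm _ (v i) (u i), huv, if_pos, smul_eq_mul, mul_one, add_zero] at h1
    have h2 : Q w.1 = Q w'.1 := by linear_combination -h1
    rw [h2] at e
    exact Subtype.ext (add_left_cancel (sub_left_injective e))
  have hmemΩ : ∀ {u w : Vec} (hu : Q u = 0) (huw : B u w = 0), eich u w hu huw ∈ Ω :=
    fun hu huw => eGroup_mem_omega hQ f hn (eich_mem hu huw trivial trivial)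
  have cardW : ∀ (S : Submodule F Vec) (d : ℕ), d ≤ finrank F S →
      Fintype.card F ^ d ≤ Nat.card S := fun S d hd => by
    haveI : Fintype S := Fintype.ofFinite _
    rw [Nat.card_eq_fintype_card, Module.card_eq_pow_finrank (K := F) (V := S)]
    exact Nat.pow_le_pow_right Fintype.card_pos hd
  constructor
  · obtain ⟨u, v, hu, huv⟩ := exists_duals hQ R (j := 2) (by omega)
    let E : ∀ i : Fin 2, ↥(Wi v i) → Iso := fun i w =>
      eich (u i) w.1 (hR _ (hu i)) ((hWmem w.2).1 _ (hu i))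
    have hEN : ∀ i w, E i w ∈ NR Q R := fun i w => eich_mem_NR hRR _ _ (hu i) (hWmem w.2).1
    let Φ : ↥(Wi v (0 : Fin 2)) × ↥(Wi v (1 : Fin 2)) → N := fun x =>
      ⟨⟨E 0 x.1 * E 1 x.2, mul_mem (hmemΩ _ _) (hmemΩ _ _)⟩,
        hN _ (mul_mem (hEN _ _) (hEN _ _))⟩
    have hΦ : Function.Injective Φ := by
      rintro ⟨a, b⟩ ⟨a', b'⟩ e
      have e1 : E 0 a * E 1 b = E 0 a' * E 1 b' := congrArg (fun x : N => (x.1 : Iso)) e
      have e2 := congrArg (fun g => act g (v 0)) e1
      simp only [act_mul] at e2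
      rw [(hE u v hu huv 1 b).1 0 (by decide), (hE u v hu huv 1 b').1 0 (by decide)] at e2
      obtain rfl := hinjE u v hu huv 0 a a' e2
      obtain rfl := hinjE u v hu huv 1 b b' (congrArg (fun g => act g (v 1)) (mul_left_cancel e1))
      rfl
    have h1 := Nat.card_le_card_of_injective Φ hΦ
    rw [Nat.card_prod] at h1
    have d0 := hWi u v hu huv 0 (by norm_num)
    have d1 := hWi u v hu huv 1 (by norm_num)
    refine le_trans ?_ h1
    refine le_trans ?_ (Nat.mul_le_mul (cardW _ (Fintype.card ι - k - 1) (by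
      show _ ≤ finrank F ↥(Wi v 0); omega)) (cardW _ (Fintype.card ι - k - 2) (by
      show _ ≤ finrank F ↥(Wi v 1); omega)))
    rw [← pow_add]
    exact Nat.pow_le_pow_right Fintype.card_pos (by omega)
  · intro h3k
    obtain ⟨u, v, hu, huv⟩ := exists_duals hQ R (j := 3) (by omega)
    let E : ∀ i : Fin 3, ↥(Wi v i) → Iso := fun i w =>
      eich (u i) w.1 (hR _ (hu i)) ((hWmem w.2).1 _ (hu i))
    have hEN : ∀ i w, E i w ∈ NR Q R := fun i w => eich_mem_NR hRR _ _ (hu i) (hWmem w.2).1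
    let Φ : ↥(Wi v (0 : Fin 3)) × ↥(Wi v (1 : Fin 3)) × ↥(Wi v (2 : Fin 3)) → N := fun x =>
      ⟨⟨E 0 x.1 * (E 1 x.2.1 * E 2 x.2.2),
          mul_mem (hmemΩ _ _) (mul_mem (hmemΩ _ _) (hmemΩ _ _))⟩,
        hN _ (mul_mem (hEN _ _) (mul_mem (hEN _ _) (hEN _ _)))⟩
    have hΦ : Function.Injective Φ := by
      rintro ⟨a, b, c⟩ ⟨a', b', c'⟩ e
      have e1 : E 0 a * (E 1 b * E 2 c) = E 0 a' * (E 1 b' * E 2 c') :=
        congrArg (fun x : N => (x.1 : Iso)) e
      have e2 := congrArg (fun g => act g (v 0)) e1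
      simp only [act_mul] at e2
      rw [(hE u v hu huv 2 c).1 0 (by decide), (hE u v hu huv 2 c').1 0 (by decide),
        (hE u v hu huv 1 b).1 0 (by decide), (hE u v hu huv 1 b').1 0 (by decide)] at e2
      obtain rfl := hinjE u v hu huv 0 a a' e2
      have e3 := mul_left_cancel e1
      have e4 := congrArg (fun g => act g (v 1)) e3
      simp only [act_mul] at e4
      rw [(hE u v hu huv 2 c).1 1 (by decide), (hE u v hu huv 2 c').1 1 (by decide)] at e4
      obtain rfl := hinjE u v hu huv 1 b b' e4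
      obtain rfl := hinjE u v hu huv 2 c c' (congrArg (fun g => act g (v 2)) (mul_left_cancel e3))
      rfl
    have h1 := Nat.card_le_card_of_injective Φ hΦ
    rw [Nat.card_prod, Nat.card_prod] at h1
    have d0 := hWi u v hu huv 0 (by norm_num)
    have d1 := hWi u v hu huv 1 (by norm_num)
    have d2 := hWi u v hu huv 2 (by norm_num)
    refine le_trans ?_ h1
    refine le_trans ?_ (Nat.mul_le_mul (cardW _ (Fintype.card ι - k - 1) (by
      show _ ≤ finrank F ↥(Wi v 0); omega)) (Nat.mul_le_mul (cardW _ (Fintype.card ι - k - 2) (by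
      show _ ≤ finrank F ↥(Wi v 1); omega)) (cardW _ (Fintype.card ι - k - 3) (by
      show _ ≤ finrank F ↥(Wi v 2); omega))))
    rw [← pow_add, ← pow_add]
    exact Nat.pow_le_pow_right Fintype.card_pos (by omega)

end Cfsg.Agent.AutPOmega.Unipotent
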